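import Cfsg.Agent.H14.CBSpec
import Cfsg.Agent.H14.FEKit
import Cfsg.Agent.S0215

/-! S1308, tower CB, slot `ZK`. -/

set_option autoImplicit false

namespace H62.CBZK

open Cfsg Subgroup MulAction H14 H98 H1.Gold H31.S2 H14.GC H14.FE H14.NF H14.CB
open scoped commutatorElement

universe u

variable {X : Type u} [Group X] [Finite X]

theorem syl_conj {A T T1 D : Subgroup X} [A.Normal] (hsq : ∀ g : X, g * g ∈ A)
    (h : IsSyl 2 T D) (h' : IsSyl 2 T1 D) : ∃ b ∈ A, cj b T = T1 := by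
  have : Fact (Nat.Prime 2) := ⟨Nat.prime_two⟩
  obtain ⟨g, hg, rfl⟩ := h.exists_cj_eq h'
  have h2 : IsPGroup 2 (D.map (QuotientGroup.mk' A)) := isPGroup_iff_forall.2 (by
    rintro _ ⟨x, -, rfl⟩
    exact ⟨1, by rw [← map_pow, pow_one, pow_two]; exact (QuotientGroup.eq_one_iff _).2 (hsq x)⟩)
  obtain ⟨s, hs, e⟩ := ((h.map (QuotientGroup.mk' A)).eq_of_isPGroup h2).ge ⟨g, hg, rfl⟩
  refine ⟨g * s⁻¹, ?_, by rw [← cj_cj, cj_eq_self_of_mem (inv_mem hs)]⟩
  rw [← QuotientGroup.eq_one_iff]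
  show QuotientGroup.mk' A (g * s⁻¹) = 1
  rw [map_mul, map_inv, e, mul_inv_cancel]

theorem inv_syl {A U D : Subgroup X} (hc : ∀ g h : X, ⁅g, h⁆ ∈ A) (hni : NI (D ⊓ A))
    (hU : IsPGroup 2 U) (hn : U ≤ nor D) : ∃ T1, IsSyl 2 T1 D ∧ T1 ≤ cen U := by
  obtain ⟨P, hP, hl, hs⟩ := exists_inv_syl hU hn
  refine ⟨_, hs, fun y hy u hu => commutatorElement_eq_one_iff_mul_comm.1 ?_⟩
  exact hni.eq_one hP.isPGroup (comm_mem (hl hu) hy.1) ⟨comm_mem_right (hn hu) hy.2, hc _ _⟩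

theorem jobX : JZK.{u} := by
  intro X _ _ A T D hA hT hAT hS hni hcen t ht t1 ⟨x0, hx0⟩
  have : Fact (Nat.Prime 2) := ⟨Nat.prime_two⟩
  have tt : t * t = 1 := hT t ht
  have ti : t⁻¹ = t := inv_eq_of_mul_eq_one_right tt
  have dec : ∀ g : X, ∃ k ∈ A, ∃ s ∈ T, g = k * s := fun g =>
    (mem_sup_right_norm (N := A) (H := T) le_normalizer_of_normal).1 (hAT ▸ mem_top g)
  have hsq : ∀ g : X, g * g ∈ A := fun g => by
    obtain ⟨k, hk, s, hs, rfl⟩ := dec g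
    have := mul_mem hk (hA.conj_mem k hk s)
    rw [inv_eq_of_mul_eq_one_right (hT s hs)] at this
    simpa only [mul_assoc] using this
  have hc : ∀ g h : X, ⁅g, h⁆ ∈ A := fun g h => by
    have := mul_mem (mul_mem (hsq g) (hsq (g⁻¹ * h))) (hsq h⁻¹)
    convert this using 1
    rw [commutatorElement_def]; group
  have tord : orderOf t = 2 := orderOf_eq_prime (by rw [pow_two, tt]) t1
  have t2 : IsPGroup 2 (zpowers t) := isPGroup_zpowers (k := 1) (by rw [pow_one, pow_two, tt])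
  obtain ⟨x, hx1, hx2⟩ : ∃ x : X, x * t * x⁻¹ ∈ cen1 t ∧ x * t * x⁻¹ ≠ t := by
    by_contra hno
    push Not at hno
    obtain ⟨P, hP⟩ := t2.exists_le_sylow
    have htP : t ∈ (P : Subgroup X) := hP (mem_zpowers t)
    have hPc : (P : Subgroup X) ≤ cen1 t := by
      by_contra hn
      have hlt : (P : Subgroup X) ⊓ cen1 t < P :=
        lt_of_le_of_ne inf_le_left fun e => hn (e ▸ inf_le_right)
      obtain ⟨g, hg, hg'⟩ := SetLike.exists_of_lt (lt_inf_normalizer P.isPGroup' hlt)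
      have h1 := conj_mem_of_mem_normalizer hg.2
        (show t ∈ (P : Subgroup X) ⊓ cen1 t from ⟨htP, mem_centralizer_singleton_iff.2 rfl⟩)
      exact hg' ⟨hg.1, mem_centralizer_singleton_iff.2 (mul_inv_eq_iff_eq_mul.1 (hno g h1.2))⟩
    obtain ⟨N, hN, hodd, hN'⟩ := Cfsg.Agent.S0215.result P t tord htP fun g hg => hno g (hPc hg)
    refine hx0 (le_opp_of_odd le_top le_normalizer_of_normal hodd ?_)
    rw [← commutatorElement_inv]
    exact inv_mem (hN' x0)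
  obtain ⟨k, hk, s, hs, rfl⟩ := dec x
  have hst : s * t * s⁻¹ = t := by
    have h1 := hT _ (mul_mem hs ht)
    rw [inv_eq_of_mul_eq_one_right (hT s hs), mul_assoc] 
    rw [← mul_assoc, mul_eq_one_iff_eq_inv, ti] at h1
    rw [← mul_assoc]; exact h1
  have e : k * s * t * (k * s)⁻¹ = k * t * k⁻¹ := by
    conv_rhs => rw [← hst]
    group
  rw [e] at hx1 hx2
  have htD : Inv t := ⟨t1, tt⟩
  have h1 : k * t * k⁻¹ ∉ D := fun h => by
    refine hni (k * t * k⁻¹ * t) ⟨mul_mem h (hS.le ht), ?_⟩ ⟨fun e => hx2 ?_, ?_⟩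
    · have := hc k t
      rwa [commutatorElement_def, ti] at this
    · rw [mul_eq_one_iff_eq_inv, ti] at e; exact e
    · have c : k * t * k⁻¹ * t = t * (k * t * k⁻¹) := mem_centralizer_singleton_iff.1 hx1
      calc k * t * k⁻¹ * t * (k * t * k⁻¹ * t) = k * t * k⁻¹ * t * (t * (k * t * k⁻¹)) := by
            rw [← c]
        _ = k * t * k⁻¹ * (t * t) * (k * t * k⁻¹) := by group
        _ = k * t * k⁻¹ * (k * t * k⁻¹) := by rw [tt, mul_one]
        _ = k * (t * t) * k⁻¹ := by group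
        _ = 1 := by rw [tt]; group
  have u2 : IsPGroup 2 (zpowers (k * t * k⁻¹)) := isPGroup_zpowers (k := 1) (by
    rw [pow_one, pow_two]
    calc k * t * k⁻¹ * (k * t * k⁻¹) = k * (t * t) * k⁻¹ := by group
      _ = 1 := by rw [tt]; group)
  obtain ⟨T1, hT1, c1⟩ := inv_syl hc hni u2 (zpowers_le.2 (hcen t (hS.le ht) htD hx1))
  have hn2 : T1 ≤ nor (cj k D) := fun g hg => by
    rw [nor, ← cj_normalizer, mem_cj]
    refine hcen t (hS.le ht) htD (mem_centralizer_singleton_iff.2 ?_)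
    have := c1 hg _ (mem_zpowers _)
    calc k⁻¹ * g * k * t = k⁻¹ * (g * (k * t * k⁻¹)) * k := by group
      _ = t * (k⁻¹ * g * k) := by rw [← this]; group
  have hni2 : NI (cj k D ⊓ A) := fun d hd h2 => by
    refine hni (k⁻¹ * d * k) ⟨mem_cj.1 hd.1, A.mul_mem (A.mul_mem (A.inv_mem hk) hd.2) hk⟩
      ⟨fun e => h2.1 ?_, ?_⟩
    · calc d = k * (k⁻¹ * d * k) * k⁻¹ := by group
        _ = 1 := by rw [e]; group
    · calc k⁻¹ * d * k * (k⁻¹ * d * k) = k⁻¹ * (d * d) * k := by group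
        _ = 1 := by rw [h2.2]; group
  obtain ⟨T2, hT2, c2⟩ := inv_syl hc hni2 hT1.isPGroup hn2
  obtain ⟨b, hb, rfl⟩ := syl_conj hsq hS hT1
  obtain ⟨b2, hb2, rfl⟩ := syl_conj hsq (hS.cj k) hT2
  refine ⟨b⁻¹ * (b2 * k), mul_mem (inv_mem hb) (mul_mem hb2 hk), ?_, fun e => h1 ?_⟩
  · rw [← cj_cj, ← cj_cj, cj_le_iff, inv_inv, cen, cj_centralizer]
    exact c2
  · have e2 : cj b2 (cj k T) = cj b T := by
      rw [← cj_cj, ← cj_cj] at e
      rw [← cj_cj_inv b (cj b2 (cj k T)), e]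
    rw [e2] at hT2
    exact hT1.le (hT2.le_of_le_normalizer' u2 (zpowers_le.2 (conj_mem_cj (hS.le ht)))
      (le_normalizer_of_le_centralizer (le_centralizer_iff.1 c1)) (mem_zpowers _))

end H62.CBZK
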