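import Cfsg.Agent.H64.SFMod
import Cfsg.Agent.H46.SFY

/-! STD-F4: the fixed points of the second class of graph involutions of `E₆` (`JobMZ`). -/

set_option autoImplicit false
set_option linter.unusedSectionVars false

namespace H62.SFMZ

open H64 Subgroup

section Abs

variable {Φ ι : Type*} {R : WData Φ ι} {G : Type*} [Group G] {T : RGD R G} [Finite Φ]

/-- Uniqueness in the Bruhat decomposition. -/
theorem uniq {u m a v n b : G} (hu : u ∈ T.U) (hm : m ∈ T.N) (ha : a ∈ T.U) (ha' : m * a * m⁻¹ ∈ T.V)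
    (hv : v ∈ T.U) (hn : n ∈ T.N) (hb : b ∈ T.U) (hb' : n * b * n⁻¹ ∈ T.V)
    (e : u * m * a = v * n * b) : u = v ∧ m = n ∧ a = b := by
  obtain ⟨w, hw⟩ := T.exists_act hm
  obtain ⟨w', hw'⟩ := T.exists_act hn
  obtain rfl : w = w' := RGD.Cell.unique (((hw.cell hm).mul_left (T.U_le_B hu)).mul_right (T.U_le_B ha))
    (e ▸ ((hw'.cell hn).mul_left (T.U_le_B hv)).mul_right (T.U_le_B hb))
  have h1 : n * m⁻¹ ∈ T.H := by
    simpa using T.inv_mul_mem_H (inv_mem hn) (inv_mem hm) hw'.inv hw.inv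
  have h2 : v⁻¹ * u * (n * m⁻¹)⁻¹ = 1 := T.eq_one_of_mem_B_V
    (mul_mem (T.U_le_B (mul_mem (inv_mem hv) hu)) (T.H_le_B (inv_mem h1))) (by
      have : v⁻¹ * u * (n * m⁻¹)⁻¹ = n * b * n⁻¹ * (n * m⁻¹ * (m * a * m⁻¹)⁻¹ * (n * m⁻¹)⁻¹) := by
        rw [show u = v * n * b * a⁻¹ * m⁻¹ by rw [← e]; group]; group
      exact this ▸ mul_mem hb' (T.h_conj_gen h1 (inv_mem ha')))
  rw [mul_inv_eq_one] at h2
  have h3 := T.eq_one_of_mem_U_H (mul_mem (inv_mem hv) hu) (h2 ▸ h1)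
  rw [h3, eq_comm, mul_inv_eq_one] at h2
  rw [inv_mul_eq_one] at h3
  subst h2 h3
  exact ⟨rfl, rfl, mul_left_cancel e⟩

/-- A graph automorphism `γ` and the highest root `θ`. -/
structure Gr (T : RGD R G) (γ : MulAut G) (ρ : Φ → Φ) (θ : Φ) : Prop where
  gx : ∀ r, ∀ x ∈ T.X r, γ x ∈ T.X (ρ r)
  gg : ∀ g, γ (γ g) = g
  rr : ∀ r, ρ (ρ r) = r
  ht : ∀ r, T.ht (ρ r) = T.ht r
  pos : ∀ r, R.pos (ρ r) ↔ R.pos r
  fix : ∀ r, ρ r = r → ∀ x ∈ T.X r, γ x = x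
  com : ∀ r, ∀ x ∈ T.X r, ∀ y ∈ T.X (ρ r), x * y = y * x
  gN : ∀ m ∈ T.N, γ m ∈ T.N
  rt : ρ θ = θ
  pt : R.pos θ
  lt : ∀ r, ρ r ≠ r → T.ht r < T.ht θ
  cen : ∀ z ∈ T.X θ, ∀ u ∈ T.U, z * u = u * z

variable {γ : MulAut G} {ρ : Φ → Φ} {θ : Φ} (h : Gr T γ ρ θ)
include h

theorem Gr.gn {S : Set Φ} (hS : ∀ r ∈ S, ρ r ∈ S) {g : G} (hg : g ∈ gen T.X S) : γ g ∈ gen T.X S :=
  (gen_le (K := (gen T.X S).comap γ.toMonoidHom) fun c hc y hy => le_gen _ (hS c hc) (h.gx c y hy)) hg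

omit h in
theorem cl {S : Set Φ} (h1 : ∀ a ∈ S, R.pos a) (h2 : ∀ a ∈ S, ∀ c, R.pos c → T.ht a < T.ht c → c ∈ S) :
    T.Closed S :=
  ⟨h1, fun a ha b hb c k => h2 a ha c (k.2.2 1 (h1 a ha) (h1 b hb)) k.1⟩

theorem Gr.nc {β : Φ} (hβ : ρ β = β) (pβ : R.pos β) {y z : G} (hy : y ∈ T.X β) (hz : z ∈ T.X θ) (k : ℕ) :
    ∀ S : Set Φ, S.ncard ≤ k → (∀ a ∈ S, R.pos a) → (∀ a ∈ S, ρ a ∈ S) →
      (∀ a ∈ S, ∀ c, R.pos c → T.ht a < T.ht c → c ∈ S) → ∀ u ∈ gen T.X S, γ u = u * (y * z) →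
        y * z = 1 := by
  induction k with
  | zero =>
    intro S h0 _ _ _ u hu e
    rw [Nat.le_zero, Set.ncard_eq_zero] at h0
    rw [h0, gen_empty, mem_bot] at hu
    simpa [hu] using e.symm
  | succ k ih =>
    intro S h0 h1 h2 h3 u hu e
    rcases S.eq_empty_or_nonempty with rfl | hS
    · exact ih _ (by simp) h1 h2 h3 u hu e
    obtain ⟨α, hα, mn⟩ := Set.exists_min_image S T.ht S.toFinite hS
    have c1 : (S \ {α}).ncard ≤ k := by
      have := Set.ncard_diff_singleton_lt_of_mem hα; omega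
    have d1 : ∀ a ∈ S \ {α}, ∀ c, R.pos c → T.ht a < T.ht c → c ∈ S \ {α} := fun a ha c hc k =>
      ⟨h3 a ha.1 c hc k, by rintro rfl; exact absurd (mn a ha.1) (by omega)⟩
    have C1 := cl (T := T) (fun a ha => h1 a ha.1) d1
    obtain ⟨a, ha, u₁, hu₁, rfl⟩ := (cl h1 h3).split {α} hu
    rw [Set.inter_eq_self_of_subset_right (by simpa using hα), gen_singleton] at ha
    by_cases f : ρ α = α
    · rw [map_mul, h.fix α f a ha, mul_assoc, mul_right_inj] at e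
      exact ih _ c1 (fun a ha => h1 a ha.1) (fun a ha => ⟨h2 a ha.1, fun k => ha.2 (by
        rw [← h.rr a, show ρ a = α from k]; exact f)⟩) d1 u₁ hu₁ e
    have m1 : ρ α ∈ S \ {α} := ⟨h2 α hα, f⟩
    obtain ⟨b, hb, u₂, hu₂, rfl⟩ := C1.split {ρ α} hu₁
    rw [Set.inter_eq_self_of_subset_right (by simpa using m1), gen_singleton] at hb
    have s2 : ∀ a ∈ (S \ {α}) \ {ρ α}, ρ a ∈ (S \ {α}) \ {ρ α} := fun a ha =>
      ⟨⟨h2 a ha.1.1, fun k => ha.2 (by rw [← h.rr a, show ρ a = α from k]; rfl)⟩,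
        fun k => ha.1.2 (by rw [← h.rr a, show ρ a = ρ α from k]; exact h.rr α)⟩
    have z1 : z ∈ gen T.X S := le_gen _ (h3 α hα θ h.pt (h.lt α f)) hz
    have v1 : y * z ∈ gen T.X (S \ {α}) := by
      refine mul_mem ?_ (le_gen _ (d1 _ m1 θ h.pt (by rw [h.ht]; exact h.lt α f)) hz)
      by_cases k : β ∈ S
      · exact le_gen T.X (S := S \ {α}) ⟨k, by rintro rfl; exact f hβ⟩ hy
      · rw [T.eq_one_of_mem_X_of_closed (cl h1 h3) pβ k hy ((mul_mem_cancel_right z1).1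
          ((mul_mem_cancel_left hu).1 (e ▸ h.gn h2 hu)))]
        exact one_mem _
    have gb := h.gx _ b hb
    rw [h.rr] at gb
    have ga := h.gx _ a ha
    have e1 : a⁻¹ * γ b = 1 := T.eq_one_of_mem_X_of_closed C1 (h1 α hα) (fun k => k.2 rfl)
      (mul_mem (inv_mem ha) gb) (by
        rw [map_mul, map_mul, ← mul_assoc, ← h.com α _ gb _ ga] at e
        have : a⁻¹ * γ b = b * u₂ * (y * z) * (γ u₂)⁻¹ * (γ a)⁻¹ := by
          rw [show γ b = a * (b * u₂) * (y * z) * (γ u₂)⁻¹ * (γ a)⁻¹ by rw [← e]; group]; group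
        exact this ▸ mul_mem (mul_mem (mul_mem hu₁ v1) (inv_mem (gen_mono _ Set.diff_subset
          (h.gn s2 hu₂)))) (inv_mem (le_gen _ m1 ga)))
    rw [inv_mul_eq_one] at e1
    rw [map_mul, map_mul, ← e1, show γ a = b by rw [e1, h.gg], ← mul_assoc, ← h.com α a ha b hb, mul_assoc,
      mul_assoc, mul_assoc, mul_right_inj, mul_right_inj] at e
    exact ih _ ((Set.ncard_le_ncard Set.diff_subset).trans c1) (fun a ha => h1 a ha.1.1) s2
      (fun a ha c hc k => ⟨d1 a ha.1 c hc k, by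
        rintro rfl; rw [h.ht] at k; exact absurd (mn a ha.1.1) (by omega)⟩) u₂ hu₂ e

theorem Gr.main {z y : G} (hz : z ∈ T.X θ) (z1 : z ≠ 1) (hy : y ∈ T.Gp) (e : z * y * z⁻¹ = γ y) :
    γ y = y := by
  obtain ⟨w, hc⟩ := T.exists_cell hy
  obtain ⟨m, hm, hw⟩ := T.exists_mem_N_act w
  obtain ⟨b, hb, a, ha, rfl⟩ := hc.normal_form hm hw
  obtain ⟨u, hu, k, hk, rfl⟩ := T.mem_B.1 hb
  have hn : k * m ∈ T.N := mul_mem (T.H_le_N hk) hm
  have hw' : T.Act (k * m) w := by simpa using (T.act_H hk).mul hw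
  rw [mul_assoc u] at e ⊢
  generalize k * m = n at hn hw' e ⊢
  have aU := T.gen_Inv_le_U w ha
  have aV : n * a * n⁻¹ ∈ T.V := hw'.conj_gen (fun r hr => hr.2) ha
  have gU : ∀ g ∈ T.U, γ g ∈ T.U := fun g => h.gn fun r hr => (h.pos r).2 hr
  have gV : γ n * γ a * (γ n)⁻¹ ∈ T.V := by
    rw [← map_inv, ← map_mul, ← map_mul]
    exact h.gn (S := {r | ¬ R.pos r}) (fun r hr k => hr ((h.pos r).1 k)) aV
  have zU := T.X_le_U h.pt hz
  have z' := hw'.conj_mem (inv_mem hz)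
  have nc := fun β hβ pβ y hy => h.nc (β := β) hβ pβ (y := y) hy hz _ {r | R.pos r} le_rfl
    (fun _ h => h) (fun r hr => (h.pos r).2 hr) (fun _ _ _ h _ => h) u hu
  rw [map_mul, map_mul] at e ⊢
  by_cases p : R.pos (w.1 θ)
  · obtain ⟨e1, e2, e3⟩ := uniq (mul_mem hu (mul_mem (T.X_le_U p z') zU)) hn aU aV (gU u hu)
      (h.gN n hn) (gU a aU) gV (by
        rw [← e, ← h.cen z hz _ (T.X_le_U p z'), ← mul_assoc u, ← h.cen z hz u hu,
          mul_assoc z (u * n * a), mul_assoc _ a, ← h.cen _ (inv_mem hz) a aU]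
        group)
    have f : γ (n * z⁻¹ * n⁻¹) = n * z⁻¹ * n⁻¹ := by
      rw [map_mul, map_mul, map_inv, map_inv, ← e2, h.fix θ h.rt z hz]
    have r : ρ (w.1 θ) = w.1 θ := by
      by_contra r
      have := T.eq_one_of_mem_X_of_closed (T.closed_ge _) p (fun k => k.2.1 rfl) z'
        (le_gen T.X (c := ρ (w.1 θ)) (by exact ⟨(h.pos _).2 p, r, (h.ht _).ge⟩) (f ▸ h.gx _ _ z'))
      exact z1 (by simpa using this)
    rw [← e1, ← e2, ← e3, nc _ r p _ z' e1.symm, mul_one]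
  · obtain ⟨e1, -, -⟩ := uniq (mul_mem hu zU) hn (mul_mem (inv_mem zU) aU) (by
      simpa [mul_assoc] using mul_mem (T.X_le_V p z') aV) (gU u hu) (h.gN n hn) (gU a aU) gV (by
        rw [← e, ← h.cen z hz u hu, h.cen _ (inv_mem hz) a aU]
        group)
    exact absurd (by simpa using nc θ h.rt h.pt 1 (one_mem _) (by rw [one_mul, e1])) z1

end Abs

open Cfsg.Lie H63 H65 H64.SF H46.SF
open H68 (rhoE6)

/-- The symmetry of the roots of `E₆`. -/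
def rh (r : Rt chevE6) : Rt chevE6 := ⟨rhoE6 r, (rho_facts r r.2).1⟩

theorem tab : ∀ r : Rt chevE6, H63.ht (rh r) = H63.ht r ∧ (rh r ≠ r → H63.ht r < 11) ∧
    rhoE6 r ≠ chevE6.neg r ∧ chevE6.commTerms r (rhoE6 r) = [] ∧
    rhoE6 (chevE6.neg r) = chevE6.neg (rhoE6 r) ∧
    (0 < H63.ht r → (r : ℕ) ≠ chevE6.neg 71 ∧ chevE6.commTerms 71 r = []) ∧
    ((r : ℕ) = 71 → H63.ht r = 11 ∧ rh r = r) := by
  simp only [H63.ht, rt_E6]; decide +kernel

variable {K : Type} [Field K] [CharP K 2]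

theorem gE_nn (r : Rt chevE6) (t : K) :
    gE K (nn chevE6 (xG chevE6 K) r t) = nn chevE6 (xG chevE6 K) (rh r) t := by
  rw [nn_eq, nn_eq, map_mul, map_mul, gE_x r.2, gE_x (RS.neg_lt r), (tab r).2.2.2.2.1]; rfl

theorem grE : Gr (H64.SG.ad chevE6 K).toStB.rgd (gE K) rh ⟨71, by decide⟩ := by
  have E := stE K
  have B := (H64.SG.ad chevE6 K).toStB
  obtain ⟨t1, t2⟩ := (tab ⟨71, by decide⟩).2.2.2.2.2.2 rfl
  refine ⟨fun r y hy => ?_, gE_gE, fun r => Fin.ext (rho_facts r r.2).2.1,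
    fun r => congrArg Int.toNat (tab r).1, fun r => ?_, fun r e y hy => ?_, fun r a ha b hb => ?_,
    fun m hm => ?_, t2, pos_iff_ht.2 (by omega), fun r e => ?_, fun z hz u hu => ?_⟩
  · obtain ⟨a, rfl⟩ := E.mem_XR.1 hy
    exact (gE_x r.2 a).symm ▸ x_mem_XR chevE6 _ (rh r) a
  · exact pos_iff_ht.trans ((tab r).1 ▸ pos_iff_ht.symm)
  · obtain ⟨a, rfl⟩ := E.mem_XR.1 hy
    rw [gE_x r.2, show rhoE6 r = r from congrArg Fin.val e]
  · obtain ⟨a, rfl⟩ := E.mem_XR.1 ha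
    obtain ⟨b, rfl⟩ := E.mem_XR.1 hb
    exact Subtype.ext ((H68.mat chevE6 K).x_comm r.2 (rh r).2 (tab r).2.2.1 (tab r).2.2.2.1 a b).symm
  · refine (sup_le (c := B.rgd.N.comap (gE K).toMonoidHom) ((closure_le _).2 ?_) ((closure_le _).2 ?_)) hm
    · rintro _ ⟨r, t, ht, rfl⟩
      change gE K _ ∈ B.rgd.N
      rw [hh_eq, map_mul, gE_nn, gE_nn]
      exact mul_mem (B.nn_mem_N _ ht) (B.nn_mem_N _ (neg_ne_zero.2 one_ne_zero))
    · rintro _ ⟨i, rfl⟩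
      change gE K (nn chevE6 _ (simpleR i : Rt chevE6) 1) ∈ B.rgd.N
      rw [gE_nn]
      exact B.nn_mem_N _ one_ne_zero
  · have := (tab r).2.1 e
    change (H63.ht r).toNat < (H63.ht (D := chevE6) ⟨71, by decide⟩).toNat
    omega
  · obtain ⟨c, rfl⟩ := E.mem_XR.1 hz
    refine (H64.SG.gen_le_iff (K := centralizer {xG chevE6 K 71 c})).2 (fun r hr a => ?_) hu _ rfl
    obtain ⟨k1, k2⟩ := (tab r).2.2.2.2.2.1 (pos_iff_ht.1 hr)
    rintro _ rfl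
    exact Subtype.ext ((H68.mat chevE6 K).x_comm (by decide) r.2 k1 k2 c a).symm

theorem core {c : K} (hc : c ≠ 0) {y : chevE6.group K}
    (e : iE K (x K 47 c) * y * (iE K (x K 47 c))⁻¹ = gE K y) : gE K y = y := by
  have B := (H64.SG.ad chevE6 K).toStB
  rw [iE_L ⟨by decide, by decide⟩] at e
  exact grE.main (x_mem_XR chevE6 _ ⟨71, by decide⟩ c)
    (fun k => hc (B.eq_zero_of_x_eq_one ⟨71, by decide⟩ k))
    (by rw [B.rgd_Gp, GG_xG]; trivial) e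

theorem jobMZ : JobMZ := by
  refine ⟨fun F _ _ _ c hc _ y e => core hc e, fun F K _ _ _ _ _ _ X c hc _ y e => jT_inj X ?_⟩
  have k := congrArg (jT X) e
  rw [map_mul, map_mul, map_inv, jT_x X (by decide)] at k
  exact core ((map_ne_zero X.φ).2 hc) k

end H62.SFMZ
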