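import Cfsg.Agent.H28.TESpec

/-! S1308, chapter TE part 1, slot `KP`. -/

set_option autoImplicit false

open Cfsg Subgroup H14 H98 H1.Gold H31.S2 H14.GC H14.FE H14.NF H28.TE
open scoped commutatorElement

namespace H62.TEKP

universe u

theorem jobKP : JobKP.{u} := by
  intro up kt G _ _ Q Q₁ E Q₂ T h R a
  have : Fact (Nat.Prime 2) := ⟨Nat.prime_two⟩
  have k := kt G Q Q₁ E Q₂ T h
  obtain ⟨t0, ht0, i0⟩ := four_exists_inv h.fT
  have ct : ∀ t ∈ T, t ≠ 1 → ∀ y ∈ R, y * t = t * y → y ∈ E := fun t ht t1 y hy e => by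
    have h1 := h.sE.eq_of_le (Q := R ⊓ nor Q₂) (a.syl.isPGroup.to_le inf_le_left)
      (le_inf a.le (h.sE.le.trans inf_le_right)) (inf_le_inf_right _ a.syl.le)
    exact h1.le ⟨hy, h.hy.cen_le Q₂ h.v2 t (h.sT.le ht).1 ⟨t1, h.elT t ht⟩
      (mem_centralizer_singleton_iff.2 e)⟩
  have cF : ∀ y : G, (∀ t ∈ T, ⁅t, y⁆ ∈ E) → ∀ t ∈ T, y * t * y⁻¹ ∈ E ⊔ T := fun y hy t ht => by
    have := mul_mem (mem_sup_right (S := E) ht) (mem_sup_left (T := T) (hy _ (inv_mem ht)))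
    convert this using 1
    rw [commutatorElement_def]; group
  have nE : ∀ y ∈ R, (∀ t ∈ T, ⁅t, y⁆ ∈ E) → y ∈ nor E := fun y hy hc => by
    refine (inv_mem_iff (x := y)).1 (mem_normalizer_of_cj_le ?_)
    rintro _ ⟨e, he, rfl⟩
    show y⁻¹ * e * y⁻¹⁻¹ ∈ E
    refine ct t0 ht0 i0.1 _ (mul_mem (mul_mem (inv_mem hy) (a.le he)) (inv_mem (inv_mem hy))) ?_
    have := k.abF e (mem_sup_left he) _ (cF y hc t0 ht0)
    calc y⁻¹ * e * y⁻¹⁻¹ * t0 = y⁻¹ * (e * (y * t0 * y⁻¹)) * y := by group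
      _ = t0 * (y⁻¹ * e * y⁻¹⁻¹) := by rw [this]; group
  have mem : ∀ y ∈ R, y ∈ PP E T R ↔ ∀ t ∈ T, ⁅t, y⁆ ∈ E := fun y hy =>
    ⟨fun hP t ht => k.inE _ (comm_mem_left (mem_sup_right ht) hP.2)
      (a.syl.le (comm_mem_right (a.nr ht) hy)), fun hc => ⟨hy, mem_normalizer_of_cj_le (by
        rw [cj_sup, cj_eq_self (nE y hy hc)]
        refine sup_le le_sup_left ?_
        rintro _ ⟨t, ht, rfl⟩
        exact cF y hc t ht)⟩⟩
  have TE : T ≤ nor E := le_normalizer_of_le_centralizer fun t ht e he => h.comm e he t ht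
  refine ⟨ct, mem, ?_, fun y hy hn => ?_, fun hne => ?_⟩
  · obtain ⟨x, h1, h2, -, -, h3⟩ := up G R T E a.syl.isPGroup h.sT.isPGroup a.nr TE
      (lt_of_le_of_ne a.le fun e => h.nE (e ▸ a.syl))
    exact lt_of_le_of_ne (le_inf a.le (le_sup_left.trans le_normalizer))
      fun e => h2 (e ▸ (mem x h1).2 h3)
  · have hc := (mem y hy.1).1 hy
    have ont : ∀ e ∈ E, ∃ t ∈ T, ⁅t, y⁆ = e := fun e he => by
      have inj : Function.Injective (fun t : T => (⟨⁅(t : G), y⁆, hc t t.2⟩ : E)) := fun t t' e => by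
        have e' : ⁅(t : G), y⁆ = ⁅(t' : G), y⁆ := congrArg Subtype.val e
        by_contra hne
        refine hn (ct ((t' : G)⁻¹ * t) (mul_mem (inv_mem t'.2) t.2)
          (fun e1 => hne (Subtype.ext (inv_mul_eq_one.1 e1).symm)) y hy.1 ?_)
        calc y * ((t' : G)⁻¹ * t) = (t' : G)⁻¹ * (⁅(t' : G), y⁆ * y * t) := by
              rw [commutatorElement_def]; group
          _ = (t' : G)⁻¹ * t * y := by rw [← e', commutatorElement_def]; group
      obtain ⟨t, ht⟩ := ((Nat.bijective_iff_injective_and_card _).2 ⟨inj, h.card.symm⟩).2 ⟨e, he⟩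
      exact ⟨t, t.2, congrArg Subtype.val ht⟩
    have sq : ∀ t : G, ⁅t, y * y⁆ = ⁅t, y⁆ * (y * ⁅t, y⁆ * y⁻¹) := fun t => by
      simp only [commutatorElement_def]; group
    have yy : y * y ∈ E := by
      obtain ⟨d, hd, id⟩ := four_exists_inv h.fE
      obtain ⟨s, hs, s2, sc⟩ := exists_inv_cen_two (H := zpowers y)
        (a.syl.isPGroup.to_le (zpowers_le.2 hy.1)) h.sE.isPGroup (zpowers_le.2 (nE y hy.1 hc))
        fun e => id.1 (mem_bot.1 (e ▸ hd))
      obtain ⟨t, ht, rfl⟩ := ont s hs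
      refine ct t ht (fun e => s2.1 (by rw [e, commutatorElement_one_left])) _
        (mul_mem hy.1 hy.1) (commutatorElement_eq_one_iff_mul_comm.1 ?_).symm
      rw [sq, sc y (mem_zpowers y), mul_inv_cancel_right, s2.2]
    refine ⟨a.syl.le hy.1, fun e he => ?_, hc, yy, fun e => hn (ct t0 ht0 i0.1 y hy.1 (e t0 ht0).symm)⟩
    obtain ⟨t, ht, rfl⟩ := ont e he
    have h1 := sq t
    rw [commutatorElement_eq_one_iff_mul_comm.2 (h.comm _ yy t ht).symm, ← h.elE _ he,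
      mul_right_inj] at h1
    exact (mul_inv_eq_iff_eq_mul.1 h1.symm).symm
  · obtain ⟨x, h1, h2, -, h3, h4⟩ := up G R T (PP E T R) a.syl.isPGroup h.sT.isPGroup a.nr
      (le_normalizer_inf a.nr (le_normalizer_normalizer (le_sup_right.trans le_normalizer)))
      (lt_of_le_of_ne inf_le_left hne)
    exact ⟨x, h1, h2, h3, h4⟩

end H62.TEKP
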