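import Cfsg.Agent.H73.GSSpec

/-! S3275, chapter C4, part II, slot `F27`. -/

set_option autoImplicit false

namespace H62.GSF27

open Subgroup Cfsg H98 H48.DP H57.DPC H48.DP2 H98.DP0C H73.GS

universe u

theorem model (f7 : JF7) (l32 : JobL32.{0}) (k s : P7) (hk : orderOf k = 3)
    (hs : s * k * s⁻¹ = k⁻¹) : C1 k = zpowers k ∧
      ∃ A : Subgroup P7, Nat.card A = 4 ∧ k ∈ No A ∧ s ∈ No A := by
  have h := l32 P7 ⊤ ⟨topEquiv⟩
  obtain ⟨B, -, -, -, hB2, -, hkB, -, hB1, -⟩ := h.pair k (mem_top _) hk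
  have hB4 := (h.four k (mem_top _) hk B le_top hB2 hkB).resolve_left hB1
  have hf := f7 B k hB4 hk hkB
  obtain ⟨A, hA4, hkA, -, -, l, t, -, -, ht, htA, -⟩ := hf.oth
  refine ⟨hf.cz, A, hA4, hkA, ?_⟩
  have h1 : l⁻¹ * t * l ∈ No A := by
    have : t ∈ cj l (No A) := by rw [cj_normalizer]; exact htA
    exact mem_cj.1 this
  have h2 : (l⁻¹ * t * l) * k * (l⁻¹ * t * l)⁻¹ = k⁻¹ := by
    calc (l⁻¹ * t * l) * k * (l⁻¹ * t * l)⁻¹ = l⁻¹ * (t * (l * k * l⁻¹) * t⁻¹) * l := by group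
      _ = k⁻¹ := by rw [ht]; group
  have h3 : (l⁻¹ * t * l)⁻¹ * s ∈ C1 k := by
    refine mem_centralizer_singleton_iff.2 ?_
    generalize l⁻¹ * t * l = r at h2
    calc r⁻¹ * s * k = r⁻¹ * (s * k * s⁻¹) * s := by group
      _ = r⁻¹ * (r * k * r⁻¹) * s := by rw [hs, h2]
      _ = k * (r⁻¹ * s) := by group
  rw [hf.cz] at h3
  have := mul_mem h1 (zpowers_le.2 hkA h3)
  simpa only [mul_inv_cancel_left] using this

theorem jobF27 : H73.GS.JobF27.{u} := by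
  intro f7 l32 X _ _ K ⟨e⟩ k hk s hs hk3 hsk
  have : Fact (Nat.Prime 2) := ⟨Nat.prime_two⟩
  let φ : P7 →* X := K.subtype.comp e.symm.toMonoidHom
  have hφ : Function.Injective φ := K.subtype_injective.comp e.symm.injective
  have hK : ∀ g, φ g ∈ K := fun g => (e.symm g).2
  have hs' : ∀ g (hg : g ∈ K), φ (e ⟨g, hg⟩) = g := fun g hg => by simp [φ]
  obtain ⟨k, rfl⟩ : ∃ k', φ k' = k := ⟨_, hs' k hk⟩
  obtain ⟨s, rfl⟩ : ∃ s', φ s' = s := ⟨_, hs' s hs⟩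
  rw [orderOf_injective φ hφ] at hk3
  obtain ⟨h1, A, h2, h3, h4⟩ := model f7 l32 k s hk3 (hφ (by simpa using hsk))
  have hc : Nat.card (A.map φ) = 4 := by rw [card_map_of_injective hφ, h2]
  refine ⟨fun g hg => ?_, A.map φ, ?_, fun h => ?_, IsPGroup.of_card (n := 2) hc,
    le_normalizer_map φ ⟨k, h3, rfl⟩, le_normalizer_map φ ⟨s, h4, rfl⟩⟩
  · obtain ⟨g, rfl⟩ : ∃ g', φ g' = g := ⟨_, hs' g hg.1⟩
    have : g ∈ C1 k := mem_centralizer_singleton_iff.2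
      (hφ (by simpa using mem_centralizer_singleton_iff.1 hg.2))
    rw [h1] at this
    obtain ⟨i, rfl⟩ := this
    exact ⟨i, (map_zpow φ k i).symm⟩
  · rintro _ ⟨a, -, rfl⟩
    exact hK a
  · rw [h] at hc
    simp at hc

end H62.GSF27
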