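import Cfsg.Agent.H92.DP0BSpec
import Cfsg.Agent.H18.DPCPr
import Cfsg.Agent.S0126
import Cfsg.Agent.H14.FStar

/-! S3275, chapter U0, section B, slot `XE`: if all components lie in `N` then `N = ⊤`. -/

set_option autoImplicit false

namespace H62.DP0XE

open Subgroup Cfsg H98 H48.DP H57.DPC H48.DP2 H92.DPB
open scoped commutatorElement

universe u

variable {X : Type u} [Group X]

theorem comm_ce {R : Subgroup X} [R.Normal] (hR : IsCyclic R) (g h : X) : ⁅g, h⁆ ∈ Ce R := by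
  obtain ⟨a, ha⟩ := MonoidHom.map_cyclic (MulAut.conjNormal (H := R) g).toMonoidHom
  obtain ⟨b, hb⟩ := MonoidHom.map_cyclic (MulAut.conjNormal (H := R) h).toMonoidHom
  have hc : MulAut.conjNormal (H := R) g * MulAut.conjNormal (H := R) h =
      MulAut.conjNormal (H := R) h * MulAut.conjNormal (H := R) g := by
    ext1 r
    have ha' : ∀ r, MulAut.conjNormal (H := R) g r = r ^ a := ha
    have hb' : ∀ r, MulAut.conjNormal (H := R) h r = r ^ b := hb
    rw [MulAut.mul_apply, MulAut.mul_apply, ha', hb', hb', ha', ← zpow_mul, ← zpow_mul, mul_comm]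
  have h1 : MulAut.conjNormal (H := R) ⁅g, h⁆ = 1 := by
    rw [map_commutatorElement, commutatorElement_eq_one_iff_mul_comm]; exact hc
  intro r hr
  have := congrArg Subtype.val (DFunLike.congr_fun h1 ⟨r, hr⟩)
  simp only [MulAut.conjNormal_apply, MulAut.one_apply] at this
  rw [mul_inv_eq_iff_eq_mul] at this
  exact this.symm

theorem ce_of_comm {A B : Subgroup X} (h : ⁅A, B⁆ = ⊥) : A ≤ Ce B :=
  commutator_eq_bot_iff_le_centralizer.1 h

theorem jobXE : JobXE.{u} := by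
  intro X _ _ N K hX hK hN
  have : Fact (Nat.Prime 3) := ⟨Nat.prime_three⟩
  have : Fact (Nat.Prime 2) := ⟨Nat.prime_two⟩
  obtain ⟨B, hBN, hB⟩ := hX.e27
  set R := pCore 3 X with hRd
  have hR3 : IsPGroup 3 R := H2.pCore_isPGroup 3 X
  have hRN : R ≤ N := le_sup_right.trans
    (hX.p3 B (B ⊔ R) hB hBN le_sup_left ((el_pg hB.1).to_sup_of_normal_right hR3))
  have hFit : fittingSubgroup X = R := H2.fitting_eq_pCore_of_pPrimeCore_eq_bot hX.o
  set F := layer X ⊔ R with hFd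
  have hFN : F ≤ N := sup_le (H14.layer_le hN) hRN
  by_cases h27 : ∃ B' : Subgroup X, E27 B' ∧ B' ≤ F
  · obtain ⟨B', h1, h2⟩ := h27
    refine top_unique fun g _ => hX.t27 B' g h1 (h2.trans hFN) ?_
    exact (cj_le_of_le h2 (by rw [normalizer_eq_top]; trivial)).trans hFN
  push Not at h27
  have cF : ∀ J : Subgroup X, IsComponent J → J ≤ F := fun J hJ =>
    (H14.comp_le_layer hJ).trans le_sup_left
  have e3 : ∀ J : Subgroup X, IsComponent J → ∃ y ∈ J, orderOf y = 3 := fun J hJ => by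
    obtain ⟨V, -, y, hy, -, -, h3, -⟩ := (hX.cm J hJ).2.sm.loc
    exact ⟨y, hy, h3⟩
  have cen : ∀ J : Subgroup X, IsComponent J → ∀ y ∈ J, y ∈ Ce J → y = 1 := fun J hJ y h1 h2 =>
    mem_bot.1 ((hX.cm J hJ).2.sm.cen ▸ (⟨h1, h2⟩ : y ∈ J ⊓ Ce J))
  -- no `3²` in `F ⊓ C(J)`
  have no9 : ∀ J : Subgroup X, IsComponent J → ∀ U : Subgroup X, IsElementaryAbelian 3 U →
      9 ≤ Nat.card U → U ≤ F → U ≤ Ce J → False := fun J hJ U h1 h2 h3 h4 => by
    obtain ⟨y, hy, hy3⟩ := e3 J hJ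
    refine h27 (U ⊔ zpowers y) (e27_sup h1 h2 (hy3 ▸ pow_orderOf_eq_one y)
      (fun a ha => (show Commute y a from h4 ha y hy).symm) fun hU => ?_)
      (sup_le h3 (zpowers_le.2 (cF J hJ hy)))
    rw [cen J hJ y hy (h4 hU), orderOf_one] at hy3
    omega
  have no2 : ∀ J L : Subgroup X, IsComponent J → IsComponent L → J ≠ L → ∀ z : X, orderOf z = 3 →
      z ∈ F → z ∈ Ce J → z ∈ Ce L → False := fun J L hJ hL hne z hz hzF h1 h2 => by
    obtain ⟨y, hy, hy3⟩ := e3 L hL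
    have hyz : y ∉ zpowers z := fun h => by
      rw [cen L hL y hy (zpowers_le.2 h2 h), orderOf_one] at hy3
      omega
    obtain ⟨h3, h4⟩ := e9 hy3 hz (h2 y hy) hyz
    exact no9 J hJ _ h3 h4.ge (sup_le (zpowers_le.2 (cF L hL hy)) (zpowers_le.2 hzF))
      (sup_le (zpowers_le.2 (ce_of_comm (H14.comp_commute_of_ne hL hJ hne.symm) hy))
        (zpowers_le.2 h1))
  have no3 : ∀ J L T : Subgroup X, IsComponent J → IsComponent L → IsComponent T → J ≠ L →
      T = J ∨ T = L := fun J L T hJ hL hT hne => by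
    by_contra h
    push Not at h
    obtain ⟨z, hz, hz3⟩ := e3 T hT
    exact no2 J L hJ hL hne z hz3 (cF T hT hz) (ce_of_comm (H14.comp_commute_of_ne hT hJ h.1) hz)
      (ce_of_comm (H14.comp_commute_of_ne hT hL h.2) hz)
  have nor : ∀ J : Subgroup X, IsComponent J → ∀ g : X, g ∈ No J := fun J hJ g => by
    by_contra hg
    have h1 : J ≠ cj g J := fun e => hg (cj_eq_self_iff.1 e.symm)
    have h2 : g ^ 2 ∈ No J := by
      rcases no3 J (cj g J) (cj (g ^ 2) J) hJ (H14.comp_map_conj hJ g) (H14.comp_map_conj hJ _) h1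
        with e | e
      · exact cj_eq_self_iff.1 e
      · rw [sq, ← cj_cj, cj_inj] at e
        exact absurd e.symm h1
    obtain ⟨a, m, hm, ham⟩ := Nat.exists_eq_two_pow_mul_odd (orderOf_pos g).ne'
    have h3 : g ^ m ∈ No J := by
      refine (hX.cm J hJ).2.two _ (mem_top _) (IsPGroup.iff_card.2 ?_)
      rw [Nat.card_zpowers]
      have : orderOf (g ^ m) ∣ 2 ^ a := by
        rw [orderOf_dvd_iff_pow_eq_one, ← pow_mul, mul_comm, ← ham, pow_orderOf_eq_one]
      obtain ⟨k, -, hk⟩ := (Nat.dvd_prime_pow Nat.prime_two).1 this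
      exact ⟨k, hk⟩
    obtain ⟨t, rfl⟩ := hm
    rw [pow_succ, pow_mul] at h3
    exact hg ((mul_mem_cancel_left (pow_mem h2 t)).1 h3)
  have dec : ∀ J : Subgroup X, IsComponent J → ∀ g : X, ∃ l ∈ J, l⁻¹ * g ∈ Ce J := fun J hJ g =>
    (hX.cm J hJ).2.inn g (nor J hJ g)
  have RC : ∀ J : Subgroup X, IsComponent J → R ≤ Ce J := fun J hJ =>
    le_centralizer_iff.1 (ce_of_comm (H14.comp_commutator_pCore hJ 3))
  have cfs : ∀ c : X, c ∈ Ce R → (∀ J : Subgroup X, IsComponent J → c ∈ Ce J) → c ∈ R := by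
    intro c h1 h2
    rw [← hFit]
    refine H14.centralizer_fstar_le_fitting ?_
    rw [generalizedFittingSubgroup, centralizer_sup, hFit]
    refine ⟨?_, h1⟩
    have : layer X ≤ Ce (zpowers c) := H14.layer_le fun J hJ =>
      le_centralizer_iff.1 (zpowers_le.2 (h2 J hJ))
    exact le_centralizer_iff.1 this (mem_zpowers c)
  by_cases hJ : ∃ J : Subgroup X, IsComponent J ∧ K ≠ J
  · obtain ⟨J, hJ, hne⟩ := hJ
    have hR : R = ⊥ := by
      by_contra h
      obtain ⟨n, hn⟩ := IsPGroup.iff_card.1 hR3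
      have h3 : 3 ∣ Nat.card R := by
        rw [hn]
        refine dvd_pow_self 3 fun e => h ?_
        rw [e, pow_zero] at hn
        exact eq_bot_of_card_eq _ hn
      obtain ⟨z, hz⟩ := exists_prime_orderOf_dvd_card' 3 h3
      exact no2 K J hK hJ hne z (by rw [orderOf_coe, hz]) (mem_sup_right z.2) (RC K hK z.2)
        (RC J hJ z.2)
    refine top_unique fun g _ => ?_
    obtain ⟨k, hk, h1⟩ := dec K hK g
    obtain ⟨j, hj, h2⟩ := dec J hJ (k⁻¹ * g)
    have h3 : j⁻¹ * (k⁻¹ * g) ∈ Ce K :=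
      mul_mem (inv_mem (ce_of_comm (H14.comp_commute_of_ne hJ hK hne.symm) hj)) h1
    have h4 : j⁻¹ * (k⁻¹ * g) ∈ R := cfs _ (by
        rw [hR]; intro a ha; rw [mem_bot.1 ha, one_mul, mul_one]) fun T hT => by
      rcases no3 K J T hK hJ hT hne with rfl | rfl
      · exact h3
      · exact h2
    have h5 := mul_mem (hN K hK hk) (mul_mem (hN J hJ hj) (hRN h4))
    simpa using h5
  push Not at hJ
  exfalso
  have hcyc : IsCyclic R := by
    by_contra h
    obtain ⟨A, -, h1, h2⟩ := Cfsg.Agent.S0126.result (p := 3) (by norm_num) hR3 h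
    refine no9 K hK (A.map R.subtype) (el_of ?_ ?_) ?_ ((map_subtype_le A).trans le_sup_right)
      ((map_subtype_le A).trans (RC K hK))
    · rintro _ ⟨a, ha, rfl⟩ _ ⟨b, hb, rfl⟩
      exact (el_comm h1 ha hb).map _
    · rintro _ ⟨a, ha, rfl⟩
      rw [← map_pow, h1.2 a ha, map_one]
    · rw [card_map_of_injective R.subtype_injective, h2]; norm_num
  have hCC : ∀ c ∈ Ce K, ∀ d ∈ Ce K, ⁅c, d⁆ ∈ R := fun c hc d hd =>
    cfs _ (comm_ce hcyc c d) fun J hJ' => by
      rw [← hJ J hJ', commutatorElement_def]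
      exact mul_mem (mul_mem (mul_mem hc hd) (inv_mem hc)) (inv_mem hd)
  have hW : (B ⊓ Ce K) ⊔ R ≤ Ce K := sup_le inf_le_right (RC K hK)
  have hWn : ((B ⊓ Ce K) ⊔ R).Normal := ⟨fun w hw g => by
    obtain ⟨k, hk, h1⟩ := dec K hK g
    have h2 : (k⁻¹ * g) * w * (k⁻¹ * g)⁻¹ ∈ (B ⊓ Ce K) ⊔ R := by
      have := mul_mem (mem_sup_right (S := B ⊓ Ce K) (hCC _ h1 w (hW hw))) hw
      simpa [commutatorElement_def] using this
    have h3 : k * ((k⁻¹ * g) * w * (k⁻¹ * g)⁻¹) = ((k⁻¹ * g) * w * (k⁻¹ * g)⁻¹) * k :=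
      hW h2 k hk
    have h4 : g * w * g⁻¹ = (k⁻¹ * g) * w * (k⁻¹ * g)⁻¹ := by
      rw [← mul_inv_eq_iff_eq_mul] at h3
      rw [← h3]; group
    rw [h4]; exact h2⟩
  have hBR : B ⊓ Ce K ≤ R := le_sup_left.trans
    (H2.le_pCore (((el_pg hB.1).to_le inf_le_left).to_sup_of_normal_right hR3))
  have hel : IsElementaryAbelian 3 (B ⊓ Ce K : Subgroup X) := el_le hB.1 inf_le_left
  have hlt : Nat.card ↥(B ⊓ Ce K) < 9 := by
    by_contra h
    exact no9 K hK _ hel (by omega) (hBR.trans le_sup_right) inf_le_right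
  obtain ⟨h1, -, h2, -⟩ := (H18.DPCPr.jobPr X K (hX.cm K hK).2.sm.cen (hX.cm K hK).2.inn).2 B
    fun g _ => nor K hK g
  have h3 := (hX.cm K hK).2.sm.rk (pr K B) inf_le_left (h2 3 hB.1)
  have h4 := hB.2
  obtain ⟨n, hn⟩ := IsPGroup.iff_card.1 (el_pg hel)
  have h5 : Nat.card ↥(B ⊓ Ce K) = 3 := by
    rcases n with _ | _ | n
    · rw [hn] at h1; omega
    · simpa using hn
    · rw [hn, pow_succ, pow_succ] at hlt
      have : 0 < 3 ^ n := by positivity
      omega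
  obtain ⟨c, hc⟩ := exists_prime_orderOf_dvd_card' (G := ↥(B ⊓ Ce K)) 3 (by rw [h5])
  have hc3 : orderOf (c : X) = 3 := by rw [orderOf_coe, hc]
  refine h27 (pr K B ⊔ zpowers (c : X)) (e27_sup (h2 3 hB.1) (by rw [h5] at h1; omega)
    (hc3 ▸ pow_orderOf_eq_one _) (fun a ha => c.2.2 a ha.1) fun h => ?_)
    (sup_le (inf_le_left.trans (cF K hK)) (zpowers_le.2 (mem_sup_right (hBR c.2))))
  rw [cen K hK c h.1 c.2.2, orderOf_one] at hc3
  omega

end H62.DP0XE
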