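import Cfsg.Agent.H57.U2CSpec

/-! S3275, chapter U2F, slot `Q2`. -/

set_option autoImplicit false

namespace H62.U2CQ2

open Subgroup Cfsg H98 H96 H97 H48.DP H57.DPC H48.DP2 H96.U2I H57.U2C

universe u

theorem all_two {d : ℕ} (n : Fin d → ℕ) (h : ∀ i, 2 ≤ n i) (hp : ∏ i, n i ≤ 2 ^ d) (i : Fin d) :
    n i = 2 := by
  by_contra hne
  have : ∏ _j : Fin d, 2 < ∏ j, n j :=
    Finset.prod_lt_prod (fun _ _ => by norm_num) (fun j _ => h j)
      ⟨i, Finset.mem_univ i, lt_of_le_of_ne (h i) (Ne.symm hne)⟩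
  rw [Finset.prod_const, Finset.card_univ, Fintype.card_fin] at this
  omega

theorem jobQ2 : H57.U2C.JobQ2.{u} := by
  intro dh pr cn q1 W _ _ F B N s hq hF hk hN hs hd
  obtain ⟨d, a, x, hf⟩ := dh W F B hq
  have ea : IsElementaryAbelian 2 B := hq.qd.ea fun v => by rw [two_nsmul, hq.two]
  have hp : ∀ i, H57.U2C.Pr (a i) (x i) := fun i =>
    pr W (a i) (x i) hq.two (by rw [← pow_two]; exact ea.2 _ (hf.aB i)) (hf.x3 i) (hf.inv i)
  rcases d with _ | _ | d
  · exact absurd (by simpa using hf.card) hk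
  · exact q1 W F B N s hq hF (by simpa using hf.card) hN hs hd
  have hc := (cn W F B _ a x hq hf hp).c1 N fun h hh i hi => by
    rcases hd h hh _ (hf.aB i) with e | e
    · rwa [dl_apply, sub_eq_zero] at e
    · obtain ⟨j, hj⟩ := exists_ne i
      have := hf.x3 j
      rw [hs _ (hf.xF j) (hf.f2 i j hj.symm s (e ▸ hi)), orderOf_one] at this
      omega
  have h2 := all_two (fun i => nI (a i) (x i)) (fun i => (hp i).two) (hc.trans (hf.card ▸ hN))
  refine ⟨le_antisymm hN ?_, ?_⟩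
  · rw [hf.card]
    refine le_trans (le_of_eq ?_) hc
    rw [Finset.prod_congr rfl fun i _ => h2 i, Finset.prod_const, Finset.card_univ,
      Fintype.card_fin]
  · obtain ⟨w, hw, -⟩ := (hp 0).tp (h2 0)
    exact ⟨a 0, hf.aB 0, x 0, hf.xF 0, w, hf.x3 0, hf.inv 0, hw⟩

end H62.U2CQ2
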