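import Cfsg.Agent.H62.C3Field

set_option autoImplicit false

/-! Field extension subgroups: `K`-lines, pairs with maximal intersection. -/

namespace H62

open Module

variable {F K V : Type*} [Field F] [Field K] [Algebra F K] [AddCommGroup V] [Module F V]
  [Module K V] [IsScalarTower F K V]

variable (F K) in
/-- The `K`-line through `w` as an `F`-subspace. -/
def kl (w : V) : Submodule F V := (K ∙ w).restrictScalars F

theorem mem_kl {v w : V} : v ∈ kl F K w ↔ ∃ k : K, k • w = v := Submodule.mem_span_singleton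

theorem mem_kl_iff {v w : V} : v ∈ kl F K w ↔ v ∈ K ∙ w := Iff.rfl

theorem smul_mem_kl (k : K) (w : V) : k • w ∈ kl F K w := mem_kl.2 ⟨k, rfl⟩

theorem self_mem_kl (w : V) : w ∈ kl F K w := mem_kl.2 ⟨1, one_smul _ _⟩

theorem finrank_kl {w : V} (hw : w ≠ 0) : finrank F (kl F K w) = finrank F K :=
  ((LinearEquiv.toSpanNonzeroSingleton K V w hw).restrictScalars F).finrank_eq.symm

variable (K) in
/-- `e` normalises the action of `K`. -/
def NormK (e : V ≃ₗ[F] V) : Prop := ∀ k : K, ∃ k' : K, ∀ v, e (k • v) = k' • e v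

omit [Algebra F K] [IsScalarTower F K V] in
theorem NormK.of_lin {e : V ≃ₗ[F] V} (h : ∀ (k : K) v, e (k • v) = k • e v) : NormK K e :=
  fun k => ⟨k, h k⟩

theorem exists_smul_of_forall_smul' {E U W : Type*} [Field E] [AddCommGroup U] [Module E U]
    [AddCommGroup W] [Module E W] (f f' : U →+ W) (h2 : ∃ u v : U, v ≠ 0 ∧ u ∉ E ∙ v)
    (hf : ∀ u v : U, u ∉ E ∙ v → ∀ a b : E, a • f u = b • f v → a = 0)
    (h : ∀ v, ∃ c : E, f' v = c • f v) : ∃ c : E, ∀ v, f' v = c • f v := by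
  choose c hc using h
  have key : ∀ u v : U, v ≠ 0 → u ∉ E ∙ v → c u = c v := fun u v hv huv => by
    have he := hc (u + v)
    rw [map_add, map_add, hc u, hc v] at he
    have h1 : (c u - c (u + v)) • f u = (c (u + v) - c v) • f v := by
      rw [sub_smul, sub_smul, sub_eq_sub_iff_add_eq_add, he, smul_add]; abel
    rw [sub_eq_zero.1 (hf u v huv _ _ h1),
      sub_eq_zero.1 (hf v u (notMem_span_symm hv huv) _ _ h1.symm)]
  obtain ⟨u, v, hv, huv⟩ := h2
  refine ⟨c v, fun x => ?_⟩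
  by_cases hx : x = 0
  · simp [hx]
  by_cases h1 : x ∈ E ∙ v
  · have : u ∉ E ∙ x := fun h3 =>
      huv ((Submodule.span_singleton_le_iff_mem x _).2 h1 h3)
    rw [hc, ← key u x hx this, key u v hv huv]
  · rw [hc, key x v hv h1]

variable [FiniteDimensional F V]

theorem normK_of_map_kl (h2 : ∃ u v : V, v ≠ 0 ∧ u ∉ K ∙ v) {e : V ≃ₗ[F] V}
    (h : ∀ w, w ≠ 0 → (kl F K w).map (e : V →ₗ[F] V) = kl F K (e w)) : NormK K e := fun k =>
  exists_smul_of_forall_smul' (E := K) (e : V →ₗ[F] V).toAddMonoidHom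
    ((e : V →ₗ[F] V).toAddMonoidHom.comp (DistribSMul.toAddMonoidHom V k)) h2
    (fun u v huv a b hab => by
      by_contra ha
      by_cases hv : v = 0
      · simp [hv, ha] at hab huv; exact huv hab
      have : e u ∈ kl F K (e v) := mem_kl.2 ⟨a⁻¹ * b, by
        change a • e u = b • e v at hab
        rw [mul_smul, ← hab, inv_smul_smul₀ ha]⟩
      rw [← h v hv] at this
      exact huv (by simpa [mem_kl_iff] using this))
    (fun v => by
      by_cases hv : v = 0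
      · exact ⟨0, by simp [hv]⟩
      obtain ⟨c, hc⟩ := mem_kl.1 (h v hv ▸ Submodule.mem_map_of_mem (smul_mem_kl (F := F) k v))
      exact ⟨c, hc.symm⟩)

omit [FiniteDimensional F V] in
theorem exists_kdil {φ : Dual K V} {w : V} (h : 1 + φ w ≠ 0) [FiniteDimensional K V]
    [FiniteDimensional F K] : ∃ e : V ≃ₗ[F] V, (∀ z, e z = z + φ z • w) ∧
      LinearMap.det (e : V →ₗ[F] V) = Algebra.norm F (1 + φ w) := by
  refine ⟨(LinearEquiv.dilatransvection h.isUnit).restrictScalars F, fun z => rfl, ?_⟩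
  conv_rhs => rw [← LinearMap.transvection.det, ← LinearMap.det_restrictScalars]
  rfl

variable (K) in
/-- A `K`-line `K w` and an `M`-image `g (K w')` of a `K`-line with maximal proper intersection. -/
structure MaxPair (M : Subgroup (V ≃ₗ[F] V)) (P : V → Prop) (g : V ≃ₗ[F] V) (w w' : V) :
    Prop where
  mem : g ∈ M
  left : P w
  right : P w'
  ne : (kl F K w').map (g : V →ₗ[F] V) ≠ kl F K w
  pos : (kl F K w').map (g : V →ₗ[F] V) ⊓ kl F K w ≠ ⊥
  max : ∀ g₁ ∈ M, ∀ w₁ w₁', P w₁ → P w₁' → (kl F K w₁').map (g₁ : V →ₗ[F] V) ≠ kl F K w₁ →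
    finrank F ↥((kl F K w₁').map (g₁ : V →ₗ[F] V) ⊓ kl F K w₁) ≤
      finrank F ↥((kl F K w').map (g : V →ₗ[F] V) ⊓ kl F K w)

variable {M : Subgroup (V ≃ₗ[F] V)} {P : V → Prop} {g : V ≃ₗ[F] V} {w w' : V}

theorem exists_maxPair (hg : g ∈ M) (hw : P w) (hw' : P w')
    (hne : (kl F K w').map (g : V →ₗ[F] V) ≠ kl F K w)
    (hpos : (kl F K w').map (g : V →ₗ[F] V) ⊓ kl F K w ≠ ⊥) :
    ∃ g w w', MaxPair K M P g w w' := by
  let S : Set ((V ≃ₗ[F] V) × V × V) := {t | t.1 ∈ M ∧ P t.2.1 ∧ P t.2.2 ∧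
    (kl F K t.2.2).map (t.1 : V →ₗ[F] V) ≠ kl F K t.2.1}
  let f : (V ≃ₗ[F] V) × V × V → ℕ := fun t =>
    finrank F ↥((kl F K t.2.2).map (t.1 : V →ₗ[F] V) ⊓ kl F K t.2.1)
  obtain ⟨t, ht, hmax⟩ := Set.Finite.exists_maximalFor' f S
    ((Set.finite_Iic (finrank F V)).subset (by
      rintro _ ⟨t, -, rfl⟩; exact Submodule.finrank_le _)) ⟨(g, w, w'), hg, hw, hw', hne⟩
  have key : ∀ s ∈ S, f s ≤ f t := fun s hs => by
    by_contra hc
    exact hc (hmax hs (by omega))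
  refine ⟨t.1, t.2.1, t.2.2, ht.1, ht.2.1, ht.2.2.1, ht.2.2.2, fun h0 => hpos ?_,
    fun g₁ h1 w₁ w₁' h2 h3 h4 => key (g₁, w₁, w₁') ⟨h1, h2, h3, h4⟩⟩
  have := key (g, w, w') ⟨hg, hw, hw', hne⟩
  have h1 : f t = 0 := Submodule.finrank_eq_zero.2 h0
  exact Submodule.finrank_eq_zero.1 (show f (g, w, w') = 0 by omega)

omit [FiniteDimensional F V] in
theorem map_map_inv (g : V ≃ₗ[F] V) (Y : Submodule F V) :
    (Y.map ((g⁻¹ : V ≃ₗ[F] V) : V →ₗ[F] V)).map (g : V →ₗ[F] V) = Y := by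
  rw [← Submodule.map_comp]
  exact (congrArg (Submodule.map · Y) (LinearMap.ext fun x => g.apply_symm_apply x)).trans
    (Submodule.map_id Y)

omit [FiniteDimensional F V] in
theorem map_inv_inf (g : V ≃ₗ[F] V) (X Y : Submodule F V) :
    (Y.map ((g⁻¹ : V ≃ₗ[F] V) : V →ₗ[F] V) ⊓ X).map (g : V →ₗ[F] V) =
      X.map (g : V →ₗ[F] V) ⊓ Y := by
  rw [Submodule.map_inf _ g.injective, map_map_inv, inf_comm]

omit [FiniteDimensional F V] in
theorem MaxPair.symm (h : MaxPair K M P g w w') : MaxPair K M P g⁻¹ w' w where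
  mem := M.inv_mem h.mem
  left := h.right
  right := h.left
  ne h0 := h.ne (by rw [← h0, map_map_inv])
  pos h0 := h.pos (by rw [← map_inv_inf, h0, Submodule.map_bot])
  max g₁ h1 w₁ w₁' h2 h3 h4 := by
    refine (h.max g₁ h1 w₁ w₁' h2 h3 h4).trans_eq ?_
    rw [← map_inv_inf, LinearEquiv.finrank_map_eq]

theorem MaxPair.map_mem (h : MaxPair K M P g w w') {k : V ≃ₗ[F] V} (hk : k ∈ M)
    (hfix : ∀ z ∈ (kl F K w').map (g : V →ₗ[F] V), z ∈ kl F K w → k z = z) {x : V}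
    (hx : x ∈ (kl F K w').map (g : V →ₗ[F] V)) (hx' : x ∉ kl F K w)
    (hkx : k x ∈ (kl F K w').map (g : V →ₗ[F] V)) :
    ∀ z ∈ (kl F K w').map (g : V →ₗ[F] V), k z ∈ (kl F K w').map (g : V →ₗ[F] V) := by
  set L := (kl F K w').map (g : V →ₗ[F] V) with hL
  have e : ((kl F K w').map ((g⁻¹ * k * g : V ≃ₗ[F] V) : V →ₗ[F] V)) =
      (L.map (k : V →ₗ[F] V)).map ((g⁻¹ : V ≃ₗ[F] V) : V →ₗ[F] V) := by
    rw [hL, ← Submodule.map_comp, ← Submodule.map_comp]; rfl
  by_cases hne : L.map (k : V →ₗ[F] V) = L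
  · exact fun z hz => hne ▸ Submodule.mem_map_of_mem hz
  have h1 := h.max (g⁻¹ * k * g) (M.mul_mem (M.mul_mem (M.inv_mem h.mem) hk) h.mem) w' w'
    h.right h.right (fun h0 => hne (by
      rw [e] at h0
      conv_rhs => rw [hL, ← h0, map_map_inv]))
  rw [e, ← LinearEquiv.finrank_map_eq g, map_inv_inf, ← hL] at h1
  refine absurd h1 (not_le.2 (Submodule.finrank_lt_finrank_of_lt (lt_of_le_of_ne ?_ ?_)))
  · exact fun z hz => ⟨hz.1, ⟨z, hz.1, hfix z hz.1 hz.2⟩⟩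
  · intro h0
    have h2 : k x ∈ L ⊓ kl F K w := h0 ▸ ⟨hkx, Submodule.mem_map_of_mem hx⟩
    have := k.injective (hfix _ h2.1 h2.2)
    exact hx' (this ▸ h2.2)

theorem MaxPair.exists_notMem (h : MaxPair K M P g w w') (hw : w ≠ 0) (hw' : w' ≠ 0) :
    ∃ x ∈ (kl F K w').map (g : V →ₗ[F] V), x ∉ kl F K w := by
  by_contra! hc
  exact h.ne (Submodule.eq_of_le_of_finrank_eq hc (by
    rw [LinearEquiv.finrank_map_eq, finrank_kl hw, finrank_kl hw']))

/-- Values of a `K`-functional on the image line are `F`-proportional. -/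
theorem MaxPair.ratio (hr : (finrank F K).Prime) (h : MaxPair K M P g w w') (hw : w ≠ 0)
    (hw' : w' ≠ 0) {φ : Dual K V} (hφ : φ w = 0)
    (hM : ∀ l : K, ∃ k ∈ M, ∀ z ∈ (kl F K w').map (g : V →ₗ[F] V), k z = z + (l * φ z) • w)
    {y z : V} (hy : y ∈ (kl F K w').map (g : V →ₗ[F] V)) (hy0 : φ y ≠ 0)
    (hz : z ∈ (kl F K w').map (g : V →ₗ[F] V)) : ∃ c : F, φ z = c • φ y := by
  set L := (kl F K w').map (g : V →ₗ[F] V) with hL
  have h0 : ∀ v ∈ kl F K w, φ v = 0 := fun v hv => by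
    obtain ⟨k, rfl⟩ := mem_kl.1 hv
    simp [hφ]
  let R : Subalgebra F K :=
    { carrier := {μ | ∀ κ : K, κ • w ∈ L → (μ * κ) • w ∈ L}
      mul_mem' := fun {a b} ha hb κ hκ => by rw [mul_assoc]; exact ha _ (hb κ hκ)
      add_mem' := fun {a b} ha hb κ hκ => by
        rw [add_mul, add_smul]; exact L.add_mem (ha κ hκ) (hb κ hκ)
      algebraMap_mem' := fun c κ hκ => by
        rw [mul_smul, algebraMap_smul]; exact L.smul_mem c hκ }
  have hμ : φ z / φ y ∈ R := fun κ hκ => by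
    obtain ⟨k, hk, hkx⟩ := hM (κ / φ y)
    have := h.map_mem hk (fun v hv hv' => by simp [hkx v hv, h0 v hv']) hy
      (fun h1 => hy0 (h0 y h1)) (by rw [hkx y hy, div_mul_cancel₀ _ hy0]; exact L.add_mem hy hκ)
      z hz
    rw [hkx z hz, L.add_mem_iff_right hz] at this
    convert this using 2; ring
  rcases (Subalgebra.isSimpleOrder_of_finrank_prime F K hr).eq_bot_or_eq_top R with h1 | h1
  · rw [h1] at hμ
    obtain ⟨c, hc⟩ := Algebra.mem_bot.1 hμ
    exact ⟨c, by rw [Algebra.smul_def, hc, div_mul_cancel₀ _ hy0]⟩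
  · obtain ⟨δ, hδ, hδ0⟩ := Submodule.exists_mem_ne_zero_of_ne_bot h.pos
    obtain ⟨κ, rfl⟩ := mem_kl.1 hδ.2
    have hκ : κ ≠ 0 := by rintro rfl; simp at hδ0
    refine absurd (Submodule.eq_of_le_of_finrank_eq (fun v hv => ?_) ?_).symm h.ne
    · obtain ⟨a, rfl⟩ := mem_kl.1 hv
      have : a / κ ∈ R := h1 ▸ Algebra.mem_top
      have h2 := this κ hδ.1
      rwa [div_mul_cancel₀ _ hκ] at h2
    · rw [LinearEquiv.finrank_map_eq, finrank_kl hw, finrank_kl hw']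

end H62
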