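import Cfsg.Agent.H62.C3Tv

set_option autoImplicit false

/-! The normaliser of an extension field of prime degree is maximal in `SL(V)`. -/

namespace H62

open Module

variable {F K V : Type*} [Field F] [Field K] [Algebra F K] [AddCommGroup V] [Module F V]
  [Module K V] [IsScalarTower F K V] {M : Subgroup (V ≃ₗ[F] V)} [FiniteDimensional F V]
  {P : V → Prop} {g : V ≃ₗ[F] V} {w w' : V}

theorem MaxPair.exists_hyper (hr : (finrank F K).Prime) (h : MaxPair K M P g w w') (hw : w ≠ 0)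
    (hw' : w' ≠ 0) (hM : ∀ φ : Dual K V, φ w = 0 →
      ∃ k ∈ M, ∀ z ∈ (kl F K w').map (g : V →ₗ[F] V), k z = z + φ z • w) :
    ∃ x ∈ (kl F K w').map (g : V →ₗ[F] V), x ∉ kl F K w ∧
      ∀ z ∈ (kl F K w').map (g : V →ₗ[F] V), ∃ c : F, z - c • x ∈ kl F K w := by
  obtain ⟨x, hx, hx'⟩ := h.exists_notMem hw hw'
  have hrat : ∀ φ : Dual K V, φ w = 0 → φ x ≠ 0 → ∀ z ∈ (kl F K w').map (g : V →ₗ[F] V),
      ∃ c : F, φ z = c • φ x := fun φ h0 h1 z hz =>
    h.ratio hr hw hw' h0 (fun l => hM (l • φ) (by simp [h0])) hx h1 hz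
  obtain ⟨φ, h1, h0⟩ := exists_dual_pair (F := K) hx'
  refine ⟨x, hx, hx', fun z hz => ?_⟩
  obtain ⟨c, hc⟩ := hrat φ h0 (by simp [h1]) z hz
  refine ⟨c, ?_⟩
  have hz' := Submodule.sub_mem _ hz (Submodule.smul_mem _ c hx)
  have h2 : φ (z - c • x) = 0 := by simp [hc]
  generalize z - c • x = v at hz' h2
  by_cases h3 : v ∈ Submodule.span K {x, w}
  · obtain ⟨a, b, rfl⟩ := Submodule.mem_span_pair.1 h3
    have : a = 0 := by simpa [h0, h1] using h2
    simpa [this] using smul_mem_kl (F := F) b w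
  obtain ⟨ψ, h4, h5⟩ := exists_dual_eq_one h3
  have h6 := h5 x (Submodule.subset_span (by simp))
  have h7 := h5 w (Submodule.subset_span (by simp))
  obtain ⟨θ, hθ⟩ : ∃ θ : K, θ ∉ (⊥ : Subalgebra F K) := by
    by_contra! hc
    exact (Subalgebra.isSimpleOrder_of_finrank_prime F K hr).toNontrivial.exists_pair_ne.elim
      fun a ⟨b, hab⟩ => hab (by
        have : ∀ S : Subalgebra F K, S = ⊥ := fun S => eq_bot_iff.2 fun x _ => hc x
        rw [this a, this b])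
  obtain ⟨d, hd⟩ := hrat (φ + θ • ψ) (by simp [h0, h7]) (by simp [h1, h6]) v hz'
  refine absurd (Algebra.mem_bot.2 ⟨d, ?_⟩) hθ
  simpa [h1, h2, h4, h6, Algebra.smul_def, eq_comm] using hd

omit [FiniteDimensional F V] in
theorem HasKSL.exists_conj (hK : HasKSL K M) (hg : g ∈ M) {y t : V}
    (hy : y ∉ (kl F K w').map (g : V →ₗ[F] V)) (ht : t ∈ (kl F K w').map (g : V →ₗ[F] V))
    (ht0 : t ≠ 0) : ∃ f : V →ₗ[F] V, (∀ a : F, ∃ u ∈ M, ∀ z, u z = z + a • f z) ∧
      (∀ z, f z ∈ (kl F K w').map (g : V →ₗ[F] V)) ∧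
      (∀ z ∈ (kl F K w').map (g : V →ₗ[F] V), f z = 0) ∧ f y = t ∧
      (∀ s ∈ (kl F K w').map (g : V →ₗ[F] V), ∃ z, f z = s) ∧
      ((∀ u v : V, u ∉ K ∙ w' → ∃ a : K, v - a • u ∈ K ∙ w') →
        ∀ z, f z = 0 → z ∈ (kl F K w').map (g : V →ₗ[F] V)) := by
  obtain ⟨y, rfl⟩ := g.surjective y
  have hy' : y ∉ K ∙ w' := fun h => hy (Submodule.mem_map_of_mem (f := (g : V →ₗ[F] V)) h)
  obtain ⟨_, ht, rfl⟩ := ht
  obtain ⟨κ, rfl⟩ := mem_kl.1 ht
  have hκ : κ ≠ 0 := by rintro rfl; simp at ht0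
  have hw' : w' ≠ 0 := by rintro rfl; simp at ht0
  obtain ⟨ψ, h1, h0⟩ := exists_dual_pair hy'
  refine ⟨(g : V →ₗ[F] V) ∘ₗ ((κ • ψ).smulRight w').restrictScalars F ∘ₗ (g.symm : V →ₗ[F] V),
    fun a => ?_, fun z => Submodule.mem_map_of_mem (smul_mem_kl _ _), ?_, by simp [h1], ?_, ?_⟩
  · obtain ⟨k, hk, hkx⟩ := hK.tv (φ := a • κ • ψ) (w := w') (by simp [h0])
    refine ⟨g * k * g⁻¹, M.mul_mem (M.mul_mem hg hk) (M.inv_mem hg), fun z => ?_⟩
    simp [hkx, smul_assoc]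
  · rintro _ ⟨z, hz, rfl⟩
    obtain ⟨b, rfl⟩ := mem_kl.1 hz
    simp [h0]
  · rintro _ ⟨z, hz, rfl⟩
    obtain ⟨b, rfl⟩ := mem_kl.1 hz
    exact ⟨g ((b / κ) • y), by simp [h1, mul_div_cancel₀ _ hκ]⟩
  · intro h2 z hz
    obtain ⟨z, rfl⟩ := g.surjective z
    obtain ⟨a, ha⟩ := h2 y z hy'
    have h3 : ψ z = 0 := by simpa [hκ, hw'] using hz
    obtain ⟨b, hb⟩ := Submodule.mem_span_singleton.1 ha
    have h4 : a = 0 := by simpa [h0, h1, h3] using congrArg ψ hb
    exact Submodule.mem_map_of_mem (f := (g : V →ₗ[F] V)) (by simpa [h4, mem_kl_iff] using ha)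

omit [FiniteDimensional F V] in
/-- The case `GL_2(4) < GL_4(2)`. -/
theorem HasKSL.exists_hasTv_small [FiniteDimensional K V] [FiniteDimensional F K]
    (hF : ∀ a : F, a ≠ 0 → a = 1) {ω : K} (hω : ω * ω = ω + 1)
    (hK : ∀ k : K, k = 0 ∨ k = 1 ∨ k = ω ∨ k = ω + 1)
    (hM : ∀ e : V ≃ₗ[F] V, (∀ (k : K) v, e (k • v) = k • e v) → e ∈ M)
    {a b : V} {φ ψ : Dual K V} (h1 : φ a = 1) (h2 : φ b = 0) (h3 : ψ a = 0) (h4 : ψ b = 1)
    (hV : ∀ v, v = φ v • a + ψ v • b) {c : Dual F K} (hc1 : c 1 = 1) (hc2 : c ω = 0)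
    {u : V ≃ₗ[F] V} (hu : u ∈ M) (u1 : u a = a) (u2 : u b = b) (u3 : u (ω • a) = ω • a + b)
    (u4 : u (ω • b) = ω • b + a ∨ u (ω • b) = ω • b + (a + b)) :
    HasTv M (c ∘ₗ (φ + ψ).restrictScalars F) (a + b) := by
  have hF2 : (1 : F) + 1 = 0 := by
    by_contra h0; simpa using hF _ h0
  have hK2 : (1 : K) + 1 = 0 := by simpa using congrArg (algebraMap F K) hF2
  have e1 : ∀ v : V, v + v = 0 := fun v => by rw [← one_smul F v, ← add_smul, hF2, zero_smul]
  have e2 : ∀ v w : V, v + (v + w) = w := fun v w => by rw [← add_assoc, e1, zero_add]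
  have hω0 : ω ≠ 0 := by rintro rfl; simp at hω
  have hω1 : 1 + ω ≠ 0 := by rw [add_comm, ← hω]; simpa
  have w2 : ∀ v : V, ω • ω • v = ω • v + v := fun v => by rw [smul_smul, hω, add_smul, one_smul]
  have lin : ∀ e : V ≃ₗ[F] V, (∀ v, e (ω • v) = ω • e v) → e ∈ M := fun e he =>
    hM e fun k v => by rcases hK k with rfl | rfl | rfl | rfl <;> simp [he, add_smul]
  have dil : ∀ (χ : Dual K V) (x : V) (l : K), χ x = 1 → 1 + l ≠ 0 →
      ∃ e ∈ M, ∀ z, e z = z + (l * χ z) • x := fun χ x l h5 h6 => by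
    obtain ⟨e, he, -⟩ := exists_kdil (F := F) (φ := l • χ) (w := x) (by simpa [h5])
    exact ⟨e, lin e fun v => by simp [he, smul_smul, mul_left_comm], he⟩
  obtain ⟨d, hd, hdx⟩ := dil φ a ω h1 hω1
  obtain ⟨d', hd', d1, d2, d3, d4⟩ : ∃ d' ∈ M, d' a = a ∧ d' (ω • a) = ω • a ∧
      (u (ω • b) = ω • b + a → d' b = b + ω • b ∧ d' (ω • b) = b) ∧
      (u (ω • b) ≠ ω • b + a → d' b = ω • b ∧ d' (ω • b) = ω • b + b) := by
    by_cases h5 : u (ω • b) = ω • b + a
    · obtain ⟨d', hd', hx⟩ := dil ψ b ω h4 hω1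
      exact ⟨d', hd', by simp [hx, h3], by simp [hx, h3],
        fun _ => ⟨by simp [hx, h4], by simp [hx, h4, hω, add_smul, e2]⟩, fun h => absurd h5 h⟩
    · obtain ⟨d', hd', hx⟩ := dil ψ b (ω + 1) h4 (by rwa [add_comm ω, ← add_assoc, hK2, zero_add])
      exact ⟨d', hd', by simp [hx, h3], by simp [hx, h3], fun h => absurd h h5, fun _ =>
        ⟨by simp [hx, h4, add_smul, add_comm (ω • b), e2], by
          simp [hx, h4, hω, add_mul, add_smul, add_assoc, add_comm b, e1, e2]⟩⟩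
  have da : d a = a + ω • a := by simp [hdx, h1]
  have dwa : d (ω • a) = a := by simp [hdx, h1, hω, add_smul, e2]
  have db : d b = b := by simp [hdx, h2]
  have dwb : d (ω • b) = ω • b := by simp [hdx, h2]
  refine hasTv_of_forall (by simp [h1, h2, h3, h4, hF2, hc1]) fun t ht => ?_
  have ta : t a = b := by simp [ht, h1, h3, hc1, e2]
  have tb : t b = a := by simp [ht, h2, h4, hc1, add_comm a, e2]
  have twa : t (ω • a) = ω • a := by simp [ht, h1, h3, hc2]
  have twb : t (ω • b) = ω • b := by simp [ht, h2, h4, hc2]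
  have : t * (u * (d * d') * u) ∈ M := lin _ fun v => by
    have key : ∀ x, (t * (u * (d * d') * u)) (ω • x) = ω • (t * (u * (d * d') * u)) x →
        (t * (u * (d * d') * u)) (ω • ω • x) = ω • (t * (u * (d * d') * u)) (ω • x) →
        ∀ k : K, (t * (u * (d * d') * u)) (ω • k • x) = ω • (t * (u * (d * d') * u)) (k • x) := by
      intro x h5 h6 k
      rcases hK k with rfl | rfl | rfl | rfl
      · simp
      · simpa using h5
      · exact h6
      · simp only [add_smul, one_smul, smul_add, map_add, h5, h6]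
    by_cases h5 : u (ω • b) = ω • b + a
    · obtain ⟨d5, d6⟩ := d3 h5
      rw [hV v, smul_add, map_add, map_add, smul_add, key a, key b] <;>
      simp only [LinearEquiv.mul_apply, w2, map_add, smul_add, u1, u2, u3, h5, d1, d2, d5, d6, da,
        dwa, db, dwb, ta, tb, twa, twb] <;>
      simp only [add_assoc, add_comm, add_left_comm, e1, e2, add_zero, zero_add]
    · obtain ⟨d5, d6⟩ := d4 h5
      have h6 := u4.resolve_left h5
      rw [hV v, smul_add, map_add, map_add, smul_add, key a, key b] <;>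
      simp only [LinearEquiv.mul_apply, w2, map_add, smul_add, u1, u2, u3, h6, d1, d2, d5, d6, da,
        dwa, db, dwb, ta, tb, twa, twb] <;>
      simp only [add_assoc, add_comm, add_left_comm, e1, e2, add_zero, zero_add]
  exact (M.mul_mem_cancel_right (M.mul_mem (M.mul_mem hu (M.mul_mem hd hd')) hu)).1 this

end H62
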