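import Cfsg.Agent.H62.C3Base

set_option autoImplicit false

/-! Overgroups of `SL_m(K)` in `SL(V)`: from one transvection to all of them. -/

namespace H62

open Module

variable {F K V : Type*} [Field F] [Field K] [Algebra F K] [AddCommGroup V] [Module F V]
  [Module K V] [IsScalarTower F K V] {M : Subgroup (V ≃ₗ[F] V)}

/-- The maps `f` such that `z ↦ z + f (φ z) w` lies in `M`. -/
def addA (M : Subgroup (V ≃ₗ[F] V)) {φ : Dual K V} {w : V} (h : φ w = 0) :
    AddSubgroup (K →ₗ[F] K) where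
  carrier := {f | ∃ e ∈ M, ∀ z, e z = z + f (φ z) • w}
  zero_mem' := ⟨1, M.one_mem, by simp⟩
  add_mem' := by
    rintro f f' ⟨e, he, hx⟩ ⟨e', he', hx'⟩
    refine ⟨e * e', M.mul_mem he he', fun z => ?_⟩
    simp only [LinearEquiv.mul_apply, hx, hx', map_add, map_smul, h, smul_zero, add_zero,
      LinearMap.add_apply, add_smul]
    abel
  neg_mem' := by
    rintro f ⟨e, he, hx⟩
    refine ⟨e⁻¹, M.inv_mem he, fun z => e.injective ?_⟩
    rw [LinearEquiv.coe_inv, LinearEquiv.apply_symm_apply, hx]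
    simp [h]

theorem mem_addA {φ : Dual K V} {w : V} (h : φ w = 0) {f : K →ₗ[F] K} :
    f ∈ addA M h ↔ ∃ e ∈ M, ∀ z, e z = z + f (φ z) • w := Iff.rfl

variable (K) in
/-- `M` contains the `K`-transvections and the `K`-dilations of norm one. -/
def HasKSL (M : Subgroup (V ≃ₗ[F] V)) : Prop :=
  ∀ (φ : Dual K V) w, Algebra.norm F (1 + φ w) = 1 → ∃ e ∈ M, ∀ z, e z = z + φ z • w

theorem HasKSL.tv (h : HasKSL K M) {φ : Dual K V} {w : V} (h0 : φ w = 0) :
    ∃ e ∈ M, ∀ z, e z = z + φ z • w := h φ w (by simp [h0])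

variable [Finite K]

theorem HasKSL.smul_mem (h : HasKSL K M) (hr : 1 < finrank F K) {φ : Dual K V} {w : V}
    (h0 : φ w = 0) (hw : w ≠ 0) (a : K) : ∀ f ∈ addA M h0, a • f ∈ addA M h0 := by
  let S : Subring K :=
    { carrier := {a | ∀ f ∈ addA M h0, a • f ∈ addA M h0}
      mul_mem' := fun ha hb f hf => by rw [mul_smul]; exact ha _ (hb f hf)
      one_mem' := fun f hf => by simpa
      add_mem' := fun ha hb f hf => by rw [add_smul]; exact add_mem (ha f hf) (hb f hf)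
      zero_mem' := fun f hf => by simp
      neg_mem' := fun ha f hf => by convert neg_mem (ha f hf) using 1; ext; simp }
  have := subring_eq_top_of_norm hr S fun a ha => by
    rintro f ⟨e, he, hx⟩
    obtain ⟨χ, hχ⟩ := exists_dual_of_ne_zero (F := K) hw
    obtain ⟨d, hd, hdx⟩ := h ((a - 1) • χ) w (by simpa [hχ])
    refine ⟨d * e * d⁻¹, M.mul_mem (M.mul_mem hd he) (M.inv_mem hd), fun z => ?_⟩
    obtain ⟨z, rfl⟩ := d.surjective z
    rw [LinearEquiv.mul_apply, LinearEquiv.coe_inv, LinearEquiv.symm_apply_apply]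
    simp only [LinearEquiv.mul_apply, hx, hdx, map_add, map_smul, h0, hχ, LinearMap.smul_apply,
      smul_eq_mul, mul_zero, add_zero]
    module
  exact (this ▸ Subring.mem_top a : a ∈ S)

theorem HasKSL.comp_mem (h : HasKSL K M) (hr : 1 < finrank F K) {φ : Dual K V} {w x : V}
    (h0 : φ w = 0) (hx1 : φ x = 1) (a : K) :
    ∀ f ∈ addA M h0, f ∘ₗ LinearMap.mul F K a ∈ addA M h0 := by
  let S : Subring K :=
    { carrier := {a | ∀ f ∈ addA M h0, f ∘ₗ LinearMap.mul F K a ∈ addA M h0}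
      mul_mem' := fun {a b} ha hb f hf => by
        convert hb _ (ha f hf) using 1; ext; simp [mul_assoc]
      one_mem' := fun f hf => by convert hf using 1; ext; simp
      add_mem' := fun ha hb f hf => by
        rw [map_add, LinearMap.comp_add]; exact add_mem (ha f hf) (hb f hf)
      zero_mem' := fun f hf => by simp
      neg_mem' := fun ha f hf => by rw [map_neg, LinearMap.comp_neg]; exact neg_mem (ha f hf) }
  have := subring_eq_top_of_norm hr S fun a ha => by
    rintro f ⟨e, he, hx⟩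
    obtain ⟨d, hd, hdx⟩ := h ((a - 1) • φ) x (by simpa [hx1])
    refine ⟨d⁻¹ * e * d, M.mul_mem (M.mul_mem (M.inv_mem hd) he) hd, fun z => d.injective ?_⟩
    rw [LinearEquiv.mul_apply, LinearEquiv.mul_apply, LinearEquiv.coe_inv,
      LinearEquiv.apply_symm_apply, hx, map_add d, hdx (_ • w)]
    have : φ (d z) = a * φ z := by simp [hdx, hx1]; ring
    simp [this, h0]
  exact (this ▸ Subring.mem_top a : a ∈ S)

/-- `addA` as a `K`-subspace. -/
def HasKSL.sub (h : HasKSL K M) (hr : 1 < finrank F K) {φ : Dual K V} {w : V}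
    (h0 : φ w = 0) (hw : w ≠ 0) : Submodule K (K →ₗ[F] K) where
  carrier := addA M h0
  add_mem' := add_mem
  zero_mem' := zero_mem _
  smul_mem' a f hf := h.smul_mem hr h0 hw a f hf

omit [Finite K] in
theorem exists_dual_apply_eq_one {E U : Type*} [Field E] [AddCommGroup U] [Module E U]
    {φ : Dual E U} (h : φ ≠ 0) : ∃ x, φ x = 1 := by
  obtain ⟨x, hx⟩ : ∃ x, φ x ≠ 0 := by
    by_contra! hc; exact h (LinearMap.ext hc)
  exact ⟨(φ x)⁻¹ • x, by simp [hx]⟩

theorem HasKSL.forall_hasTv [FiniteDimensional F V] (h : HasKSL K M) (hr : 1 < finrank F K)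
    (h2 : ∀ w : V, ∃ u, u ∉ K ∙ w) {c : Dual F K} (hc : c ≠ 0) {φ₀ : Dual K V} (hφ₀ : φ₀ ≠ 0)
    {w₀ : V} (hw₀ : w₀ ≠ 0) (h0 : φ₀ w₀ = 0) (ht : HasTv M (c ∘ₗ φ₀.restrictScalars F) w₀)
    (η : Dual F V) (u : V) (hu : η u = 0) : HasTv M η u := by
  let G : Dual K V → V → Prop := fun φ w => ∀ η : Dual F K, HasTv M (η ∘ₗ φ.restrictScalars F) w
  have g0 : ∀ a : K, G φ₀ (a • w₀) := fun a η => by
    obtain ⟨x, hx⟩ := exists_dual_apply_eq_one hφ₀
    obtain ⟨b, hb⟩ := exists_eq_mul hc η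
    obtain ⟨e, he, hex⟩ := h.smul_mem hr h0 hw₀ a _ (h.comp_mem hr h0 hx b (c.smulRight 1) (by
      obtain ⟨e, he, hex⟩ := ht
      exact ⟨e, he, fun z => by simp [hex]⟩))
    exact ⟨e, he, fun z => by simp [hex, hb]⟩
  have g1 : ∀ u, u ≠ 0 → ∃ φ : Dual K V, φ ≠ 0 ∧ φ u = 0 ∧ G φ u := fun u hu0 => by
    by_cases h1 : u ∈ K ∙ w₀
    · obtain ⟨a, rfl⟩ := Submodule.mem_span_singleton.1 h1
      exact ⟨φ₀, hφ₀, by simp [h0], g0 a⟩
    obtain ⟨χ, h3, h4⟩ := exists_dual_pair (notMem_span_symm hw₀ (v := u - w₀) fun h3 => h1 (by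
      simpa using Submodule.add_mem _ h3 (Submodule.mem_span_singleton_self w₀)))
    obtain ⟨t, ht, htx⟩ := h.tv h4
    have h5 : ∀ z, (φ₀ - φ₀ (u - w₀) • χ) (t z) = φ₀ z := fun z => by
      simp only [htx, LinearMap.sub_apply, LinearMap.smul_apply, map_add, map_smul, h4,
        smul_eq_mul]
      ring
    have h6 : t w₀ = u := by simp [htx, h3]
    refine ⟨φ₀ - φ₀ (u - w₀) • χ, fun h7 => hφ₀ (LinearMap.ext fun z => by
      rw [← h5 z, h7]; rfl), by have := h5 w₀; rwa [h6, h0] at this, fun η => ?_⟩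
    have := (g0 1 η).conj' ht (ψ := η ∘ₗ (φ₀ - φ₀ (u - w₀) • χ).restrictScalars F)
      fun z => congrArg η (h5 z)
    rwa [one_smul, h6] at this
  have g2 : ∀ u (φ : Dual K V), φ u = 0 → G φ u := fun u φ hφ η => by
    by_cases hu0 : u = 0
    · exact hu0 ▸ HasTv.zero_right _ _
    obtain ⟨φ', h3, h4, h5⟩ := g1 u hu0
    by_cases h6 : ∀ x, φ x = 0 → φ' x = 0
    · obtain ⟨b, rfl⟩ := exists_smul_of_ker_le h6
      have hb : b ≠ 0 := by rintro rfl; simp at h3
      exact (h5 (η ∘ₗ LinearMap.mul F K b⁻¹)).congr fun x => by simp [hb]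
    push Not at h6
    obtain ⟨x, h6, h7⟩ := h6
    obtain ⟨t, ht, htx⟩ := h.tv (φ := φ) (w := (φ' x)⁻¹ • x) (by simp [h6])
    have := (h5 η).conj' ht (ψ := η ∘ₗ (φ' - φ).restrictScalars F)
      fun z => congrArg η (by simp [htx, h6, h7])
    rw [htx, hφ, zero_smul, add_zero] at this
    exact ((h5 η).sub_left this (by simp [h4]) (by simp [h4, hφ])).congr fun x => by simp
  obtain ⟨φ, hφ⟩ := exists_comp_eq hc η
  have g3 : ∀ v, φ v = 0 → HasTv M η v := fun v hv => (g2 v φ hv c).congr fun x => by simp [hφ]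
  by_cases h3 : φ u = 0
  · exact g3 u h3
  obtain ⟨v, hv⟩ := h2 u
  have h4 : φ (v - (φ v / φ u) • u) = 0 := by simp [h3]
  obtain ⟨χ, h5, h6⟩ := exists_dual_pair (u := u) (w := v - (φ v / φ u) • u) (F := K) (by
    rwa [Submodule.sub_mem_iff_left _ (Submodule.smul_mem _ _ (Submodule.mem_span_singleton_self u))])
  obtain ⟨η', h7⟩ := exists_dual_of_ne_zero (F := F) (one_ne_zero (α := K))
  have := (g2 u χ h6 η').comm_right (by simp [h6]) (g3 _ h4) (by rw [← hφ, h4, map_zero]) hu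
  rwa [LinearMap.comp_apply, LinearMap.restrictScalars_apply, h5, h7, one_smul] at this

end H62
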