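import Cfsg.Agent.H96.U2ISpec

/-! # S3275, chapter U2I, slot TLa -/

set_option autoImplicit false

namespace H62.DPU

open H98 H96.U2I

universe u

section

variable {W : Type u} [AddCommGroup W]

/-- The overgroup of the group of transvections with axis `H`. -/
def Sg (h2 : ∀ w : W, w + w = 0) (X : Subgroup (Au W)) (H : AddSubgroup W) (c : W) :
    Subgroup (Au W) where
  carrier := {σ | σ ∈ X ∧ (∀ p : W, σ p + p ∈ H) ∧ (∀ p ∈ H, σ p = p ∨ σ p = p + c) ∧ σ c = c}
  one_mem' := ⟨one_mem _, fun p => by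
    have e : (1 : Au W) p + p = 0 := h2 p
    rw [e]; exact zero_mem _, fun p _ => Or.inl rfl, rfl⟩
  mul_mem' := fun {a b} ha hb => by
    obtain ⟨ha1, ha2, ha3, ha4⟩ := ha
    obtain ⟨hb1, hb2, hb3, hb4⟩ := hb
    refine ⟨mul_mem ha1 hb1, fun p => ?_, fun p hp => ?_, ?_⟩
    · have e : (a * b) p + p = (a (b p) + b p) + (b p + p) := by
        have e1 : (a * b) p = a (b p) := rfl
        rw [e1]
        calc a (b p) + p = a (b p) + (b p + b p) + p := by rw [h2, add_zero]
          _ = (a (b p) + b p) + (b p + p) := by abel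
      rw [e]; exact add_mem (ha2 _) (hb2 _)
    · have e1 : (a * b) p = a (b p) := rfl
      rw [e1]
      rcases hb3 p hp with h | h
      · rw [h]; exact ha3 p hp
      · rw [h, map_add, ha4]
        rcases ha3 p hp with h' | h'
        · right; rw [h']
        · left; rw [h', add_assoc, h2, add_zero]
    · have e1 : (a * b) c = a (b c) := rfl
      rw [e1, hb4, ha4]
  inv_mem' := fun {a} ha => by
    obtain ⟨ha1, ha2, ha3, ha4⟩ := ha
    have k : ∀ p : W, a (a⁻¹ p) = p := fun p => a.apply_symm_apply p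
    have k2 : ∀ p : W, a⁻¹ p + p ∈ H := fun p => by
      have := ha2 (a⁻¹ p)
      rw [k, add_comm] at this
      exact this
    refine ⟨inv_mem ha1, k2, fun p hp => ?_, ?_⟩
    · have hp' : a⁻¹ p ∈ H := by
        have := add_mem (k2 p) hp
        rwa [add_assoc, h2, add_zero] at this
      rcases ha3 _ hp' with h | h
      · left; rw [k] at h; exact h.symm
      · right; rw [k] at h
        calc a⁻¹ p = a⁻¹ p + c + c := by rw [add_assoc, h2, add_zero]
          _ = p + c := by rw [← h]
    · apply a.injective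
      rw [k, ha4]

theorem Sg_pow (h2 : ∀ w : W, w + w = 0) (X : Subgroup (Au W)) (H : AddSubgroup W) (c : W)
    {a : Au W} (ha : a ∈ Sg h2 X H c) : a ^ 2 ^ 2 = 1 := by
  obtain ⟨-, ha2, ha3, ha4⟩ := ha
  have s : ∀ p : W, a (a p) = p ∨ a (a p) = p + c := fun p => by
    have e : a p = p + (a p + p) := by
      calc a p = a p + (p + p) := by rw [h2, add_zero]
        _ = p + (a p + p) := by abel
    have e2 : a (a p) = a p + a (a p + p) := by
      conv_lhs => rw [e]
      rw [map_add]
    rcases ha3 _ (ha2 p) with h | h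
    · left
      rw [e2, h, ← add_assoc, h2, zero_add]
    · right
      rw [e2, h, ← add_assoc, ← add_assoc, h2, zero_add]
  ext p
  have e : (a ^ 2 ^ 2) p = a (a (a (a p))) := by
    rw [show (2 : ℕ) ^ 2 = 1 + 1 + 1 + 1 by norm_num, pow_succ, pow_succ, pow_succ, pow_one]
    rfl
  rw [e]
  show a (a (a (a p))) = p
  rcases s p with h | h
  · rw [h, h]
  · rw [h, map_add, map_add, h, ha4, ha4, add_assoc, h2, add_zero]

end

theorem jobTLa : TLa.{u} := by
  intro W _ _ X T H q h2 hT hq hi hfix hsur g hg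
  by_contra hn
  rw [not_or] at hn
  obtain ⟨hn1, hn2⟩ := hn
  push Not at hn1 hn2
  obtain ⟨p0, hp0, hgp0⟩ := hn1
  obtain ⟨c0, hc0, hc, hc00⟩ := hn2
  obtain ⟨t, ht, htq⟩ := hsur c0 hc0
  have sm : ∀ (a : Au W) (p : W), a • p = a p := fun _ _ => rfl
  simp only [sm] at hfix hgp0 hc htq
  have kg : ∀ p : W, g (g⁻¹ p) = p := fun p => g.apply_symm_apply p
  have kg' : ∀ p : W, g⁻¹ (g p) = p := fun p => g.symm_apply_apply p
  have dec : ∀ p : W, p + q ∈ H → p = q + (p + q) := fun p _ => by
    calc p = p + (q + q) := by rw [h2, add_zero]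
      _ = q + (p + q) := by abel
  have tp : ∀ p : W, t p = p ∨ t p = p + c0 := fun p => by
    rcases hi p with h | h
    · exact Or.inl (hfix t ht p h)
    · right
      have e := dec p h
      calc t p = t (q + (p + q)) := by rw [← e]
        _ = q + c0 + (p + q) := by rw [map_add, htq, hfix t ht _ h]
        _ = q + (p + q) + c0 := by abel
        _ = p + c0 := by rw [← e]
  have τa : ∀ p : W, (g * t * g⁻¹) p = g (t (g⁻¹ p)) := fun _ => rfl
  have τp : ∀ p : W, (g * t * g⁻¹) p = p ∨ (g * t * g⁻¹) p = p + g c0 := fun p => by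
    rw [τa]
    rcases tp (g⁻¹ p) with h | h
    · left; rw [h, kg]
    · right; rw [h, map_add, kg]
  have hτ : g * t * g⁻¹ ∈ Sg h2 X H (g c0) := by
    refine ⟨mul_mem (mul_mem hg (hT.le ht)) (inv_mem hg), fun p => ?_, fun p _ => τp p, ?_⟩
    · rcases τp p with h | h
      · rw [h, h2]; exact zero_mem _
      · rw [h, add_right_comm, h2, zero_add]; exact hc
    · rw [τa, kg', hfix t ht _ hc0]
  have hTS : T ≤ Sg h2 X H (g c0) := fun s hs => by
    refine ⟨hT.le hs, fun p => ?_, fun p hp => Or.inl (hfix s hs p hp), hfix s hs _ hc⟩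
    have hsq : s q + q ∈ H := by
      rcases hi (s q) with h | h
      · exfalso
        have e := hfix s hs _ h
        have e2 : s q = q := s.injective e
        exact hq (e2 ▸ h)
      · exact h
    rcases hi p with h | h
    · rw [hfix s hs p h, h2]; exact zero_mem _
    · have e := dec p h
      have e2 : s p + p = s q + q := by
        calc s p + p = s (q + (p + q)) + p := by rw [← e]
          _ = s q + (p + q) + p := by rw [map_add, hfix s hs _ h]
          _ = s q + q + (p + p) := by abel
          _ = s q + q := by rw [h2, add_zero]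
      rw [e2]; exact hsq
  have hP : IsPGroup 2 (Sg h2 X H (g c0)) := fun a =>
    ⟨2, Subtype.ext (Sg_pow h2 X H _ a.2)⟩
  have hE := hT.eq_of_le hP hTS (fun a ha => ha.1)
  have hτT : g * t * g⁻¹ ∈ T := hE ▸ hτ
  have f0 : (g * t * g⁻¹) (g p0) = g p0 := by rw [τa, kg', hfix t ht _ hp0]
  have hq0 : g p0 + q ∈ H := (hi _).resolve_left hgp0
  have fq : (g * t * g⁻¹) q = q := by
    have e : q = g p0 + (g p0 + q) := by rw [← add_assoc, h2, zero_add]
    calc (g * t * g⁻¹) q = (g * t * g⁻¹) (g p0 + (g p0 + q)) := by rw [← e]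
      _ = g p0 + (g p0 + q) := by rw [map_add, f0, hfix _ hτT _ hq0]
      _ = q := e.symm
  have fall : ∀ p : W, (g * t * g⁻¹) p = p := fun p => by
    rcases hi p with h | h
    · exact hfix _ hτT p h
    · have e := dec p h
      calc (g * t * g⁻¹) p = (g * t * g⁻¹) (q + (p + q)) := by rw [← e]
        _ = q + (p + q) := by rw [map_add, fq, hfix _ hτT _ h]
        _ = p := e.symm
  have := fall (g q)
  rw [τa, kg', htq] at this
  have e3 : q + c0 = q := g.injective this
  exact hc00 (by simpa using e3)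

end H62.DPU
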