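import Cfsg.Agent.H40.E8FSpec

/-! Tower E8F (row S5920), slot Form: the invariant form of a simply laced Chevalley algebra. -/

set_option autoImplicit false
set_option linter.unusedSectionVars false

namespace H62.E8Form

open Cfsg.Lie H63 H65 H14.E8 H40.E8F Matrix Module

variable (D : ChevalleyDatum) [RS D] (R : Type) [CommRing R]

/-- The form. -/
noncomputable def β : (D.Idx → R) →ₗ[R] (D.Idx → R) →ₗ[R] R :=
  LinearMap.mk₂ R (fun v w => ∑ r : Rt D, v (.inr r) * w (.inr (negR r)) +
      ∑ i : Fin D.rank, ∑ j : Fin D.rank, (D.cartan i (D.simple j) : R) * (v (.inl i) * w (.inl j)))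
    (fun a b c => by simp only [Pi.add_apply, add_mul, mul_add, Finset.sum_add_distrib]; ring)
    (fun a b c => by
      simp only [Pi.smul_apply, smul_eq_mul, mul_add, Finset.mul_sum, mul_assoc, mul_left_comm a])
    (fun a b c => by simp only [Pi.add_apply, mul_add, Finset.sum_add_distrib]; ring)
    (fun a b c => by
      simp only [Pi.smul_apply, smul_eq_mul, mul_add, Finset.mul_sum, mul_left_comm a])

variable {D R}

theorem β_apply (v w : D.Idx → R) : β D R v w = ∑ r : Rt D, v (.inr r) * w (.inr (negR r)) +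
    ∑ i : Fin D.rank, ∑ j : Fin D.rank, (D.cartan i (D.simple j) : R) * (v (.inl i) * w (.inl j)) := rfl

theorem β_map {S : Type} [CommRing S] (φ : R →+* S) (v w : D.Idx → R) :
    φ (β D R v w) = β D S (φ ∘ v) (φ ∘ w) := by
  simp [β_apply]

theorem β_root (v : D.Idx → R) (s : Rt D) : β D R v (bv D R s) = v (.inr (negR s)) := by
  have h : ∀ j : Fin D.rank, bv D R s (.inl j) = 0 := fun j => by
    have := s.2
    rw [bv_inl, if_neg (by omega)]
  rw [β_apply, Finset.sum_eq_single (negR s) (fun r _ hr => by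
    rw [bv_inr, if_neg fun e => hr (negR_eq_iff.1 (Fin.ext e)), mul_zero]) (by simp), negR_negR, bv_inr]
  simp [h]

theorem β_h (v : D.Idx → R) (j : Fin D.rank) :
    β D R v (bv D R (D.nroots + j)) = ∑ i : Fin D.rank, (D.cartan i (D.simple j) : R) * v (.inl i) := by
  have h : ∀ r : Rt D, bv D R (D.nroots + j) (.inr r) = 0 := fun r => by
    have := r.2
    rw [bv_inr, if_neg (by omega)]
  simp [β_apply, h, bv_inl, Fin.val_inj]

theorem br_of_rt {r s k : Rt D} (h : rt k = rt s + rt r) : ∃ M : ℤ, br D r s = [((k : ℕ), M)] := by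
  obtain ⟨M, l, e⟩ := chain_head h
  refine ⟨M, ?_⟩
  rw [br_root_root r.2 s.2 fun e' => rt_ne_zero k ?_, e]
  · rfl
  · rw [h, show s = negR r from Fin.ext e', rt_negR, neg_add_cancel]

theorem br_inr {r s k : Rt D} (h : rt k ≠ rt s + rt r) : vec D R (br D r s) (.inr k) = 0 := by
  by_cases e : (s : ℕ) = D.neg r
  · rw [e, br_root_neg r.2, vec_coL_inr]
  rw [br_root_root r.2 s.2 e]
  rcases hc : D.chainEntry r s with _ | ⟨⟨u, M⟩, l⟩
  · rfl
  · obtain ⟨hu, h2⟩ := chain_head_rt hc
    have : ¬ (k : ℕ) = u := fun e' => h (by rw [← h2]; exact congrArg rt (Fin.ext e'))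
    simp [bv_inr, this]

theorem br_inl {r s : Rt D} (e : s ≠ negR r) (i : Fin D.rank) : vec D R (br D r s) (.inl i) = 0 := by
  rw [br_root_root r.2 s.2 fun e' => e (Fin.ext e')]
  rcases hc : D.chainEntry r s with _ | ⟨⟨u, M⟩, l⟩
  · rfl
  · obtain ⟨hu, -⟩ := chain_head_rt hc
    have : ¬ D.nroots + i = u := by omega
    simp [bv_inl, this]

variable [Tab D] (hl : ∀ r : Rt D, len r = 1)
include hl

theorem co_eq (r : Rt D) (i : Fin D.rank) : co D r i = rt r i := by
  simpa [hl] using co_len r i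

theorem β_symm (v w : D.Idx → R) : β D R v w = β D R w v := by
  rw [β_apply, β_apply, Finset.sum_comm]
  congr 1
  · exact Fintype.sum_bijective negR (Function.Involutive.bijective negR_negR) _ _ fun r => by
      rw [negR_negR, mul_comm]
  · refine Finset.sum_congr rfl fun i _ => Finset.sum_congr rfl fun j _ => ?_
    have := gram_symm (D := D) i j
    simp only [H63.gram, hl, one_mul] at this
    rw [this, mul_comm (w _)]

theorem sign {r s u : Rt D} (h : rt (negR u) = rt s + rt r) {M M' : ℤ}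
    (h1 : br D r s = [((negR u).val, M)]) (h2 : br D r u = [((negR s).val, M')]) :
    M + M' = 0 := by
  have lt : ∀ a : Rt D, (a : ℕ) < D.nroots + D.rank := fun a => by have := a.2; omega
  obtain ⟨N, h3⟩ := br_of_rt (r := s) (s := u) (k := negR r) (by
    rw [rt_negR] at h ⊢; linear_combination (exp := 1) h)
  have h4 := B_leibniz (bv D ℤ r) (bv D ℤ s) (bv D ℤ u)
  have h5 : br D (D.neg u) u = coL D (D.neg u) := by
    have := br_root_neg (D := D) (neg_lt u.2)
    rwa [neg_neg' u.2] at this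
  rw [B_bv D (lt s) (lt u), B_bv D (lt r) (lt s), B_bv D (lt r) (lt u), h1, h2, h3] at h4
  simp only [vec_cons, vec_nil, add_zero, map_smul, LinearMap.smul_apply, B_bv D (lt _) (lt _)] at h4
  rw [negR_val, negR_val, negR_val, br_root_neg r.2, br_root_neg s.2, h5] at h4
  have h6 : N • rt r = M • (rt s + rt r) + M' • rt s := funext fun i => by
    have := congrFun h4 (.inl i)
    simp only [Pi.add_apply, Pi.smul_apply, vec_coL_inl, Int.cast_id] at this
    rw [← h, Pi.add_apply, Pi.smul_apply, Pi.smul_apply, Pi.smul_apply, ← co_eq hl, ← co_eq hl,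
      ← co_eq hl]
    exact this
  have h7 := form_rt_self (negR u)
  have h8 := congrArg (form (rt r)) h6
  have h9 := congrArg (form (rt s)) h6
  simp only [h, form_add_left, form_add_right, form_smul_right, form_rt_self, hl,
    form_symm (rt s) (rt r)] at h7 h8 h9
  rw [show form (rt r) (rt s) = -1 by omega] at h8 h9
  omega

theorem skew_hr (r s : Rt D) (i : Fin D.rank) :
    β D R (B D R (bv D R r) (bv D R (D.nroots + i))) (bv D R s) +
      β D R (B D R (bv D R r) (bv D R s)) (bv D R (D.nroots + i)) = 0 := by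
  have := r.2
  have := s.2
  have := i.2
  rw [B_bv D (by omega) (by omega), B_bv D (by omega) (by omega), β_root, β_h, br_root_h r.2]
  by_cases e : s = negR r
  · subst e
    have h1 := pairing_mul_len_comm r (simpleR i)
    rw [hl, hl, one_mul, one_mul, simpleR_val, pairing_simple, pairing_eq] at h1
    rw [negR_negR, negR_val, br_root_neg r.2]
    simp only [vec_coL_inl, vec_cons, vec_nil, add_zero, Pi.smul_apply, bv_inr, if_true, ← h1, co]
    push_cast
    simp [mul_comm]
  · have : ¬ D.neg s = r := fun e' => e (negR_eq_iff.1 (Fin.ext e'))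
    simp [br_inl e, bv_inr, this]

theorem skew (r : Rt D) (v w : D.Idx → R) :
    β D R (B D R (bv D R r) v) w + β D R (B D R (bv D R r) w) v = 0 := by
  have : (β D R) ∘ₗ (B D R (bv D R r)) + ((β D R) ∘ₗ (B D R (bv D R r))).flip = 0 := by
    refine lin_ext_bv D fun y hy => lin_ext_bv D fun z hz => ?_
    change β D R (B D R (bv D R r) _) _ + β D R (B D R (bv D R r) _) _ = 0
    have := r.2
    rcases idx_cases hy with hy | ⟨i, hi, rfl⟩ <;> rcases idx_cases hz with hz | ⟨j, hj, rfl⟩
    · obtain ⟨s, rfl⟩ : ∃ s : Rt D, (s : ℕ) = y := ⟨⟨y, hy⟩, rfl⟩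
      obtain ⟨u, rfl⟩ : ∃ s : Rt D, (s : ℕ) = z := ⟨⟨z, hz⟩, rfl⟩
      rw [β_root, β_root, B_bv D (by omega) (by omega), B_bv D (by omega) (by omega)]
      by_cases h : rt (negR u) = rt s + rt r
      · obtain ⟨M, h1⟩ := br_of_rt h
        obtain ⟨M', h2⟩ := br_of_rt (r := r) (s := u) (k := negR s) (by
          rw [rt_negR] at h ⊢; linear_combination (exp := 1) h)
        rw [h1, h2]
        simp only [vec_cons, vec_nil, add_zero, Pi.smul_apply, bv_inr, if_true, smul_eq_mul, mul_one]
        rw [← Int.cast_add, sign hl h h1 h2, Int.cast_zero]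
      · rw [br_inr h, br_inr fun e => h (by
          rw [rt_negR] at e ⊢; linear_combination (exp := 1) e), add_zero]
    · exact (add_comm _ _).trans (skew_hr hl r ⟨y, hy⟩ ⟨j, hj⟩)
    · exact skew_hr hl r ⟨z, hz⟩ ⟨i, hi⟩
    · have h : ∀ k : Fin D.rank, ¬ D.nroots + k = r := fun k => by omega
      rw [B_bv D (by omega) (by omega), B_bv D (by omega) (by omega), br_root_h r.2, br_root_h r.2,
        β_h _ ⟨i, hi⟩, β_h _ ⟨j, hj⟩]
      simp [bv_inl, h]
  exact LinearMap.congr_fun₂ this v w

theorem inv_rat (r : Rt D) (t : ℚ) (v w : D.Idx → ℚ) :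
    β D ℚ (X D ℚ r t *ᵥ v) (X D ℚ r t *ᵥ w) = β D ℚ v w := by
  have h1 : ∀ (k : ℕ) (v w : D.Idx → ℚ), β D ℚ (((t • B D ℚ (bv D ℚ r) : End ℚ _) ^ k) v) w =
      β D ℚ v (((-t • B D ℚ (bv D ℚ r) : End ℚ _) ^ k) w) := fun k => by
    induction k with
    | zero => exact fun _ _ => rfl
    | succ k ih =>
      intro v w
      rw [pow_succ', Module.End.mul_apply, pow_succ, Module.End.mul_apply, ← ih, LinearMap.smul_apply,
        LinearMap.smul_apply, map_smul, map_smul, LinearMap.smul_apply,
        eq_neg_of_add_eq_zero_left (skew hl r _ w), β_symm hl, smul_neg, neg_smul]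
  have h2 : ∀ t : ℚ, (t • B D ℚ (bv D ℚ r) : End ℚ _) ^ 4 = 0 := fun t => by
    rw [smul_pow, ad_pow_four r.2, smul_zero]
  have h3 : ∀ w, β D ℚ (X D ℚ r t *ᵥ v) w = β D ℚ v (X D ℚ r (-t) *ᵥ w) := fun w => by
    rw [← Matrix.toLinAlgEquiv'_apply, ← Matrix.toLinAlgEquiv'_apply, toLin_X r.2, toLin_X r.2,
      IsNilpotent.exp_eq_sum (h2 t), IsNilpotent.exp_eq_sum (h2 (-t))]
    simp only [LinearMap.sum_apply, LinearMap.smul_apply, map_sum, map_smul, h1]
  rw [h3, mulVec_mulVec, X_neg_mul, one_mulVec]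

theorem inv_X (r : Rt D) (t : R) (v w : D.Idx → R) :
    β D R (X D R r t *ᵥ v) (X D R r t *ᵥ w) = β D R v w := by
  have h1 : ∀ y z, β D _ (X D (MvPolynomial Unit ℤ) r (MvPolynomial.X ()) *ᵥ bv D _ y)
      (X D _ r (MvPolynomial.X ()) *ᵥ bv D _ z) = β D _ (bv D _ y) (bv D _ z) := fun y z => by
    refine poly_eq_of_rat fun x => ?_
    rw [β_map, β_map, comp_mulVec, comp_mulVec, bv_map, bv_map, X_map, inv_rat hl]
  have h2 : (β D R).compl₁₂ (Matrix.toLin' (X D R r t)) (Matrix.toLin' (X D R r t)) = β D R :=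
    lin_ext_bv D fun y _ => lin_ext_bv D fun z _ => by
      have := congrArg (MvPolynomial.eval₂Hom (Int.castRingHom R) fun _ : Unit => t) (h1 y z)
      rw [β_map, β_map, comp_mulVec, comp_mulVec, bv_map, bv_map, X_map] at this
      simpa using this
  simpa using LinearMap.congr_fun₂ h2 v w

theorem inv_group {k : Type} [Field k] {g : GL D.Idx k} (hg : g ∈ D.group k) (v w : D.Idx → k) :
    β D k (act g v) (act g w) = β D k v w := by
  induction hg using Subgroup.closure_induction generalizing v w with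
  | mem g h =>
    obtain ⟨r, t, e⟩ := h
    have := inv_X hl r t v w
    rwa [X, dif_pos r.2, ← xMat_eq_XM, ← e] at this
  | one => simp [act]
  | mul a b _ _ ha hb => simp only [act, Units.val_mul, ← mulVec_mulVec, ha, hb]
  | inv a _ ha => rw [← ha]; simp [act]

omit hl

theorem len_E8' : ∀ r : Rt chevE8, certE8.lenc r = 1 := by decide +kernel

/-- The inverse of the Cartan matrix. -/
def cinv : Fin chevE8.rank → Fin chevE8.rank → ℤ := fun i j =>
  ([[4, 5, 7, 10, 8, 6, 4, 2], [5, 8, 10, 15, 12, 9, 6, 3], [7, 10, 14, 20, 16, 12, 8, 4],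
    [10, 15, 20, 30, 24, 18, 12, 6], [8, 12, 16, 24, 20, 15, 10, 5], [6, 9, 12, 18, 15, 12, 8, 4],
    [4, 6, 8, 12, 10, 8, 6, 3], [2, 3, 4, 6, 5, 4, 3, 2]].getD i []).getD j 0

theorem cinv_spec : ∀ i k : Fin chevE8.rank,
    ∑ j : Fin chevE8.rank, chevE8.cartan i (chevE8.simple j) * cinv j k = if i = k then 1 else 0 := by
  decide +kernel

theorem sep {c : Fin D.rank → Fin D.rank → ℤ}
    (hc : ∀ i k : Fin D.rank, ∑ j : Fin D.rank, D.cartan i (D.simple j) * c j k = if i = k then 1 else 0)
    {v : D.Idx → R} (h : ∀ w, β D R v w = 0) : v = 0 := by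
  funext y
  rcases y with k | r
  · have h1 : ∑ j : Fin D.rank, β D R v (bv D R (D.nroots + j)) * (c j k : R) = v (.inl k) := by
      simp only [β_h, Finset.sum_mul]
      rw [Finset.sum_comm, Finset.sum_congr rfl (g := fun i => if i = k then v (.inl i) else 0)
        fun i _ => ?_]
      · simp
      · have := congrArg (fun z : ℤ => (z : R) * v (.inl i)) (hc i k)
        simp only [Int.cast_sum, Int.cast_mul, Finset.sum_mul, Int.cast_ite, Int.cast_one,
          Int.cast_zero, ite_mul, one_mul, zero_mul] at this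
        rw [← this]
        exact Finset.sum_congr rfl fun j _ => mul_right_comm _ _ _
    simpa [h] using h1.symm
  · have := β_root v (negR r)
    rwa [h, negR_negR, eq_comm] at this

attribute [local instance] H65.tabE8 H65.commE8

theorem jobForm : JobForm :=
  ⟨β chevE8 K3, fun _ h => sep cinv_spec h, fun g v w =>
    inv_group (fun r => (len_E8 r).trans (len_E8' r)) (H67.toAlg chevE8 (ZMod 3) g).2 v w⟩

end H62.E8Form
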