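import Cfsg.Agent.H14.FESpec

/-! # S1308, tower FE, slot F3a -/

set_option autoImplicit false

namespace H62.FE

open Cfsg Subgroup MulAction H14 H98 H1.Gold H31.S2 H14.GC H14.FE
open scoped commutatorElement

universe u

section

variable {G : Type u} [Group G] [Finite G] {A B B' : Subgroup G}

omit [Finite G] in
theorem inv_pow_of {P : Subgroup G} (hP : IsPGroup 2 P) {x : G} (hx : x ∈ P) (x1 : x ≠ 1) :
    ∃ m : ℕ, Inv (x ^ m) := by
  by_cases h2 : x * x = 1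
  · exact ⟨1, by rw [pow_one]; exact ⟨x1, h2⟩⟩
  · obtain ⟨k, hk⟩ := isPGroup_iff_forall.1 hP x hx
    obtain ⟨m, hm⟩ := exists_pow_sq_of_two hk h2
    exact ⟨m + m, by rw [pow_add]; exact hm⟩

omit [Finite G] in
theorem eq_one_of_NI {P Z : Subgroup G} (hP : IsPGroup 2 P) (hZ : NI Z) {x : G} (hx : x ∈ P)
    (hz : x ∈ Z) : x = 1 := by
  by_contra x1
  obtain ⟨m, hm⟩ := inv_pow_of hP hx x1
  exact hZ _ (Z.pow_mem hz m) hm

omit [Finite G] in
theorem vx_cj (h : Vx A B) (g : G) : Vx A (cj g B) := by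
  obtain ⟨k, rfl⟩ := h
  exact ⟨g * k, cj_cj g k A⟩

omit [Finite G] in
theorem cen_le (h : MN A) (hB : Vx A B) {d g : G} (hd : d ∈ B) (i : Inv d) (e : g * d = d * g) :
    g ∈ nor B := by
  rw [← cj_eq_self_iff]
  by_contra hn
  refine h.ti _ _ (vx_cj hB g) hB hn d ⟨?_, hd⟩ i
  have := conj_mem_cj (g := g) hd
  rwa [e, mul_inv_cancel_right] at this

theorem syl2 {E Y : Subgroup G} (hE : IsPGroup 2 E) (hn : E ≤ nor Y) (h1 : B ≤ Y) (h2 : Y ≤ nor B) :
    ∃ P : Subgroup G, IsPGroup 2 P ∧ E ≤ P ∧ IsSyl 2 (P ⊓ B) B := by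
  obtain ⟨P, hP, hEP⟩ := exists_isSyl_le hE (le_sup_right : E ≤ Y ⊔ E)
  have a := hP.inf_of_le_normalizer (N := Y) le_sup_left
    (hP.le.trans (sup_le le_normalizer hn))
  have b := a.inf_of_le_normalizer h1 (inf_le_right.trans h2)
  rw [inf_assoc, inf_eq_right.2 h1] at b
  exact ⟨P, hP.isPGroup, hEP, b⟩

theorem four_syl {R : Subgroup G} (hR : IsSyl 2 R B) (h4 : Four B) : Four R := by
  obtain ⟨s, hs, t, ht, i, j, hne, hc⟩ := h4
  have hcomm : Commute s t := hc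
  have hp : IsPGroup 2 (zpowers s ⊔ zpowers t : Subgroup G) := by
    refine IsPGroup.to_sup_of_normal_right' i.isPGroup j.isPGroup ?_
    rw [zpowers_le]
    refine le_normalizer_of_le_centralizer (H := zpowers s) ?_ (mem_zpowers s)
    rw [zpowers_le, mem_centralizer_iff]
    rintro _ ⟨n, rfl⟩
    exact (hcomm.symm.zpow_left n).eq
  obtain ⟨g, -, hg⟩ := hR.exists_cj_le hp (sup_le (zpowers_le.2 hs) (zpowers_le.2 ht))
  have : Four (zpowers s ⊔ zpowers t : Subgroup G) :=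
    ⟨s, mem_sup_left (mem_zpowers s), t, mem_sup_right (mem_zpowers t), i, j, hne, hc⟩
  exact (this.cj g).mono hg

theorem sym (h : MN A) (hB : Vx A B) (hB' : Vx A B') {r : G} (hr : r ∈ B) (i : Inv r)
    (hn : r ∈ nor B') : B' ≤ nor B := by
  obtain ⟨P, hP, hE, hS⟩ := syl2 (B := B') i.isPGroup (zpowers_le.2 hn) le_rfl le_normalizer
  obtain ⟨s, hs, -, -, j, -⟩ := four_syl hS (h.four _ hB')
  have hne : P ⊓ B' ≠ ⊥ := fun e => j.1 (mem_bot.1 (e ▸ hs))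
  have := inf_centralizer_ne_bot hS.isPGroup i.isPGroup
    (le_normalizer_inf (le_normalizer_of_le hE) (zpowers_le.2 hn)) hne
  obtain ⟨x, hx, x1⟩ := (bot_or_exists_ne_one _).resolve_left this
  obtain ⟨m, hm⟩ := inv_pow_of hP hx.1.1 x1
  have hx' := Subgroup.pow_mem _ hx m
  exact h.mn _ _ hB' hB _ hx'.1.2 hm
    (cen_le h hB hr i (mem_centralizer_iff.1 hx'.2 r (mem_zpowers r)).symm)

omit [Finite G] in
theorem comm_mem {x y : G} (hx : x ∈ B) (hy : y ∈ nor B) : ⁅x, y⁆ ∈ B := by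
  have := B.mul_mem hx (conj_mem_of_mem_normalizer hy (B.inv_mem hx))
  rwa [commutatorElement_def, mul_assoc, mul_assoc, ← mul_assoc y]

omit [Finite G] in
theorem comm_mem' {x y : G} (hx : x ∈ nor B) (hy : y ∈ B) : ⁅x, y⁆ ∈ B := by
  rw [← commutatorElement_inv]; exact B.inv_mem (comm_mem hy hx)

omit [Finite G] in
theorem f1 (h : MN A) (hB : Vx A B) (hB' : Vx A B') (hne : B ≠ B') (h1 : B ≤ nor B')
    (h2 : B' ≤ nor B) {P : Subgroup G} (hP : IsPGroup 2 P) {x y : G} (hx : x ∈ B) (hy : y ∈ B')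
    (px : x ∈ P) (py : y ∈ P) : x * y = y * x :=
  commutatorElement_eq_one_iff_mul_comm.1 (eq_one_of_NI hP (h.ti _ _ hB hB' hne)
    (comm_mem px (le_normalizer py)) ⟨comm_mem hx (h2 hy), comm_mem' (h1 hx) hy⟩)

theorem inf_le_opp (h : MN A) (hB : Vx A B) (hB' : Vx A B') (hne : B ≠ B') (h1 : B ≤ nor B') :
    B ⊓ B' ≤ opp 2 B := by
  refine le_opp inf_le_left (le_normalizer_inf le_normalizer h1) ?_
  refine (Nat.coprime_comm.1 ((Nat.Prime.coprime_iff_not_dvd Nat.prime_two).2 fun hd => ?_))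
  obtain ⟨x, hx⟩ := exists_prime_orderOf_dvd_card' 2 hd
  exact h.ti _ _ hB hB' hne x x.2 (inv_iff.2 (by rw [← hx, orderOf_coe]))

/-- the elements that centralise `B` modulo `O(B)` -/
def Zm (B : Subgroup G) : Subgroup G where
  carrier := {g | g ∈ nor B ∧ ∀ x ∈ B, ⁅x, g⁆ ∈ opp 2 B}
  one_mem' := ⟨one_mem _, fun x _ => by rw [commutatorElement_one_right]; exact one_mem _⟩
  mul_mem' := fun {a b} ha hb => ⟨mul_mem ha.1 hb.1, fun x hx => by
    have e : ⁅x, a * b⁆ = ⁅x, a⁆ * (a * ⁅x, b⁆ * a⁻¹) := by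
      simp only [commutatorElement_def]; group
    rw [e]
    exact mul_mem (ha.2 x hx)
      (conj_mem_of_mem_normalizer (normalizer_le_normalizer_opp B ha.1) (hb.2 x hx))⟩
  inv_mem' := fun {a} ha => ⟨inv_mem ha.1, fun x hx => by
    have e : ⁅x, a⁻¹⁆ = a⁻¹ * ⁅x, a⁆⁻¹ * a⁻¹⁻¹ := by
      simp only [commutatorElement_def]; group
    rw [e]
    exact conj_mem_of_mem_normalizer (inv_mem (normalizer_le_normalizer_opp B ha.1))
      (inv_mem (ha.2 x hx))⟩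

theorem le_Zm (h : MN A) (hB : Vx A B) (hB' : Vx A B') (hne : B ≠ B') (h1 : B ≤ nor B')
    (h2 : B' ≤ nor B) : B' ≤ Zm B := fun _ hg =>
  ⟨h2 hg, fun _ hx => inf_le_opp h hB hB' hne h1 ⟨comm_mem hx (h2 hg), comm_mem' (h1 hx) hg⟩⟩

end

theorem jobF3a : JobF3a.{u} := by
  intro G _ _ A h B B' hB hB' e he ie hen hle
  have hB2 := vx_cj hB e
  have ee : cj e (cj e B) = B := by rw [cj_cj, ie.2, cj_one]
  have hle2 : cj e B ≤ nor B := by
    have := cj_mono e hle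
    rwa [cj_normalizer, ee] at this
  have hne : B ≠ cj e B := fun q => hen (cj_eq_self_iff.1 q.symm)
  obtain ⟨P0, hP0, hE0, hS0⟩ := syl2 (B := B) (Y := B ⊔ cj e B) ie.isPGroup
    (zpowers_le.2 (cj_eq_self_iff.1 (by rw [cj_sup, ee, sup_comm]))) le_sup_left
    (sup_le le_normalizer hle2)
  have eP : e ∈ P0 := hE0 (mem_zpowers e)
  -- the involutions of `P0 ⊓ B`
  have key : ∀ r ∈ P0 ⊓ B, Inv r → r ∉ nor B' ∧ B' ≤ nor (cj r B') ∧ cj r B' ≤ nor B' ∧
      B' ≠ cj r B' := by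
    intro r hr ir
    have n1 : r ∉ nor B' := fun q => hen (sym h hB hB' hr.2 ir q he)
    have c1 := f1 h hB hB2 hne hle hle2 hP0 hr.2 (conj_mem_cj (g := e) hr.2) hr.1
      (P0.mul_mem (P0.mul_mem eP hr.1) (P0.inv_mem eP))
    rw [ie.inv_eq] at c1
    have c2 : e * (r * e * r⁻¹) = r * e * r⁻¹ * e := by
      rw [ir.inv_eq]
      calc e * (r * e * r) = e * r * e * r := by group
        _ = r * (e * r * e) := c1.symm
        _ = r * e * r * e := by group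
    have a1 : B' ≤ nor (cj r B') := h.mn _ _ hB' (vx_cj hB' r) e he ie
      (cen_le h (vx_cj hB' r) (conj_mem_cj he) (ie.conj r) c2)
    refine ⟨n1, a1, ?_, fun q => n1 (cj_eq_self_iff.1 q.symm)⟩
    have := cj_mono r a1
    rwa [cj_normalizer, cj_cj, ir.2, cj_one] at this
  obtain ⟨r, hr, s, hs, ir, is, hrs, hc⟩ := four_syl hS0 (h.four _ hB)
  have irs : Inv (r * s) := ir.mul is hrs hc
  have hrs' : r * s ∈ P0 ⊓ B := mul_mem hr hs
  obtain ⟨-, r1, r2, r3⟩ := key r hr ir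
  obtain ⟨-, s1, s2, s3⟩ := key s hs is
  obtain ⟨-, t1, t2, t3⟩ := key _ hrs' irs
  have rr : cj r (cj r B') = B' := by rw [cj_cj, ir.2, cj_one]
  have ss : cj s (cj s B') = B' := by rw [cj_cj, is.2, cj_one]
  have rs : cj r (cj s B') = cj (r * s) B' := cj_cj _ _ _
  have sr : cj s (cj r B') = cj (r * s) B' := by rw [cj_cj, hc]
  have rt : cj r (cj (r * s) B') = cj s B' := by rw [cj_cj, ← mul_assoc, ir.2, one_mul]
  have st : cj s (cj (r * s) B') = cj r B' := by rw [cj_cj, hc, ← mul_assoc, is.2, one_mul]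
  let Y : Subgroup G := (B' ⊔ cj r B') ⊔ (cj s B' ⊔ cj (r * s) B')
  have rY : r ∈ nor Y := cj_eq_self_iff.1 (by
    simp only [Y, cj_sup, rr, rs, rt]; rw [sup_comm (cj r B'), sup_comm (cj (r * s) B')])
  have sY : s ∈ nor Y := cj_eq_self_iff.1 (by
    simp only [Y, cj_sup, ss, sr, st]; rw [sup_comm])
  have YB : Y ≤ nor B' := sup_le (sup_le le_normalizer r2) (sup_le s2 t2)
  have BY : B' ≤ Y := le_sup_left.trans le_sup_left
  have hV : IsPGroup 2 (closure ({r, s} : Set G)) := hP0.to_le ((closure_le _).2 (by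
    rintro x (rfl | rfl)
    · exact hr.1
    · exact hs.1))
  obtain ⟨P, hP, hVP, hS⟩ := syl2 (B := B') (Y := Y) hV ((closure_le _).2 (by
    rintro x (rfl | rfl)
    · exact rY
    · exact sY)) BY YB
  have rP : r ∈ P := hVP (subset_closure (Or.inl rfl))
  have sP : s ∈ P := hVP (subset_closure (Or.inr rfl))
  have cP : ∀ v ∈ P, ∀ a ∈ P, v * a * v⁻¹ ∈ P := fun v hv a ha =>
    P.mul_mem (P.mul_mem hv ha) (P.inv_mem hv)
  have NIY : NI (B ⊓ Y) := fun d hd id => (key r hr ir).1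
    (h.mn _ _ hB hB' d hd.1 id (YB hd.2) hr.2)
  -- `a * a^v` is centralised by `w`
  have main : ∀ v ∈ P ⊓ B, ∀ w ∈ P ⊓ B, Inv v → v ∈ nor Y → w ∈ nor Y → B' ≤ nor (cj v B') →
      cj v B' ≤ nor B' → B' ≠ cj v B' → ∀ a ∈ P ⊓ B',
      a * (v * a * v⁻¹) = v * a * v⁻¹ * a ∧
        w * (a * (v * a * v⁻¹)) * w⁻¹ = a * (v * a * v⁻¹) := by
    intro v hv w hw iv vY wY v1 v2 v3 a ha
    have c1 := f1 h hB' (vx_cj hB' v) v3 v1 v2 hP ha.2 (conj_mem_cj (g := v) ha.2) ha.1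
      (cP v hv.1 a ha.1)
    refine ⟨c1, ?_⟩
    have c2 : a * (v * a * v⁻¹) * v = v * (a * (v * a * v⁻¹)) := by
      rw [c1, iv.inv_eq] 
      have c3 := c1
      rw [iv.inv_eq] at c3
      calc v * a * v * a * v = v * (a * (v * a * v)) := by group
        _ = v * (v * a * v * a) := by rw [c3]
    have n1 := cen_le h hB hv.2 iv c2
    have aY : a * (v * a * v⁻¹) ∈ Y := Y.mul_mem (BY ha.2) (conj_mem_of_mem_normalizer vY (BY ha.2))
    have aP : a * (v * a * v⁻¹) ∈ P := P.mul_mem ha.1 (cP v hv.1 a ha.1)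
    have := commutatorElement_eq_one_iff_mul_comm.1 (eq_one_of_NI hP NIY
      (comm_mem aP (le_normalizer hw.1)) ⟨comm_mem' n1 hw.2, comm_mem aY wY⟩)
    rw [← this, mul_inv_cancel_right]
  obtain ⟨a, ha, hbad⟩ := h.ne _ hB' _ hS
  obtain ⟨c1, e1⟩ := main r ⟨rP, hr.2⟩ s ⟨sP, hs.2⟩ ir rY sY r1 r2 r3 a ha
  obtain ⟨c2, e2⟩ := main s ⟨sP, hs.2⟩ r ⟨rP, hr.2⟩ is sY rY s1 s2 s3 a ha
  obtain ⟨b, hb⟩ : ∃ b, b = r * a * r⁻¹ := ⟨_, rfl⟩
  obtain ⟨c, hc'⟩ : ∃ c, c = s * a * s⁻¹ := ⟨_, rfl⟩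
  obtain ⟨d, hd⟩ : ∃ d, d = (r * s) * a * (r * s)⁻¹ := ⟨_, rfl⟩
  have e1' : c * d = a * b := by
    rw [hb, hc', hd, ← e1, hc]; group
  have e2' : b * d = a * c := by
    rw [hb, hc', hd, ← e2]; group
  rw [← hb] at c1
  rw [← hc'] at c2
  have bB : b ∈ cj r B' := hb ▸ conj_mem_cj ha.2
  have cB : c ∈ cj s B' := hc' ▸ conj_mem_cj ha.2
  have dB : d ∈ cj (r * s) B' := hd ▸ conj_mem_cj ha.2
  have bP : b ∈ P := hb ▸ cP r rP a ha.1
  have cP' : c ∈ P := hc' ▸ cP s sP a ha.1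
  have nrs : cj r B' ≠ cj s B' := fun q => t3 (by rw [← rs, ← q, rr])
  have a1 : cj r B' ≤ nor (cj s B') := by
    have := cj_mono r t1
    rwa [cj_normalizer, rt] at this
  have a2 : cj s B' ≤ nor (cj r B') := by
    have := cj_mono s t1
    rwa [cj_normalizer, st] at this
  have c3 := f1 h (vx_cj hB' r) (vx_cj hB' s) nrs a1 a2 hP bB cB bP cP'
  have sq : b * b = c * c := by
    have q1 : d = c⁻¹ * (a * b) := by rw [← e1']; group
    have q2 : b * (c⁻¹ * (a * b)) = a * c := by rw [← q1, e2']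
    have k1 : Commute a b := c1
    have k2 : Commute a c := c2
    have k3 : Commute b c := c3
    have q3 : b * (c⁻¹ * (a * b)) = a * (c⁻¹ * (b * b)) := by
      calc b * (c⁻¹ * (a * b)) = (b * c⁻¹) * a * b := by group
        _ = a * (b * c⁻¹) * b := by rw [← (k1.mul_right k2.inv_right).eq]
        _ = a * (c⁻¹ * b) * b := by rw [k3.inv_right.eq]
        _ = a * (c⁻¹ * (b * b)) := by group
    rw [q3] at q2
    have q4 := mul_left_cancel q2
    rw [← inv_mul_eq_iff_eq_mul]; exact q4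
  have b1 : b * b = 1 := eq_one_of_NI hP (h.ti _ _ (vx_cj hB' r) (vx_cj hB' s) nrs)
    (P.mul_mem bP bP) ⟨mul_mem bB bB, sq ▸ mul_mem cB cB⟩
  rcases hbad with q | ⟨x, hx, q⟩
  · apply q
    calc a * a = r⁻¹ * (b * b) * r := by rw [hb]; group
      _ = 1 := by rw [b1]; group
  · have : a ∈ Zm B' := by
      have q1 : a = c * d * b⁻¹ := by rw [e1']; group
      rw [q1]
      exact mul_mem (mul_mem (le_Zm h hB' (vx_cj hB' s) s3 s1 s2 cB)
        (le_Zm h hB' (vx_cj hB' _) t3 t1 t2 dB)) (inv_mem (le_Zm h hB' (vx_cj hB' r) r3 r1 r2 bB))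
    exact q (this.2 x hx)

end H62.FE
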