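import Cfsg.Agent.H70.RI3

/-! Root involutions: tools for the root structure theorem. -/

set_option autoImplicit false
set_option linter.unusedVariables false

open Cfsg H70

namespace H62.RS

variable {G : Type*} [Group G] {D : Set G} {a a' b c d e f g k m m' u v w x y : G}

/-- the commutator of two involutions -/
scoped notation "⟪" a ", " b "⟫" => a * b * a * b

theorem cj_mul (hg : g * g = 1) (u v : G) : g * (u * v) * g = g * u * g * (g * v * g) := by
  simp only [mul_assoc, sqc hg]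

theorem cj_cj (hg : g * g = 1) (u : G) : g * (g * u * g) * g = u := by
  simp only [mul_assoc, sqc hg, hg, mul_one]

theorem cj_cm (hb : b * b = 1) : a * b * a = ⟪a, b⟫ * b := by simp only [mul_assoc, hb, mul_one]

theorem comm_cm (h1 : Commute g a) (h2 : Commute g b) : Commute g ⟪a, b⟫ :=
  ((h1.mul_right h2).mul_right h1).mul_right h2

theorem cm_eq_one (ha : a * a = 1) (hb : b * b = 1) (h : Commute a b) : ⟪a, b⟫ = 1 := by
  simpa only [mul_assoc] using sq_mul_of_commute ha hb h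

theorem cm_conj (g a b : G) : ⟪g * a * g⁻¹, g * b * g⁻¹⟫ = g * ⟪a, b⟫ * g⁻¹ := by group

theorem cm_conj' (hg : g * g = 1) (a b : G) : ⟪g * a * g, g * b * g⟫ = g * ⟪a, b⟫ * g := by
  simp only [mul_assoc, sqc hg]

/-- same centraliser in `D` -/
structure Sim (D : Set G) (a b : G) : Prop where
  l : a ∈ D
  r : b ∈ D
  iff : ∀ y ∈ D, Commute a y ↔ Commute b y

theorem Sim.refl (ha : a ∈ D) : Sim D a a := ⟨ha, ha, fun _ _ => Iff.rfl⟩
theorem Sim.symm (h : Sim D a b) : Sim D b a := ⟨h.r, h.l, fun y hy => (h.iff y hy).symm⟩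
theorem Sim.trans (h : Sim D a b) (h' : Sim D b c) : Sim D a c :=
  ⟨h.l, h'.r, fun y hy => (h.iff y hy).trans (h'.iff y hy)⟩
theorem Sim.comm (h : Sim D a b) : Commute a b := (h.iff b h.r).2 (Commute.refl b)
theorem Sim.cm (h : Sim D a b) (hy : y ∈ D) (c : Commute a y) : Commute b y := (h.iff y hy).1 c

/-- commuting members with product in `D` -/
structure Col (D : Set G) (a b : G) : Prop where
  l : a ∈ D
  r : b ∈ D
  comm : Commute a b
  mul : a * b ∈ D

theorem Col.symm (h : Col D a b) : Col D b a := ⟨h.r, h.l, h.comm.symm, h.comm.eq ▸ h.mul⟩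

/-- `w ∈ W_d` -/
structure Wd (D : Set G) (d w : G) : Prop where
  r : w ∈ D
  comm : Commute d w
  no : ∀ y ∈ D, Commute d y → ¬ IOpp w y

/-- `v ∈ X_e` for some `e ∈ E_d` -/
def Xt (D : Set G) (d v : G) : Prop := ∃ e, Sim D d e ∧ Col D e v

/-- `b ∈ W_d - E_d` and `[b, X_e] ⊆ E(d)` for all `e ∈ E_d` -/
structure Lam (D : Set G) (d b : G) : Prop where
  l : d ∈ D
  w : Wd D d b
  ns : ¬ Sim D d b
  cm : ∀ v, Xt D d v → Four b v → Sim D d ⟪b, v⟫

theorem Col.xt (h : Col D d v) : Xt D d v := ⟨d, .refl h.l, h⟩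
theorem Xt.r (h : Xt D d v) : v ∈ D := h.elim fun _ h => h.2.r
theorem Xt.comm (h : Xt D d v) : Commute d v := h.elim fun _ h => h.1.symm.cm h.2.r h.2.comm
theorem Wd.sim (h : Wd D d w) (s : Sim D d e) : Wd D e w :=
  ⟨h.r, s.cm h.r h.comm, fun y hy c => h.no y hy (s.symm.cm hy c)⟩
theorem Lam.sim (h : Lam D d b) (s : Sim D d e) : Lam D e b :=
  ⟨s.r, h.w.sim s, fun s' => h.ns (s.trans s'),
    fun v ⟨e', s', c⟩ h4 => s.symm.trans (h.cm v ⟨e', s.trans s', c⟩ h4)⟩

section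

variable (hD : IsRootInvolutionSet D)
include hD

theorem Sim.conj (h : Sim D a b) (g : G) : Sim D (g * a * g⁻¹) (g * b * g⁻¹) := by
  have k : ∀ u y : G, Commute (g * u * g⁻¹) y ↔ Commute u (g⁻¹ * y * g) := fun u y =>
    ⟨fun o => by simpa [mul_assoc] using o.conj g⁻¹, fun o => by simpa [mul_assoc] using o.conj g⟩
  exact ⟨ri_conj hD h.l g, ri_conj hD h.r g, fun y hy => by
    rw [k, k, h.iff _ (by simpa using ri_conj hD hy g⁻¹)]⟩

theorem Sim.conj' (h : Sim D a b) (hg : g * g = 1) : Sim D (g * a * g) (g * b * g) := by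
  simpa only [inv_of_sq hg] using h.conj hD g

theorem Sim.opp (h : Sim D a b) (hx : x ∈ D) (o : IOpp a x) : IOpp b x :=
  opp_of_comm_subset hD h.l h.r (fun y hy => (h.iff y hy).2) hx o

theorem Sim.four (h : Sim D a b) (hx : x ∈ D) (o : Four x a) : Four x b :=
  ri_four_of hD hx h.r
    (fun c => o.not_commute (ri_sq hD hx) (ri_sq hD h.l) (h.symm.cm hx c.symm).symm)
    fun o' => (h.symm.opp hD hx o'.symm).symm.not_four o

theorem Col.conj' (h : Col D a b) (hg : g * g = 1) : Col D (g * a * g) (g * b * g) :=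
  ⟨ri_conj' hD h.l hg, ri_conj' hD h.r hg, commute_conj' h.comm hg,
    cj_mul hg a b ▸ ri_conj' hD h.mul hg⟩

theorem Col.no (h : Col D a b) (hx : x ∈ D) (c : Commute x a) : ¬ IOpp x b := fun o =>
  ri_not_commute_of_opp hD h.l h.r h.mul h.comm hx o c

theorem Col.wd (h : Col D d v) : Wd D d v :=
  ⟨h.r, h.comm, fun y hy c o => h.no hD hy c.symm o.symm⟩

theorem Sim.wd (h : Sim D d e) : Wd D d e := ⟨h.r, h.comm, fun y hy c o =>
  o.not_commute (ri_sq hD h.r) (ri_sq hD hy) (h.cm hy c)⟩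

theorem Xt.wd (h : Xt D d v) : Wd D d v := h.elim fun _ h => (h.2.wd hD).sim h.1.symm

theorem col_l (ha : a ∈ D) (hb : b ∈ D) (h : Four a b) : Col D a ⟪a, b⟫ :=
  ⟨ha, ri_four_mem hD ha hb h, h.comm_left (ri_sq hD ha) (ri_sq hD hb), ri_four_mul hD ha hb⟩

theorem col_r (ha : a ∈ D) (hb : b ∈ D) (h : Four a b) : Col D b ⟪a, b⟫ :=
  h.swap (ri_sq hD ha) (ri_sq hD hb) ▸ col_l hD hb ha h.symm

theorem Wd.conj' (h : Wd D d w) (hg : g * g = 1) : Wd D (g * d * g) (g * w * g) :=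
  ⟨ri_conj' hD h.r hg, commute_conj' h.comm hg, fun y hy c o =>
    h.no _ (ri_conj' hD hy hg) (cj_cj hg d ▸ commute_conj' c hg) (cj_cj hg w ▸ o.conj' hg)⟩

theorem Lam.conj' (h : Lam D d b) (hg : g * g = 1) : Lam D (g * d * g) (g * b * g) := by
  refine ⟨ri_conj' hD h.l hg, h.w.conj' hD hg, fun s => h.ns ?_, fun v ⟨e, s, c⟩ h4 => ?_⟩
  · simpa only [cj_cj hg] using s.conj' hD hg
  · have := (h.cm (g * v * g) ⟨_, cj_cj hg d ▸ s.conj' hD hg, c.conj' hD hg⟩
      (cj_cj hg b ▸ h4.conj' hg)).conj' hD hg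
    rwa [← cm_conj' hg, cj_cj hg] at this

theorem Wd.mul (h : Wd D d a) (h' : Wd D d b) (c : Col D a b) : Wd D d (a * b) :=
  ⟨c.mul, h.comm.mul_right h'.comm, fun y hy cy o => by
    have := ri_L1 hD c.l c.mul (by rw [sqc (ri_sq hD c.l)]; exact c.r)
      ((Commute.refl a).mul_right c.comm) hy o.symm
    rw [sqc (ri_sq hD c.l)] at this
    exact this.elim (fun o => h.no y hy cy o.symm) fun o => h'.no y hy cy o.symm⟩

theorem Wd.cj (h : Wd D d w) (hy : y ∈ D) (c : Commute d y) : Wd D d (y * w * y) := by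
  have := h.conj' hD (ri_sq hD hy)
  rwa [conj_eq_of_commute' c.symm (ri_sq hD hy)] at this

theorem Wd.cm (h : Wd D d w) (hy : y ∈ D) (c : Commute d y) (h4 : Four w y) : Wd D d ⟪w, y⟫ := by
  have sw := ri_sq hD h.r
  have c1 := col_l hD h.r hy h4
  have := h.mul hD (h.cj hD hy c) ⟨h.r, ri_conj' hD h.r (ri_sq hD hy), by
    rw [four_conj_eq sw]; exact (Commute.refl w).mul_right c1.comm, by
    rw [four_conj_eq sw, sqc sw]; exact c1.r⟩
  rwa [four_conj_eq sw, sqc sw] at this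

theorem comm_cm_r (ha : a ∈ D) (hb : b ∈ D) (h : ¬ IOpp a b) : Commute b ⟪a, b⟫ := by
  rcases ri_tri hD ha hb with h' | h' | h'
  · exact comm_cm h'.symm (Commute.refl b)
  · exact absurd h' h
  · exact (col_r hD ha hb h').comm

/-- the case of a product of order three -/
theorem t1 (h : Cfg D a b x) (h3 : orderOf (a * x) = 3) :
    ⟪a, ⟪x, b⟫⟫ = b ∧ a * x * a * b * (a * x * a) = ⟪x, b⟫ := by
  have sa := ri_sq hD h.ha; have sb := ri_sq hD h.hb; have sx := ri_sq hD h.hx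
  have h1 := h.step hD
  have h2 := h1.step hD
  have e0 : a * x * a = x * a * x := by
    have := pow_orderOf_eq_one (a * x)
    rw [h3] at this
    have e := congrArg (fun u => u * (x * a * x)) this
    simpa only [pow_succ, pow_zero, one_mul, mul_assoc, sqc sx, sqc sa, sx, mul_one] using e
  have x0 : x * b * x = ⟪x, b⟫ * b := cj_cm sb
  have c0 : Commute b ⟪x, b⟫ := (col_r hD h.hx h.hb h.four).comm
  generalize ⟪x, b⟫ = b1 at h1 h2 x0 c0 ⊢
  have s1 := ri_sq hD h1.hb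
  have a1 : a * b1 * a = ⟪a, b1⟫ * b1 := cj_cm s1
  have c1 : Commute b1 ⟪a, b1⟫ := (col_r hD h.ha h1.hb h1.four).comm
  have c2 : Commute b ⟪a, b1⟫ := comm_cm h.comm.symm c0
  have a2 : b1 * a * b1 = a * ⟪a, b1⟫ := four_conj_eq sa
  generalize ⟪a, b1⟫ = b2 at h2 a1 c1 c2 a2 ⊢
  have s2 := ri_sq hD h2.hb
  have x2 : x * b2 * x = ⟪x, b2⟫ * b2 := cj_cm s2
  generalize ⟪x, b2⟫ = b3 at x2
  have a0 : a * b * a = b := conj_eq_of_commute' h.comm sa
  have x1 : x * b1 * x = b1 := conj_eq_of_commute' h1.comm sx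
  have e1 : a * x * a * b * (a * x * a) = b2 * b1 * b := by
    rw [show a * x * a * b * (a * x * a) = a * (x * (a * b * a) * x) * a by simp only [mul_assoc],
      a0, x0, cj_mul sa, a1, a0]
  have e2 : x * a * x * b * (x * a * x) = b3 * b2 * b := by
    rw [show x * a * x * b * (x * a * x) = x * (a * (x * b * x) * a) * x by simp only [mul_assoc],
      x0, cj_mul sa, a1, a0, cj_mul sx, cj_mul sx, x2, x1, x0]
    simp only [mul_assoc, sqc s1]
  have e3 : b3 = b1 := by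
    rw [← e0, e1, mul_left_inj, ← c1.eq, mul_left_inj] at e2
    exact e2.symm
  have o := h.opp.symm.conj' s1
  rw [a2, conj_eq_of_commute' h1.comm.symm s1] at o
  have e4 : b * b2 = 1 := ri_even hD h2.hab h.hx o (sq_mul_of_commute sb s2 c2)
    ((h.comm.symm.mul_left h2.comm.symm).mul_right (c2.mul_left (Commute.refl b2)))
    (commute_of_conj' sx (by
      rw [cj_mul sx, x0, x2, e3]
      simp only [mul_assoc, c0.left_comm, sqc s1])).symm (by
      rw [h2.comm.eq, mul_assoc, sqc s2, ← h.comm.eq]; exact h.hab)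
  obtain rfl : b2 = b := by rw [← inv_of_sq sb]; exact eq_inv_of_mul_eq_one_right e4
  exact ⟨rfl, by rw [e1, c0.eq, mul_assoc, sb, mul_one]⟩

theorem lemA (h : Col D d w) (hy : y ∈ D) (h4 : Four d y) (o : ¬ IOpp w y) :
    Commute y ⟪w, ⟪d, y⟫⟫ := by
  have sd := ri_sq hD h.l; have sw := ri_sq hD h.r; have sy := ri_sq hD hy
  have o' : ¬ IOpp (d * w) y := fun o' => by
    have := ri_L1 hD h.l h.mul (by rw [sqc sd]; exact h.r) ((Commute.refl d).mul_right h.comm) hy
      o'.symm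
    rw [sqc sd] at this
    exact this.elim (fun o => o.symm.not_four h4) fun o'' => o o''.symm
  have e : w * ⟪d, y⟫ * w = ⟪d * w, y⟫ * (⟪w, y⟫)⁻¹ := by
    simp only [mul_inv_rev, inv_of_sq sw, inv_of_sq sy, mul_assoc, sqc sy, sqc sw, h.comm.left_comm]
  rw [e]
  exact ((comm_cm_r hD h.mul hy o').mul_right (comm_cm_r hD h.r hy o).inv_right).mul_right
    (col_r hD h.l hy h4).comm

theorem inj (hc : c ∈ D) (h : Col D x m) (h' : Col D x m') (o : IOpp (x * m) c) (c1 : Commute m m')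
    (h4 : Four c m) (e : ⟪c, m⟫ = ⟪c, m'⟫) : m = m' := by
  have sc := ri_sq hD hc; have sm := ri_sq hD h.r; have sm' := ri_sq hD h'.r
  have := ri_even hD h.mul hc o (sq_mul_of_commute sm sm' c1)
    ((h.comm.symm.mul_left h'.comm.symm).mul_right ((Commute.refl m).mul_left c1.symm))
    (commute_of_conj' sc (by
      rw [cj_mul sc, cj_cm sm, cj_cm sm', ← e]
      simp only [mul_assoc (⟪c, m⟫), (col_r hD hc h.r h4).comm.left_comm,
        sqc (ri_sq hD (ri_four_mem hD hc h.r h4))])).symm (by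
      rw [c1.eq, h.comm.eq, mul_assoc, sqc sm, ← h'.comm.eq]; exact h'.mul)
  rw [← inv_of_sq sm']; exact eq_inv_of_mul_eq_one_left this

end

end H62.RS
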