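import Cfsg.Agent.H62.RS1

/-! Root involutions: `[W_d, X_d] ≤ E(d)`. -/

set_option autoImplicit false
set_option linter.unusedVariables false
set_option linter.unusedSectionVars false

open Cfsg H70

namespace H62.RS

variable {G : Type*} [Group G] {D : Set G} {a a' b c d e f g k m m' u v w x y : G}

/-- a class of root involutions in which every `E_d ∪ {1}` is a group -/
structure RSt (D : Set G) : Prop extends RIC D where
  hE : ∀ a b, Sim D a b → a ≠ b → Sim D a (a * b)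

/-- membership in `E(d)` -/
def EE (D : Set G) (d a : G) : Prop := a = 1 ∨ Sim D d a

theorem EE.comm (h : EE D d a) (hy : y ∈ D) (c : Commute d y) : Commute a y :=
  h.elim (fun e => e ▸ Commute.one_left y) fun s => s.cm hy c

theorem surj_of_inj [Finite G] {P : G → Prop} {T : G → G} (h1 : ∀ a, P a → P (T a))
    (h2 : ∀ a a', P a → P a' → T a = T a' → a = a') (hb : P b) : ∃ a, P a ∧ T a = b :=
  (((Set.toFinite {a | P a}).injOn_iff_bijOn_of_mapsTo h1).1
    fun a ha a' ha' => h2 a a' ha ha').surjOn hb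

theorem sim_of_comm [Finite G] (h : RIC D) (ha : a ∈ D) (hb : b ∈ D)
    (e : ∀ y ∈ D, Commute a y → Commute b y) : Sim D a b :=
  ⟨ha, hb, fun y hy => ⟨e y hy, h.comm_symm ha hb e y hy⟩⟩

theorem exists_y [Finite G] (h : RIC D) (hd : d ∈ D) (hw : Wd D d w) (ns : ¬ Sim D d w) :
    ∃ y ∈ D, IOpp w y ∧ Four y d := by
  by_contra hn
  have k : ∀ x ∈ D, IOpp w x → IOpp d x := fun x hx o => by
    by_contra o'
    exact hn ⟨x, hx, o, ri_four_of h.ri hx hd (fun c => hw.no x hx c.symm o) fun o => o' o.symm⟩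
  exact ns (sim_of_comm h hd hw.r fun y hy =>
    h.comm_of_opp_eq hd hw.r (fun x hx => ⟨h.opp_symm hw.r hd k x hx, k x hx⟩) hy)

theorem exists_m [Finite G] (h : RIC D) (c1 : Col D c d) (ns : ¬ Sim D c d) :
    ∃ m ∈ D, Four c m ∧ ⟪c, m⟫ = d :=
  h.exists_four c1.l c1.r c1.mul c1.comm fun e => ns (sim_of_comm h c1.l c1.r e)

theorem tl0 [Finite G] (h : RIC D) (hu : Wd D d u) (hv : v ∈ D) (h4 : Four u v) (ec : ⟪u, v⟫ = c)
    (hm : m ∈ D) (h5 : Four c m) (ed : ⟪c, m⟫ = d) (cv : Commute v m) : False := by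
  have hD := h.ri
  have cu : Col D u c := ec ▸ col_l hD hu.r hv h4
  have c1 : Col D v c := ec ▸ col_r hD hu.r hv h4
  have c2 : Col D c d := ed ▸ col_l hD cu.r hm h5
  obtain ⟨y, hy, f1, e1, o, o3⟩ := h.exists_s3 cu.r hm h5
  rw [ed] at f1 e1
  have c3 : Col D y m := e1 ▸ col_l hD hy c2.r f1
  have g1 : Cfg D c d y := ⟨c2.l, c2.r, hy, c2.mul, c2.comm, f1, o.symm⟩
  have g2 : Cfg D c v y := ⟨c1.r, hv, hy, c1.symm.mul, c1.symm.comm,
    ri_four_of hD hy hv (fun c => c1.no hD hy c o.symm) fun o' => c3.symm.no hD hv cv o'.symm, o.symm⟩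
  obtain ⟨-, s1⟩ := t1 hD g1 o3
  obtain ⟨t2, s2⟩ := t1 hD g2 o3
  have ss : c * y * c * (c * y * c) = 1 := ri_sq hD (ri_conj' hD hy (ri_sq hD cu.r))
  have c4 := commute_conj' cv ss
  rw [s2, ← e1, ← s1, cj_cj ss] at c4
  have g3 := g2.step hD
  have := lemA hD cu.symm g3.hb g3.four (hu.no _ g3.hb c4.symm)
  rw [t2, ec] at this
  exact g3.four.not_commute (ri_sq hD cu.r) (ri_sq hD g3.hb) this.symm

namespace RSt

variable (h : RSt D)
include h

theorem ee_mul (ha : EE D d a) (hb : EE D d b) : EE D d (a * b) := by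
  rcases ha with rfl | ha
  · rwa [one_mul]
  rcases hb with rfl | hb
  · rw [mul_one]; exact Or.inr ha
  by_cases e : a = b
  · exact Or.inl (e ▸ ri_sq h.ri ha.r)
  · exact Or.inr (ha.trans (h.hE a b (ha.symm.trans hb) e))

theorem finj (hx : x ∈ D) (h4 : Four x d) (s : Sim D d a) (s' : Sim D d a')
    (e : ⟪x, a⟫ = ⟪x, a'⟫) : a = a' := by
  by_contra hn
  have hD := h.ri
  have sx := ri_sq hD hx
  have s2 := s.trans (h.hE a a' (s.symm.trans s') hn)
  have c := col_r hD hx s.r (s.four hD hx h4)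
  refine (s2.four hD hx h4).not_commute sx (ri_sq hD s2.r) (commute_of_conj' sx ?_)
  rw [cj_mul sx, cj_cm (ri_sq hD s.r), cj_cm (ri_sq hD s'.r), ← e]
  simp only [mul_assoc (⟪x, a⟫), c.comm.left_comm, sqc (ri_sq hD c.r)]

theorem fmul (hx : x ∈ D) (h4 : Four x d) (s : EE D d a) (s' : EE D d a') :
    ⟪x, (a * a')⟫ = ⟪x, a⟫ * ⟪x, a'⟫ := by
  have hD := h.ri
  rcases s' with rfl | s'
  · simp only [mul_one, ri_sq hD hx]
  have c := col_r hD hx s'.r (s'.four hD hx h4)
  have c1 : Commute a (x * a' * x) := by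
    rw [cj_cm (ri_sq hD s'.r)]
    exact (s.comm c.r (s'.symm.cm c.r c.comm)).mul_right (s.comm s'.r s'.comm)
  calc _ = x * a * x * (x * a' * x * a) * a' := by simp only [mul_assoc, sqc (ri_sq hD hx)]
    _ = _ := by rw [← c1.eq]; simp only [mul_assoc]

section Core

variable (hc : Lam D d c) (hx : x ∈ D) (o : IOpp c x) (h4 : Four x d)
include hc hx o h4

theorem four_c (s : Sim D d a) : Four c ⟪x, a⟫ := by
  have hD := h.ri
  have c1 := col_l hD hx s.r (s.four hD hx h4)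
  have c2 := col_r hD hx s.r (s.four hD hx h4)
  exact ri_four_of hD hc.w.r c1.r (fun c => c1.symm.no hD hc.w.r c o)
    (hc.w.no _ c1.r (s.symm.cm c1.r c2.comm))

theorem sim_T (s : Sim D d a) : Sim D d ⟪c, ⟪x, a⟫⟫ :=
  hc.cm _ ⟨a, s, col_r h.ri hx s.r (s.four h.ri hx h4)⟩ (h.four_c hc hx o h4 s)

theorem surj_T [Finite G] (s : Sim D d b) : ∃ a, Sim D d a ∧ ⟪c, ⟪x, a⟫⟫ = b := by
  have hD := h.ri
  refine surj_of_inj (T := fun a => ⟪c, ⟪x, a⟫⟫) (fun a => h.sim_T hc hx o h4)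
    (fun a a' s s' e => h.finj hx h4 s s' ?_) s
  have c1 := col_l hD hx s.r (s.four hD hx h4)
  have c2 := col_r hD hx s.r (s.four hD hx h4)
  have o' := o.symm.conj' (ri_sq hD s.r)
  rw [four_conj_eq (ri_sq hD hx), conj_eq_of_commute' (s.cm hc.w.r hc.w.comm) (ri_sq hD s.r)] at o'
  exact inj hD hc.w.r c1 (col_l hD hx s'.r (s'.four hD hx h4)) o'
    (comm_cm c1.comm.symm ((s.symm.trans s').cm c2.r c2.comm).symm) (h.four_c hc hx o h4 s) e

theorem sim_mid (s : Sim D d a) : Sim D d (mid c x * ⟪x, a⟫ * mid c x) := by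
  have hD := h.ri
  have sx := ri_sq hD hx; have sc := ri_sq hD hc.w.r
  have sn := mid_sq sc sx
  have key := conj_mem_of_closure (T := {c, x})
    (U := {g | ∃ a a', EE D d a ∧ EE D d a' ∧ g = a * ⟪x, a'⟫})
    (by rintro t (rfl | rfl) <;> assumption) (by
      rintro t (rfl | rfl) _ ⟨a, a', s, s', rfl⟩
      · rw [cj_mul sc, conj_eq_of_commute' (s.comm hc.w.r hc.w.comm).symm sc]
        rcases s' with rfl | s'
        · exact ⟨a, 1, s, Or.inl rfl, by simp only [mul_one, sx, sc]⟩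
        · refine ⟨_, a', h.ee_mul s (Or.inr (h.sim_T hc hx o h4 s')), Or.inr s', ?_⟩
          rw [mul_assoc a, ← cj_cm (ri_sq hD (ri_four_mem hD hx s'.r (s'.four hD hx h4)))]
      · refine ⟨a, a * a', s, h.ee_mul s s', ?_⟩
        have c1 : Commute t ⟪t, a'⟫ := s'.elim (fun e => by simp [e, sx])
          fun s' => (col_l hD hx s'.r (s'.four hD hx h4)).comm
        rw [cj_mul sx, conj_eq_of_commute' c1 sx, h.fmul hx h4 s s', ← mul_assoc a]
        congr 1
        rcases s with rfl | s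
        · simp only [mul_one, sx]
        · rw [(col_r hD hx s.r (s.four hD hx h4)).comm.eq, ← cj_cm (ri_sq hD s.r)])
    (mid c x) (mid_mem (Subgroup.subset_closure (by simp)) (Subgroup.subset_closure (by simp)))
    ⟪x, a⟫ ⟨1, a, Or.inl rfl, Or.inr s, (one_mul _).symm⟩
  rw [inv_of_sq sn] at key
  obtain ⟨a1, a2, s1, s2, e⟩ := key
  have c1 := col_l hD hx s.r (s.four hD hx h4)
  have c2 := commute_conj' c1.comm sn
  rw [mid_swap_right sc sx o.2, e] at c2
  rcases s2 with rfl | s2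
  · simp only [mul_one, sx] at e
    exact s1.elim (fun e' => absurd (e.trans e') (ri_ne_one hD (ri_conj' hD c1.r sn))) fun s => e ▸ s
  · have c3 := (s1.comm hc.w.r hc.w.comm).symm.inv_right.mul_right c2
    rw [inv_mul_cancel_left] at c3
    exact absurd c3 ((h.four_c hc hx o h4 s2).not_commute sc
      (ri_sq hD (ri_four_mem hD hx s2.r (s2.four hD hx h4))))

theorem sim_f (s : Sim D d a) (s' : Sim D d a') : Sim D ⟪x, a⟫ ⟪x, a'⟫ := by
  have sn := mid_sq (ri_sq h.ri hc.w.r) (ri_sq h.ri hx)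
  simpa only [cj_cj sn] using
    ((h.sim_mid hc hx o h4 s).symm.trans (h.sim_mid hc hx o h4 s')).conj' h.ri sn

end Core

variable [Finite G]

theorem lam_col (hc : Lam D d c) : Col D c d := by
  obtain ⟨y, hy, o, h4⟩ := exists_y h.toRIC hc.l hc.w hc.ns
  obtain ⟨a, s, e⟩ := h.surj_T hc hy o h4 (.refl hc.l)
  exact e ▸ col_l h.ri hc.w.r (ri_four_mem h.ri hy s.r (s.four h.ri hy h4)) (h.four_c hc hy o h4 s)

theorem lam_symm (hc : Lam D d c) : Lam D c d := by
  have hD := h.ri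
  have c1 := (h.lam_col hc).symm
  have sd := ri_sq hD hc.l
  obtain ⟨f, hf, h4, e⟩ := exists_m h.toRIC (c := d) (d := d * c)
    ⟨c1.l, c1.mul, (Commute.refl d).mul_right c1.comm, by rw [sqc sd]; exact c1.r⟩ fun s => by
      have := h.ee_mul (Or.inr (.refl hc.l)) (Or.inr s)
      rw [sqc sd] at this
      exact this.elim (ri_ne_one hD c1.r) hc.ns
  have sf := ri_sq hD hf
  have e1 : f * d * f = c := by rw [four_conj_eq sd, e, sqc sd]
  have := hc.conj' hD sf
  rwa [e1, ← e1, cj_cj sf, e1] at this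

theorem lemG (hc : Lam D d c) (c1 : Col D c v) (c2 : Col D d v) (hm : m ∈ D) (h5 : Four c m)
    (ed : ⟪c, m⟫ = d) (h4 : Four v m) (hk : ⟪v, m⟫ ≠ d) :
    Sim D d ⟪v, m⟫ ∧ ∀ e, Sim D d e → v * e ∈ D := by
  have hD := h.ri
  have sv := ri_sq hD c1.r; have sc := ri_sq hD c1.l; have sd := ri_sq hD c2.l
  have sm := ri_sq hD hm
  have c3 : Col D m d := ed ▸ col_r hD c1.l hm h5
  have c4 := col_l hD c1.r hm h4
  have c5 : Commute c ⟪v, m⟫ := commute_of_conj' sc (by
    rw [← cm_conj' sc, conj_eq_of_commute' c1.comm sc, cj_cm sm, ed]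
    simp only [mul_assoc, c2.comm.symm.left_comm, c3.comm.left_comm, sqc sd])
  obtain ⟨x, hx, f1, e1, o, o3⟩ := h.exists_s3 c1.r hm h4
  generalize ⟪v, m⟫ = k at c4 c5 f1 e1 hk ⊢
  have sx := ri_sq hD hx
  have c6 : Col D x m := e1 ▸ col_l hD hx c4.r f1
  have f2 : Four x d := ri_four_of hD hx c2.l (fun c => c2.no hD hx c o.symm)
    fun o' => c6.symm.no hD c2.l c3.comm.symm o'.symm
  obtain ⟨-, s1⟩ := t1 hD ⟨c4.l, c4.r, hx, c4.mul, c4.comm, f1, o.symm⟩ o3
  obtain ⟨t2, s2⟩ := t1 hD ⟨c2.r, c2.l, hx, c2.symm.mul, c2.symm.comm, f2, o.symm⟩ o3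
  rw [e1] at s1
  have ss : v * x * v * (v * x * v) = 1 := ri_sq hD (ri_conj' hD hx sv)
  have sxv : v * x * v * x * (v * x * v) = v := by
    have := pow_orderOf_eq_one (v * x)
    rw [o3] at this
    have e := congrArg (fun u => u * v) this
    simpa only [pow_succ, pow_zero, one_mul, mul_assoc] using e
  have oc : IOpp c x := by
    by_contra o'
    have f3 : Four x c := ri_four_of hD hx c1.l (fun c => c1.no hD hx c o.symm) fun o => o' o.symm
    obtain ⟨-, s3⟩ := t1 hD ⟨c1.r, c1.l, hx, c1.symm.mul, c1.symm.comm, f3, o.symm⟩ o3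
    have c7 := commute_conj' c5 ss
    rw [s1, s3] at c7
    have c8 := col_r hD hx c1.l f3
    refine f2.not_commute sx sd (commute_of_conj' sx ?_)
    rw [← ed, ← cm_conj' sx, conj_eq_of_commute' c6.comm sx, cj_cm sc]
    generalize ⟪x, c⟫ = z at c7 c8
    simp only [mul_assoc, c7.symm.left_comm, c8.comm.left_comm, sqc (ri_sq hD c8.r)]
  obtain ⟨e, se, ee⟩ := h.surj_T hc hx oc f2 (.refl hc.l)
  have o2 := oc.symm.conj' (ri_sq hD c4.r)
  rw [four_conj_eq sx, e1, conj_eq_of_commute' c5.symm (ri_sq hD c4.r)] at o2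
  have em : m = ⟪x, e⟫ := inj hD c1.l c6 (col_l hD hx se.r (se.four hD hx f2)) o2
    (comm_cm c6.comm.symm (se.cm hm c3.comm.symm).symm) h5 (ed.trans ee.symm)
  have key : ∀ a, Sim D d a → Sim D d (v * x * v * ⟪x, a⟫ * (v * x * v)) := fun a s => by
    have := (h.sim_f hc hx oc f2 (.refl hc.l) s).conj' hD ss
    rwa [← s2, cj_cj ss] at this
  refine ⟨by have := key e se; rwa [← em, ← s1, cj_cj ss] at this, fun e' s' => ?_⟩
  obtain ⟨a, sa, rfl⟩ := surj_of_inj (T := fun a => v * x * v * ⟪x, a⟫ * (v * x * v)) key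
    (fun a a' s s' e => h.finj hx f2 s s' (by simpa only [mul_left_inj, mul_right_inj] using e)) s'
  have := ri_conj' hD (col_l hD hx sa.r (sa.four hD hx f2)).mul ss
  rwa [cj_mul ss, sxv] at this

theorem cm_sim (hc : Lam D d c) (s : Sim D c a) (c3 : Col D d m) (h5 : Four c m) :
    Sim D d ⟪a, m⟫ :=
  (h.lam_symm ((h.lam_symm hc).sim s)).cm m c3.xt (s.four h.ri c3.r h5.symm).symm

theorem cm_inj (hm : m ∈ D) (h5 : Four c m) (s : Sim D c a) (s' : Sim D c a')
    (e : ⟪a, m⟫ = ⟪a', m⟫) : a = a' := by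
  have sm := ri_sq h.ri hm
  refine h.finj hm h5.symm s s' ?_
  rw [(s.four h.ri hm h5.symm).symm.swap (ri_sq h.ri s.r) sm, e,
    (s'.four h.ri hm h5.symm).symm.swap (ri_sq h.ri s'.r) sm]

theorem not_lam (hu : Wd D d u) (c2 : Col D d v) (h4 : Four u v) : ¬ Lam D d ⟪u, v⟫ := fun hc => by
  have hD := h.ri
  have cu := col_l hD hu.r c2.r h4
  have c1 := (col_r hD hu.r c2.r h4).symm
  have uv : u * v * u = ⟪u, v⟫ * v := cj_cm (ri_sq hD c2.r)
  have tl := fun {v' m : G} => tl0 h.toRIC (v := v') (c := ⟪u, v⟫) (m := m) hu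
  generalize ⟪u, v⟫ = c at hc cu c1 uv tl
  have su := ri_sq hD hu.r; have sv := ri_sq hD c2.r; have sc := ri_sq hD c1.l
  have sd := ri_sq hD c2.l
  have c0 := h.lam_col hc
  have hc' := h.lam_symm hc
  obtain ⟨m, hm, h5, ed⟩ := exists_m h.toRIC c0 hc'.ns
  obtain ⟨m', hm', h6, ec⟩ := exists_m h.toRIC c0.symm hc.ns
  have sm := ri_sq hD hm; have sm' := ri_sq hD hm'
  have c3 : Col D d m := (ed ▸ col_r hD c0.l hm h5 : Col D m d).symm
  have c4 : Col D c m' := (ec ▸ col_r hD c0.r hm' h6 : Col D m' c).symm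
  -- it suffices to find `z` with `v z ∈ D` commuting with `m`
  have fin : ∀ z, Commute u z → Commute v z → Commute c z → v * z ∈ D → ¬ Commute (v * z) m :=
    fun z z1 z2 z3 z4 z5 => by
      have e : ⟪u, (v * z)⟫ = c := by
        rw [cj_mul su, uv, conj_eq_of_commute' z1 su, mul_assoc c, mul_assoc c, ri_sq hD z4, mul_one]
      have n : ¬ Commute u (v * z) := fun c' =>
        ri_ne_one hD c0.l (e.symm.trans (cm_eq_one su (ri_sq hD z4) c'))
      refine tl z4 (ri_four_of hD hu.r z4 n fun o => ?_) e hm h5 ed z5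
      have := (o.sq su (ri_sq hD z4)).not_commute su (ri_sq hD (ri_conj' hD hu.r (ri_sq hD z4)))
      rw [four_conj_eq su, e] at this
      exact this ((Commute.refl u).mul_right cu.comm)
  have h7 : Four v m := ri_four_of hD c2.r hm
    (fun c' => fin 1 (.one_right _) (.one_right _) (.one_right _) (by simpa using c2.r)
      (by simpa using c')) ((c2.wd hD).no m hm c3.comm)
  have mv : m * v * m = v * ⟪v, m⟫ := four_conj_eq sv
  have mc : m * c * m = c * d := by rw [four_conj_eq sc, ed]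
  by_cases hk : ⟪v, m⟫ = d
  · refine fin c cu.comm c1.comm.symm (.refl c) c1.symm.mul (commute_of_conj' sm ?_).symm
    rw [cj_mul sm, mv, mc, hk]
    simp only [mul_assoc, c0.comm.symm.left_comm, sd, mul_one]
  obtain ⟨se, -⟩ := h.lemG hc c1 c2 hm h5 ed h7 hk
  have c5 := col_l hD c2.r hm h7
  have c6 := col_r hD c2.r hm h7
  generalize ⟪v, m⟫ = e at se c5 c6 mv hk
  have s0 := ri_sq hD se.r
  obtain ⟨c', sc', ee⟩ : ∃ c', Sim D c c' ∧ ⟪c', m⟫ = e := by
    obtain ⟨a, sa, e1⟩ := surj_of_inj (P := Sim D d) (T := fun a => ⟪⟪a, m'⟫, m⟫)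
      (fun a s => h.cm_sim hc (h.cm_sim hc' s c4 h6) c3 h5)
      (fun a a' s s' e => h.cm_inj hm' h6 s s'
        (h.cm_inj hm h5 (h.cm_sim hc' s c4 h6) (h.cm_sim hc' s' c4 h6) e)) se
    exact ⟨_, h.cm_sim hc' sa c4 h6, e1⟩
  have mc' : m * c' * m = c' * e := by rw [four_conj_eq (ri_sq hD sc'.r), ee]
  have ce : Commute e c' := se.cm sc'.r (sc'.cm c0.r c0.comm).symm
  have step : ∀ z, Commute u z → Commute v z → Commute c z → Commute m z → Col D c (v * z) →
      Col D d (v * z) → ⟪(v * z), m'⟫ ≠ 1 → ⟪(v * z), m'⟫ ≠ c → False :=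
    fun z z1 z2 z3 z4 k1 k2 n1 n2 => by
      have h8 : Four (v * z) m' := ri_four_of hD k1.r hm'
        (fun c' => n1 (cm_eq_one (ri_sq hD k1.r) sm' c')) ((k1.wd hD).no m' hm' c4.comm)
      have := (h.lemG hc' k2 k1 hm' h6 ec h8 n2).2 c' sc'
      rw [mul_assoc] at this
      refine fin (z * c') (z1.mul_right (sc'.cm hu.r cu.comm.symm).symm)
        (z2.mul_right (sc'.cm c2.r c1.comm).symm) (z3.mul_right sc'.comm) this
        (commute_of_conj' sm ?_).symm
      have ze : Commute e z := by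
        have := (se.cm c2.r c2.comm).mul_right (se.cm k2.r k2.comm)
        rwa [sqc sv] at this
      rw [cj_mul sm, cj_mul sm, mv, mc', conj_eq_of_commute' z4 sm]
      simp only [mul_assoc, ze.left_comm, ce.left_comm, s0, mul_one]
  by_cases hk' : ⟪v, m'⟫ = 1 ∨ ⟪v, m'⟫ = c
  · have s1 := h.cm_sim hc' se c4 h6
    have n1 : ⟪e, m'⟫ ≠ c := fun e' => hk (h.cm_inj hm' h6 se (.refl c0.r) (e'.trans ec.symm))
    have ce' : Commute e c := se.cm c0.l c0.comm.symm
    have ck : Commute e ⟪v, m'⟫ := hk'.elim (fun e' => e' ▸ .one_right _) fun e' => e' ▸ ce'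
    have e2 : ⟪(v * e), m'⟫ = ⟪v, m'⟫ * ⟪e, m'⟫ := by
      calc _ = v * e * (m' * (v * e) * m') := by simp only [mul_assoc]
        _ = _ := by
          rw [cj_mul sm', four_conj_eq sv, four_conj_eq s0]
          generalize ⟪v, m'⟫ = p at ck
          generalize ⟪e, m'⟫ = q
          simp only [mul_assoc, c5.comm.symm.left_comm, sqc sv, ck.left_comm, sqc s0]
    have k0 : c * v * d ∈ D := by
      have := ri_conj' hD c2.symm.mul su
      rwa [cj_mul su, uv, conj_eq_of_commute' hu.comm.symm su] at this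
    refine step e (se.cm hu.r hu.comm).symm c5.comm ce'.symm c6.comm
      ⟨c0.l, c5.mul, c1.comm.mul_right ce'.symm, ?_⟩ ?_ ?_ ?_
    · have := ri_conj' hD k0 sm
      rw [cj_mul sm, cj_mul sm, mv, mc, conj_eq_of_commute' c3.comm.symm sm] at this
      simpa only [mul_assoc, c2.comm.left_comm, se.comm.left_comm, sd, mul_one] using this
    · have := c2.conj' hD sm
      rwa [mv, conj_eq_of_commute' c3.comm.symm sm] at this
    · rw [e2]
      rcases hk' with e' | e' <;> rw [e']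
      · rw [one_mul]; exact ri_ne_one hD s1.r
      · exact fun e'' => n1 (by rw [← inv_of_sq sc]; exact eq_inv_of_mul_eq_one_right e'')
    · rw [e2]
      rcases hk' with e' | e' <;> rw [e']
      · rwa [one_mul]
      · exact fun e'' => ri_ne_one hD s1.r (mul_eq_left.1 e'')
  · rw [not_or] at hk'
    exact step 1 (.one_right _) (.one_right _) (.one_right _) (.one_right _) (by simpa using c1)
      (by simpa using c2) (by simpa only [mul_one] using hk'.1) (by simpa only [mul_one] using hk'.2)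

end RSt

end H62.RS
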