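import Cfsg.Agent.H62.RS2

/-! Root involutions: the root structure theorem. -/

set_option autoImplicit false
set_option linter.unusedVariables false
set_option linter.unusedSectionVars false

open Cfsg H70
open scoped commutatorElement

namespace H62.RS

variable {G : Type*} [Group G] {D : Set G} {a a' b c d e f g k m m' u v w x y : G}

theorem pgroup_W [Finite G] (hD : IsRootInvolutionSet D) (d : G) :
    IsPGroup 2 (Subgroup.closure {w | Wd D d w}) :=
  ri_pgroup_closure hD (fun _ h => h.r) (fun s hs t ht => ht.cj hD hs.r hs.comm)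
    fun s hs t ht => hs.no t ht.r ht.comm

theorem cm_eq_commutator (ha : a * a = 1) (hb : b * b = 1) : ⟪a, b⟫ = ⁅a, b⁆ := by
  rw [commutatorElement_def, inv_of_sq ha, inv_of_sq hb]

theorem sim_iff (hd : d ∈ D) : e ∈ sameCommutingClass D d ↔ Sim D d e :=
  ⟨fun h => ⟨hd, h.1, fun y hy =>
      ⟨fun c => (h.2.le ⟨hy, c.symm⟩).2.symm, fun c => (h.2.ge ⟨hy, c.symm⟩).2.symm⟩⟩,
    fun h => ⟨h.r, Set.ext fun y => ⟨fun hy => ⟨hy.1, (h.cm hy.1 hy.2.symm).symm⟩,
      fun hy => ⟨hy.1, (h.symm.cm hy.1 hy.2.symm).symm⟩⟩⟩⟩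

theorem wd_iff : IsIsolatedElem (OddAdj (commutingMembers D d)) (commutingMembers D d) w ↔ Wd D d w :=
  isolated_iff.trans ⟨fun h => ⟨h.1.1, h.1.2.symm, fun y hy c => h.2 y ⟨hy, c.symm⟩⟩,
    fun h => ⟨⟨h.r, h.comm.symm⟩, fun y hy => h.no y hy.1 hy.2.symm⟩⟩

theorem rst_of (h : RIC D)
    (hE : ∀ d ∈ D, (sameCommutingSubgroup D d : Set G) = sameCommutingClass D d ∪ {1}) : RSt D :=
  ⟨h, fun a b s hn => by
    have : a * b ∈ (sameCommutingSubgroup D a : Set G) :=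
      mul_mem (Subgroup.subset_closure ((sim_iff s.l).2 (.refl s.l)))
        (Subgroup.subset_closure ((sim_iff s.l).2 s))
    rw [hE a s.l] at this
    refine (sim_iff s.l).1 (this.resolve_right fun e => hn ?_)
    rw [← ri_inv h.ri s.r]; exact eq_inv_of_mul_eq_one_left e⟩

namespace RSt

variable [Finite G] (h : RSt D)
include h

/-- `[W_d, X_e] ⊆ E(d)` -/
theorem cm_W (hd : d ∈ D) (hu : Wd D d u) (hv : Xt D d v) (h4 : Four u v) : Sim D d ⟪u, v⟫ := by
  by_contra ns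
  have hD := h.ri
  let N := Subgroup.closure {w | Wd D d w}
  have := (pgroup_W hD d).isNilpotent
  have key : ∀ n, ∃ c : N, c ∈ (⊤ : Subgroup N).lowerCentralSeries n ∧
      ∃ u v, Wd D d u ∧ Xt D d v ∧ Four u v ∧ ⟪u, v⟫ = c ∧ ¬ Sim D d c := by
    intro n
    induction n with
    | zero => exact ⟨⟨_, Subgroup.subset_closure (hu.cm hD hv.r hv.comm h4)⟩, Subgroup.mem_top _,
        u, v, hu, hv, h4, rfl, ns⟩
    | succ n ih =>
      obtain ⟨c, hc, u, v, hu, ⟨e, s, c2⟩, h4, ec, ns⟩ := ih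
      have w : Wd D d c := ec ▸ hu.cm hD c2.r (Xt.comm ⟨e, s, c2⟩) h4
      obtain ⟨v', hv', h5, ns'⟩ : ∃ v', Xt D d v' ∧ Four (c : G) v' ∧ ¬ Sim D d ⟪(c : G), v'⟫ := by
        by_contra! hn
        exact h.not_lam (hu.sim s) c2 h4 (ec ▸ Lam.sim ⟨hd, w, ns, hn⟩ s)
      refine ⟨⁅c, ⟨v', Subgroup.subset_closure (hv'.wd hD)⟩⁆,
        Subgroup.commutator_mem_commutator hc (Subgroup.mem_top _), c, v', w, hv', h5,
        cm_eq_commutator (ri_sq hD w.r) (ri_sq hD hv'.r), ?_⟩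
      rwa [cm_eq_commutator (ri_sq hD w.r) (ri_sq hD hv'.r)] at ns'
  obtain ⟨n, hn⟩ := Subgroup.nilpotent_iff_lowerCentralSeries.1 this
  obtain ⟨c, hc, u, v, hu, hv, h4, ec, -⟩ := key n
  rw [hn, Subgroup.mem_bot] at hc
  exact h4.ne_one (ri_sq hD hu.r) (ri_sq hD hv.r) (by rw [ec, hc]; rfl)

theorem lam_of (hd : d ∈ D) (hw : Wd D d w) (ns : ¬ Sim D d w) : Lam D d w :=
  ⟨hd, hw, ns, fun v hv => h.cm_W hd hw hv⟩

theorem col_of (hd : d ∈ D) (hw : Wd D d w) (hn : w ≠ d) : Col D d w := by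
  by_cases s : Sim D d w
  · exact ⟨hd, s.r, s.comm, (h.hE d w s hn.symm).r⟩
  · exact (h.lam_col (h.lam_of hd hw s)).symm

theorem W_eq (hd : d ∈ D) : {w | Wd D d w} = productPartners D d ∪ {d} := by
  ext w
  refine ⟨fun hw => ?_, ?_⟩
  · by_cases e : w = d
    · exact Or.inr e
    · have c := h.col_of hd hw e
      exact Or.inl (mem_productPartners.2 ⟨c.r, c.comm, c.mul, e⟩)
  · rintro (hw | rfl)
    · obtain ⟨h1, h2, h3, -⟩ := mem_productPartners.1 hw
      exact Col.wd h.ri ⟨hd, h1, h2, h3⟩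
    · exact (Sim.refl hd).wd h.ri

theorem comm_N (hg : g ∈ Subgroup.closure {w | Wd D d w}) (s : EE D d e) : Commute e g := by
  induction hg using Subgroup.closure_induction with
  | mem x hx => exact s.comm hx.r hx.comm
  | one => exact .one_right _
  | mul x y _ _ h1 h2 => exact h1.mul_right h2
  | inv x _ h1 => exact h1.inv_right

theorem wd_of_mem (hd : d ∈ D) (ha : a ∈ D) (hN : a ∈ Subgroup.closure {w | Wd D d w}) : Wd D d a := by
  have hD := h.ri
  refine ⟨ha, h.comm_N hN (Or.inr (.refl hd)), fun y hy c =>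
    ri_not_opp_of_normal hD (H := Subgroup.zpowers y) (pgroup_W hD d) (fun g hg n hn => ?_) ha hy hN
      (Subgroup.mem_zpowers y)⟩
  refine conj_mem_of_closure (T := {y}) (U := Subgroup.closure {w | Wd D d w})
    (by rintro _ rfl; exact ri_sq hD hy) ?_ g (by rwa [← Subgroup.zpowers_eq_closure]) n hn
  rintro _ rfl u hu
  induction hu using Subgroup.closure_induction with
  | mem x hx => exact Subgroup.subset_closure (hx.cj hD hy c)
  | one => rw [mul_one, ri_sq hD hy]; exact one_mem _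
  | mul x z _ _ h1 h2 => rw [cj_mul (ri_sq hD hy)]; exact mul_mem h1 h2
  | inv x _ h1 => simpa only [mul_inv_rev, ri_inv hD hy, mul_assoc, SetLike.mem_coe] using inv_mem h1

theorem ee_cm (hd : d ∈ D) (ha : Wd D d a) (hb : Wd D d b) : EE D d ⁅a, b⁆ := by
  have hD := h.ri
  rw [← cm_eq_commutator (ri_sq hD ha.r) (ri_sq hD hb.r)]
  by_cases c : Commute a b
  · exact Or.inl (cm_eq_one (ri_sq hD ha.r) (ri_sq hD hb.r) c)
  · exact Or.inr (h.cm_W hd ha (h.col_of hd hb fun e => c (e ▸ ha.comm.symm)).xt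
      (ri_four_of hD ha.r hb.r c (ha.no b hb.r hb.comm)))

theorem ee_inv (ha : EE D d a) : EE D d a⁻¹ :=
  ha.elim (fun e => Or.inl (inv_eq_one.2 e)) fun s => Or.inr ((ri_inv h.ri s.r).symm ▸ s)

theorem ee_commutator (hd : d ∈ D) (ha : a ∈ Subgroup.closure {w | Wd D d w})
    (hb : b ∈ Subgroup.closure {w | Wd D d w}) : EE D d ⁅a, b⁆ := by
  have k : ∀ a, Wd D d a → ∀ b ∈ Subgroup.closure {w | Wd D d w}, EE D d ⁅a, b⁆ := fun a ha =>
    closure_induction_inv (fun t ht => ri_sq h.ri ht.r) (Or.inl (by simp)) fun t ht g hg ih => by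
      rw [show ⁅a, t * g⁆ = ⁅a, t⁆ * (t * ⁅a, g⁆ * t⁻¹) by simp only [commutatorElement_def]; group,
        conj_eq_of_commute (ih.comm ht.r ht.comm).symm]
      exact h.ee_mul (h.ee_cm hd ha ht) ih
  refine closure_induction_inv (P := fun a => EE D d ⁅a, b⁆) (fun t ht => ri_sq h.ri ht.r)
    (Or.inl (by simp)) (fun t ht g hg ih => ?_) a ha
  rw [show ⁅t * g, b⁆ = t * ⁅g, b⁆ * t⁻¹ * ⁅t, b⁆ by simp only [commutatorElement_def]; group,
    conj_eq_of_commute (ih.comm ht.r ht.comm).symm]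
  exact h.ee_mul ih (k t ht b hb)

theorem sim_of_central (hd : d ∈ D) (hw : Wd D d w) (hc : ∀ y, Col D d y → Commute w y) :
    Sim D d w := by
  by_contra ns
  have hD := h.ri
  obtain ⟨y, hy, o, h4⟩ := exists_y h.toRIC hd hw ns
  exact (col_l hD hy hd h4).symm.no hD hw.r (hc _ (col_r hD hy hd h4)) o

end RSt

theorem exists_cm (h : NDC D) (he : e ∈ D) : ∃ u ∈ D, ∃ v ∈ D, Four u v ∧ ⟪u, v⟫ = e := by
  obtain ⟨b, hb, h4⟩ := h.four e he
  obtain ⟨g, hg⟩ := h.cl _ (ri_four_mem h.ri he hb h4) e he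
  exact ⟨_, ri_conj h.ri he g, _, ri_conj h.ri hb g, h4.conj g, (cm_conj g e b).trans hg.symm⟩

end H62.RS
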