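import Cfsg.Agent.H6.O8Kit
import Cfsg.Agent.H79.O83c

/-! Tower S82, job FI, computations: the involutions of the automorphism group of the model of `Ω₈⁺(2)`. -/

set_option autoImplicit false
set_option maxRecDepth 100000
set_option synthInstance.maxSize 2048

open Cfsg

namespace H62.S82

open Subgroup H49 H78 H6.O8
open H71 (mem_gen evw gen evw_append)
open H83.O8 hiding Syl
open H64.SG (O2 Cz mem_Cz)
open MulAut (conj)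

/-- the image of a word under `γ i` -/
noncomputable abbrev tw (i : Fin 3) (w : List ℕ) : X := ew (w.map (σ i))

theorem cl12 : ∀ c ∈ [0, 1, 6, 10, 12, 14], ∀ u ∈ [[], [16]], ∃ w ∈ [[], [20], [20, 15], [14], [13]],
    ∃ i : Fin 3, tw i w * tw i (secW c ++ u) * (tw i w)⁻¹ ∈ [1, xz, xb * xe, xb * xe * xg] := by
  decide +kernel

theorem sing : ∀ n < 256, sec n * sec n = 1 → ∃ w ∈ W216, actW w n ∈ [0, 1, 6, 10, 12, 14] := by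
  decide +kernel

/-- certificates -/
def tabI : List (ℕ × List ℕ × List ℕ) :=
  [(0, [], []), (1, [20], [20, 15]), (6, [9], [9]), (7, [9, 20], [9, 20, 15]), (8, [20, 1], [20, 1, 11]), (9,
   [20, 0], [20, 0, 11]), (14, [20, 1, 9], [18, 20, 0, 20]), (15, [18, 20, 0], [18, 20, 0, 11]), (16, [20, 1,
   3, 5], [20, 1, 3, 5, 8]), (22, [20, 1, 3, 5, 9], [20, 1, 3, 9, 5]), (24, [9, 20, 1, 2, 4], [9, 20, 1, 2, 4,
   8]), (30, [20, 2, 4, 13, 1], [18, 20, 1, 2, 4]), (96, [13], [13]), (97, [18, 20], [18, 20, 15]), (102, [9,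
   0], [9, 0]), (103, [9, 18, 20, 15], [9, 18, 20]), (104, [9, 20, 1], [9, 20, 1, 11]), (105, [20, 0, 13],
   [20, 0, 11, 13]), (110, [18, 20, 1, 11], [18, 20, 1]), (111, [9, 20, 0, 11], [9, 20, 0]), (112, [9, 20, 1,
   3, 5], [9, 20, 1, 3, 5, 8]), (118, [20, 3, 13, 1, 5], [18, 20, 1, 3, 5]), (120, [20, 1, 2, 4], [20, 1, 2,
   4, 8]), (126, [20, 1, 2, 8, 4], [20, 1, 2, 4, 9]), (128, [20, 3, 5], [20, 3, 5, 12]), (129, [9, 20, 2, 4],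
   [9, 20, 2, 4, 12]), (134, [9, 20, 3, 5], [9, 20, 3, 5, 12]), (135, [20, 2, 4], [20, 2, 4, 12]), (144, [20,
   0, 3, 5], [20, 0, 3, 5, 8]), (150, [18, 20, 0, 3, 5], [20, 0, 3, 9, 5]), (153, [9, 20, 0, 2, 4], [9, 20, 0,
   2, 4, 8]), (159, [20, 0, 2, 4, 13], [20, 0, 2, 12, 4]), (224, [18, 20, 3, 5], [20, 3, 13, 5]), (225, [9,
   20, 2, 4, 13], [9, 18, 20, 2, 4]), (230, [9, 20, 3, 13, 5], [9, 18, 20, 3, 5]), (231, [18, 20, 2, 4], [20,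
   2, 4, 13]), (240, [20, 0, 3, 5, 13], [20, 0, 3, 13, 5]), (246, [9, 20, 0, 3, 5, 8], [9, 20, 0, 3, 5]),
   (249, [20, 0, 2, 4, 9], [18, 20, 0, 2, 4]), (255, [20, 0, 2, 4, 8], [20, 0, 2, 4]), (256, [20, 3, 5, 20],
   [9, 20, 2, 4, 20]), (257, [20, 3, 5, 12, 20], [9, 20, 2, 4, 12, 20]), (262, [9, 20, 3, 5, 20], [20, 2, 4,
   20]), (263, [9, 20, 3, 5, 12, 20], [20, 2, 4, 12, 20]), (354, [13, 20, 2, 5, 20], [9, 0, 20, 3, 4, 20]),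
   (355, [13, 20, 2, 5, 12, 20], [9, 0, 20, 3, 4, 12, 20]), (356, [13, 20, 3, 4, 20], [9, 0, 20, 2, 5, 20]),
   (357, [13, 20, 3, 4, 12, 20], [9, 0, 20, 2, 5, 12, 20]), (384, [20, 3, 5, 20, 15], [9, 20, 2, 4, 20, 15]),
   (385, [9, 20, 2, 4, 12, 20, 15], [20, 3, 5, 12, 20, 15]), (390, [9, 20, 3, 5, 20, 15], [20, 2, 4, 20, 15]),
   (391, [20, 2, 4, 12, 20, 15], [9, 20, 3, 5, 12, 20, 15]), (482, [13, 20, 2, 5, 20, 15], [9, 0, 20, 3, 4,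
   20, 15]), (483, [3, 8, 20, 2, 4, 20, 3], [2, 20, 2, 4, 20, 2]), (484, [13, 20, 3, 4, 20, 15], [9, 0, 20, 2,
   5, 20, 15]), (485, [2, 8, 20, 2, 4, 20, 2], [3, 20, 2, 4, 20, 3]), (1536, [18], [18]), (1537, [13, 20],
   [20, 15, 18]), (1542, [9, 0, 20], [9, 20, 15, 18]), (1543, [9, 18], [9, 18]), (1544, [13, 20, 1], [20, 1,
   11, 18]), (1545, [13, 20, 0], [20, 0, 11, 18]), (1550, [13, 18, 20, 0], [13, 20, 0, 11]), (1551, [13, 20,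
   1, 9], [9, 20, 0, 20]), (1584, [13, 20, 1, 2, 5], [13, 20, 1, 2, 5, 8]), (1591, [13, 20, 1, 2, 5, 9], [9,
   20, 0, 20, 2, 5]), (1592, [9, 0, 20, 1, 3, 4], [3, 20, 2, 20, 1, 4, 10]), (1599, [3, 20, 2, 20, 1, 4], [13,
   18, 20, 1, 3, 4]), (1616, [13, 20, 1, 3, 4], [13, 20, 1, 3, 4, 8]), (1623, [13, 20, 1, 3, 4, 10], [9, 20,
   0, 20, 3, 4]), (1624, [9, 0, 20, 1, 2, 5], [2, 20, 4, 20, 1, 2, 9]), (1631, [2, 20, 4, 20, 1, 2], [13, 18,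
   20, 1, 2, 5]), (1632, [9, 0, 20, 1], [9, 20, 1, 11, 18]), (1633, [13, 20, 0, 13], [13, 20, 0, 15]), (1638,
   [9, 20, 0, 11, 18], [9, 0, 20, 0]), (1639, [13, 20, 15, 1], [13, 18, 20, 1]), (1640, [13, 18], [13, 18]),
   (1641, [13, 18, 20], [13, 20, 15]), (1646, [9, 0, 20, 15], [9, 0, 18, 20]), (1647, [9, 0, 18], [9, 0, 18]),
   (1666, [13, 20, 3, 4], [13, 20, 3, 4, 12]), (1667, [9, 0, 20, 2, 5], [9, 0, 20, 2, 5, 12]), (1668, [13, 20,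
   2, 5], [13, 20, 2, 5, 12]), (1669, [9, 0, 20, 3, 4], [9, 0, 20, 3, 4, 12]), (1715, [13, 18, 20, 0, 2, 5],
   [2, 20, 4, 20, 0, 2]), (1716, [13, 20, 0, 2, 5], [13, 20, 0, 2, 5, 8]), (1722, [13, 20, 0, 3, 4, 13], [13,
   20, 0, 3, 4, 14]), (1725, [9, 0, 20, 0, 3, 4], [3, 20, 2, 20, 0, 4, 14]), (1746, [13, 20, 0, 3, 4], [13,
   20, 0, 3, 4, 8]), (1749, [13, 18, 20, 0, 3, 4], [3, 20, 2, 20, 0, 4]), (1755, [9, 0, 20, 0, 2, 5], [2, 20,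
   4, 20, 0, 2, 13]), (1756, [13, 20, 0, 2, 5, 14], [13, 20, 0, 2, 5, 13]), (1770, [3, 20, 2, 20, 4], [13, 18,
   20, 3, 4]), (1771, [9, 0, 18, 20, 2, 5], [2, 8, 20, 4, 20, 2]), (1772, [2, 20, 4, 20, 2], [13, 18, 20, 2,
   5]), (1773, [9, 0, 18, 20, 3, 4], [3, 8, 20, 2, 20, 4]), (1792, [18, 20, 3, 5, 20], [9, 20, 2, 4, 13, 20]),
   (1793, [20, 3, 13, 5, 20], [9, 18, 20, 2, 4, 20]), (1798, [9, 20, 3, 13, 5, 20], [18, 20, 2, 4, 20]),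
   (1799, [9, 18, 20, 3, 5, 20], [20, 2, 4, 13, 20]), (1898, [2, 20, 4, 20, 2, 20], [9, 0, 18, 20, 3, 4, 20]),
   (1899, [13, 18, 20, 2, 5, 20], [3, 8, 20, 2, 20, 4, 20]), (1900, [3, 20, 2, 20, 4, 20], [9, 0, 18, 20, 2,
   5, 20]), (1901, [13, 18, 20, 3, 4, 20], [2, 8, 20, 4, 20, 2, 20]), (1922, [20, 3, 5, 20, 15, 19], [9, 20,
   2, 4, 20, 15, 19]), (1923, [9, 20, 3, 5, 20, 15, 18], [20, 2, 4, 20, 15, 18]), (1924, [20, 3, 5, 20, 15,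
   18], [9, 20, 2, 4, 20, 15, 18]), (1925, [9, 20, 3, 5, 20, 15, 19], [20, 2, 4, 20, 15, 19]), (2024, [9, 18,
   20, 3, 5, 20, 15], [20, 2, 4, 13, 20, 15]), (2025, [18, 20, 2, 4, 20, 15], [9, 20, 3, 13, 5, 20, 15]),
   (2030, [20, 3, 13, 5, 20, 15], [9, 18, 20, 2, 4, 20, 15]), (2031, [9, 20, 2, 4, 13, 20, 15], [18, 20, 3, 5,
   20, 15])]

/-- the test of a certificate -/
noncomputable def okB (c w : List ℕ) : Bool :=
  (ew c * ew w * (tw 0 c)⁻¹).frc fun t => orB (eqB t 1) (eqB t xz)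

theorem tab_ok : UG.frcL (W8.map ew) (fun R => UG.frcL (W8.map (tw 0)) fun R' => allN (fun n =>
    (sec n).frc fun s => (tw 0 (secW n))⁻¹.frc fun s' => allN (fun i =>
      impB (eqB (R.getD i 1 * s * R'.getD i 1) s')
        (andB (okB ((tabI.lookup (256 * i + n)).getD ([], [])).1 (W8.getD i [] ++ secW n))
          (okB ((tabI.lookup (256 * i + n)).getD ([], [])).2 (W8.getD i [] ++ secW n ++ [16])))) 8) 256)
    = true := by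
  decide +kernel

end H62.S82
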