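import Cfsg.Agent.H78.S2Kit

/-! STD-SP chapter II, slot FY: generation. -/

set_option autoImplicit false
set_option linter.unusedSectionVars false
set_option linter.unusedSimpArgs false

namespace H62.SP2FY

open H64.SG (Cz Cs Ns)
open H67.UA hiding Par
open H67.SP H78.S2
open H86.SPI (ok pp hf_self hf_comm EE_mul' hf_smul_right' ac_TT TT_conj TT_smul TT_mul TT_add_smul
  TT_zero TT_sq)
open H54.SPI (hf_move exists_hf Tc_eq TT_fix)
open H54.SPF (WS mem_WS hf_evv v1 v2 m1)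
open Matrix Subgroup
open scoped commutatorElement

variable {n : ℕ} {F : Type} [Field F] [StarRing F] [TrivialStar F] [CharP F 2] [Finite F]
  [p : Par n F] {A : Subgroup (XU n F)}

/-- An element that fixes `W` is a product of transvections with centre in `W^⊥`. -/
theorem gen_fix (W : Submodule F (Vn n F)) : (∀ y, (∀ w ∈ W, hf y w = 0) → TT y ∈ A) →
    ∀ g : XU n F, (∀ w ∈ W, ac g w = w) → g ∈ A := by
  induction W using WellFoundedGT.induction with
  | ind W ih =>
  intro hA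
  have k1 : ∀ (g : XU n F) v, (∀ w ∈ W, ac g w = w) → hf (ac g v) v ≠ 0 → g ∈ A := fun g v hg hv => by
    have h1 : ∀ w ∈ W, hf (rt (hf (ac g v) v)⁻¹ • (ac g v + v)) w = 0 := fun w hw => by
      rw [hf_smul_left, hf_move (hg w hw), mul_zero]
    rw [← mul_mem_cancel_left (hA _ h1)]
    refine ih (W ⊔ Submodule.span F {v}) (left_lt_sup.2 fun h => hv ?_)
      (fun y hy => hA y fun w hw => hy w (Submodule.mem_sup_left hw)) _ fun w hw => ?_
    · rw [hg v (h (Submodule.mem_span_singleton_self v)), hf_self]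
    · obtain ⟨w', hw', _, h2, rfl⟩ := Submodule.mem_sup.1 hw
      obtain ⟨a, rfl⟩ := Submodule.mem_span_singleton.1 h2
      rw [ac_add, ac_smul, ac_mul, ac_mul, hg w' hw', TT_fix (hf_symm (h1 w' hw')), TT_smul, rt_sq,
        ac_Tc', hf_add_right, hf_self, zero_add, inv_mul_cancel₀ hv, one_smul, ← add_assoc,
        v_add_self, zero_add]
  intro g hg
  by_cases h0 : ∀ v, hf (ac g v) v = 0
  · by_cases h1 : ∀ u, ac g u + u = 0
    · rw [show g = 1 from ac_ext fun u => by simpa using H54.SPI.add_eq_iff.1 (h1 u)]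
      exact one_mem _
    obtain ⟨u, hu⟩ := not_forall.1 h1
    obtain ⟨v, hv⟩ := exists_hf hu
    have h2 : ∀ w ∈ W, hf (ac g u + u) w = 0 := fun w hw => hf_move (hg w hw) u
    rw [← mul_mem_cancel_left (hA _ h2)]
    refine k1 _ v (fun w hw => by rw [ac_mul, hg w hw, TT_fix (hf_symm (h2 w hw))]) ?_
    have h3 := h0 (u + v)
    have two := two0 F
    rw [ac_mul, ac_TT, hf_add_left, h0, hf_smul_left, hv, hf_add_right, hf_ac]
    simp only [ac_add, hf_add_left, hf_add_right, h0, hf_comm u v] at h3 hv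
    grind
  · obtain ⟨v, hv⟩ := not_forall.1 h0
    exact k1 g v hg hv

theorem hf_Pl (x : FX n F) {y m : Vn n F} (hy : Pl y) (hm : Wk 2 m) : hf y m = 0 := by
  obtain ⟨a, b, rfl⟩ := (x.wk m).1 hm
  simp [hf_add_right, hf_smul_right', hy.1, hy.2]

theorem pl_of_wk (x : FX n F) {m : Vn n F} (hm : Wk 2 m) : Pl m := by
  have := p.five
  obtain ⟨a, b, rfl⟩ := (x.wk m).1 hm
  constructor <;> simp [hf_add_left, hf_smul_left, hf_evv, m1 this] <;> grind

theorem Pl.add {y y' : Vn n F} (h : Pl y) (h' : Pl y') : Pl (y + y') :=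
  ⟨by rw [hf_add_left, h.1, h'.1, add_zero], by rw [hf_add_left, h.2, h'.2, add_zero]⟩

theorem Pl.smul {y : Vn n F} (h : Pl y) (c : F) : Pl (c • y) :=
  ⟨by rw [hf_smul_left, h.1, mul_zero], by rw [hf_smul_left, h.2, mul_zero]⟩

theorem Og.smul {y : Vn n F} (h : Og y) {c : F} (hc : c ≠ 0) : Og (c • y) :=
  ⟨Pl.smul h.1 c, fun k => h.2 fun i hi => by simpa [hc] using k i hi⟩

theorem Og.add (x : FX n F) {y m : Vn n F} (h : Og y) (hm : Wk 2 m) : Og (y + m) :=
  ⟨Pl.add h.1 (pl_of_wk x hm), fun k => h.2 fun i hi => by simpa [hm i hi] using k i hi⟩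

theorem TT_TT {y m : Vn n F} (h : hf y m = 0) : TT y * TT (y + m) = EE m y 1 := ac_ext fun v => by
  have := two0 F
  simp only [ac_mul, ac_TT, ac_EE (ok h 1), hf_add_left, hf_add_right, hf_smul_left, hf_self,
    hf_symm h]
  ext i
  simp only [Pi.add_apply, Pi.smul_apply, smul_eq_mul]
  grind

theorem exists_c (h : 4 ≤ Nat.card F) : ∃ c : F, c ≠ 0 ∧ c + 1 ≠ 0 := by
  classical
  have := Fintype.ofFinite F
  by_contra! k
  have h1 : (Finset.univ : Finset F) ⊆ {0, 1} := fun c _ => by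
    have := two0 F
    have := k c
    grind
  have := (Finset.card_le_card h1).trans Finset.card_le_two
  rw [Nat.card_eq_fintype_card] at h
  simp at this
  omega

theorem og_ev {i : Fin (n + 1)} (h : 2 ≤ i.val) (h' : i.val + 2 ≤ n) : Og (ev i : Vn n F) := by
  have := p.five
  refine ⟨⟨?_, ?_⟩, fun k => by simpa [ev_apply] using k i h⟩ <;> simp [hf_evv, m1 this] <;> omega

theorem exists_pair : ∃ y y' : Vn n F, Og y ∧ Og y' ∧ Og (y + y') ∧ hf y' y = 0 := by
  have := p.five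
  have h2 : Og (ev ⟨2, by omega⟩ : Vn n F) := og_ev le_rfl (by simp; omega)
  by_cases h : n = 5
  · obtain ⟨c, h0, h1⟩ := exists_c (p.four h)
    exact ⟨_, _, Og.smul h2 h0, h2, by simpa [add_smul] using Og.smul h2 h1,
      by rw [hf_smul_right', hf_self, mul_zero]⟩
  · obtain ⟨m, hm⟩ := p.odd
    have h3 : Og (ev ⟨3, by omega⟩ : Vn n F) := og_ev (by simp) (by simp; omega)
    refine ⟨_, _, h2, h3, ⟨Pl.add h2.1 h3.1, fun k => ?_⟩, by simp [hf_evv]; omega⟩
    simpa [ev_apply, Fin.ext_iff] using k ⟨2, by omega⟩ le_rfl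

theorem gen (x : FX n F) (h : ∀ y, Og y → TT y ∈ A) : P2 n F ≤ A := fun g hg => by
  refine gen_fix (WS n F 2) (fun m hm => ?_) g fun w hw => ?_
  · have hm' : Pl m := ⟨hm _ ((x.wk _).2 ⟨1, 0, by simp⟩), hm _ ((x.wk _).2 ⟨0, 1, by simp⟩)⟩
    by_cases h1 : Wk 2 m
    · have k : ∀ y, Og y → EE m y 1 ∈ A := fun y hy =>
        TT_TT (hf_Pl x hy.1 h1) ▸ mul_mem (h y hy) (h _ (Og.add x hy h1))
      obtain ⟨y, y', y1, y2, y3, y4⟩ := exists_pair (n := n) (F := F)
      have := mul_mem (mul_mem (k _ y1) (k _ y2)) (k _ y3)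
      rwa [EE_mul' (hf_Pl x y1.1 h1) (hf_Pl x y2.1 h1), EE_mul' (hf_Pl x y3.1 h1) (hf_Pl x y3.1 h1),
        v_add_self, hf_self, y4, CharTwo.add_self_eq_zero, add_zero, add_zero, zero_add] at this
    · exact h m ⟨hm', h1⟩
  · obtain ⟨a, b, rfl⟩ := (x.wk w).1 hw
    rw [ac_add, ac_smul, ac_smul, mem_Stab.1 hg.1, mem_Stab.1 hg.2]

theorem elem {C : Subgroup (XU n F)} {u v : Vn n F} (h4 : 4 ≤ Nat.card F)
    (h : ∀ a c d : F, a * d = 1 → ∃ r ∈ C, ac r u = a • u ∧ ac r v = c • u + d • v) (s : F) :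
    ∃ k ∈ ⁅C, C⁆, ac k u = u ∧ ac k v = s • u + v := by
  obtain ⟨l, l0, l1⟩ := exists_c h4
  obtain ⟨a, ha, a1, a2⟩ := h l 0 l⁻¹ (mul_inv_cancel₀ l0)
  obtain ⟨r, hr, r1, r2⟩ := h 1 (s / (l + 1) ^ 2) 1 (mul_one _)
  have e : ∀ w, ac ⁅a, r⁆ (ac r (ac a w)) = ac a (ac r w) := fun w => by
    simp only [← ac_mul, commutatorElement_def]; congr 1; group
  have e1 := e u
  have e2 := e v
  simp only [a1, a2, r1, r2, ac_add, ac_smul, one_smul, zero_smul, zero_add] at e1 e2
  refine (fun hk => ?_) (commutator_mem_commutator ha hr)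
  generalize ⁅a, r⁆ = k at e1 e2 hk
  have e3 : ac k u = u := smul_right_injective _ l0 e1
  refine ⟨k, hk, e3, funext fun i => ?_⟩
  have e4 := congrFun e2 i
  simp only [e3, Pi.add_apply, Pi.smul_apply, smul_eq_mul] at e4 ⊢
  field_simp at e4
  refine mul_left_cancel₀ (pow_ne_zero 2 l1) ?_
  linear_combination e4 - (s * u i * (l + 1)) * two0 F

theorem perf (x : FX n F) (h4 : 4 ≤ Nat.card F) : CC n F ≤ ⁅CC n F, CC n F⁆ := by
  have two := two0 F
  have pc : P2 n F ≤ CC n F := fun g hg => (x.memC g).2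
    ⟨1, 0, 0, 1, by simpa using mem_Stab.1 hg.1, by simpa using mem_Stab.1 hg.2, by simp⟩
  have pA : P2 n F ≤ ⁅CC n F, CC n F⁆ := gen x fun y hy => by
    obtain ⟨c, c0, c1⟩ := exists_c h4
    have h1 := Og.smul hy (inv_ne_zero c1)
    obtain ⟨g, hg, g1⟩ := x.tr _ _ h1 (Og.smul h1 c0)
    have := commutator_mem_commutator (pc hg) (pc (show TT ((c + 1)⁻¹ • y) ∈ P2 n F from
      ⟨TT_fix (hf_symm h1.1.1), TT_fix (hf_symm h1.1.2)⟩))
    rwa [commutatorElement_def, TT_conj, g1, inv_eq_of_mul_eq_one_right (TT_sq _), smul_smul,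
      TT_add_smul, show c * (c + 1)⁻¹ + (c + 1)⁻¹ = 1 by grind, one_smul] at this
  have hU := elem (C := CC n F) (u := ev 0) (v := ev 1) h4 fun a c d h => by
    obtain ⟨r, r1, r2, -⟩ := x.lev a 0 c d (by simp [h])
    exact ⟨r, (x.memC r).2 ⟨a, 0, c, d, r1, r2, by simp [h]⟩, by simpa using r1, r2⟩
  have hL := elem (C := CC n F) (u := ev 1) (v := ev 0) h4 fun a c d h => by
    obtain ⟨r, r1, r2, -⟩ := x.lev d c 0 a (by simp [mul_comm d, h])
    exact ⟨r, (x.memC r).2 ⟨d, c, 0, a, r1, r2, by simp [mul_comm d, h]⟩, by simpa using r2,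
      r1.trans (add_comm _ _)⟩
  have le : ⁅CC n F, CC n F⁆ ≤ CC n F := H98.commutator_le_of_le le_rfl le_rfl
  have s1 : ∀ g ∈ CC n F, ac g (ev 0) = ev 0 → g ∈ ⁅CC n F, CC n F⁆ := fun g hg h0 => by
    obtain ⟨a, b, c, d, h1, h2, h3⟩ := (x.memC g).1 hg
    have h5 := v1 p.five
    have e0 := congrFun (h0.symm.trans h1) 0
    have e1 := congrFun (h0.symm.trans h1) 1
    simp [ev_apply, Fin.ext_iff, h5] at e0 e1
    obtain rfl : d = 1 := by grind
    obtain ⟨k, hk, k1, k2⟩ := hU c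
    refine (mul_mem_cancel_left hk).1 (pA (mem_inf.2 ⟨?_, ?_⟩))
    · rw [mem_Stab, ac_mul, h0, k1]
    · rw [mem_Stab, ac_mul, h2, ac_add, ac_smul, one_smul, k1, k2, ← add_assoc,
        v_add_self, zero_add]
  have s2 : ∀ g ∈ CC n F, ∀ a b : F, b ≠ 0 → ac g (ev 0) = a • ev 0 + b • ev 1 →
      g ∈ ⁅CC n F, CC n F⁆ := fun g hg a b hb h0 => by
    obtain ⟨k, hk, k1, k2⟩ := hU ((a + 1) / b)
    obtain ⟨l, hl, l1, l2⟩ := hL b
    refine (mul_mem_cancel_left (mul_mem hl hk)).1 (s1 _ (mul_mem (le (mul_mem hl hk)) hg) ?_)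
    simp only [ac_mul, h0, ac_add, ac_smul, k1, k2, l1, l2]
    ext i
    simp only [Pi.add_apply, Pi.smul_apply, smul_eq_mul]
    grind
  intro g hg
  obtain ⟨a, b, c, d, h1, -, h3⟩ := (x.memC g).1 hg
  by_cases hb : b = 0
  · obtain ⟨l, hl, l1, l2⟩ := hL 1
    refine (mul_mem_cancel_left hl).1 (s2 _ (mul_mem (le hl) hg) a a (by grind) ?_)
    simp [ac_mul, h1, hb, ac_smul, l2, add_comm]
  · exact s2 g hg a b hb h1

theorem genL (m : ℕ) (hm : n + 1 = 2 * (m + 2))
    (h1 : ∀ i j c, i ≠ j → ss (up hm i) (up hm j) c ∈ A)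
    (h2 : ∀ c, Tc c (ev (up hm (Fin.last _))) ∈ A)
    (h3 : ∀ c, Tc c (ev (up hm (Fin.last _)).rev) ∈ A) : A = ⊤ := by
  have two := two0 F
  have mv : ∀ g ∈ A, ∀ v w, TT v ∈ A → ac g v = w → TT w ∈ A := fun g hg v w hv e =>
    e ▸ TT_conj g v ▸ mul_mem (mul_mem hg hv) (inv_mem hg)
  have acs : ∀ (i j : Fin (n + 1)) (c : F) v, i ≠ j →
      ac (ss i j c) v = v + (c * v i.rev) • ev j.rev + (c * v j) • ev i := fun i j c v h => by
    rw [ac_qq' (by simp [hf_smul_left, hf_ev, h.symm]), hf_smul_right', hf_ev_right, hf_ev_right,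
      Fin.rev_rev, smul_smul, mul_comm (v j)]
  have u1 : ∀ i j, i ≠ j → up hm i ≠ up hm j := fun i j h e => h (Fin.ext (by simpa [up] using e))
  have u2 : ∀ i j, up hm i ≠ (up hm j).rev := fun i j e => by
    have := congrArg Fin.val e
    simp only [up, Fin.val_rev] at this
    omega
  have u3 : ∀ i, ∃ k, i = up hm k ∨ i = (up hm k).rev := fun i => by
    by_cases h : i.val < m + 2
    · exact ⟨⟨i, h⟩, .inl rfl⟩
    · exact ⟨⟨n - i, by omega⟩, .inr (Fin.ext (by simp only [up, Fin.val_rev]; omega))⟩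
  have t1 : ∀ i (c : F), TT (c • ev i) ∈ A := fun i c => by
    obtain ⟨k, hk⟩ := u3 i
    by_cases e : k = Fin.last _
    · rcases hk with rfl | rfl <;> rw [TT_smul, e]
      exacts [h2 _, h3 _]
    have e' := u1 _ _ e
    rcases hk with rfl | rfl
    · refine mv _ (h1 _ k 1 (Ne.symm e)) _ _ (mv _ (h1 k _ 1 e) _ _ (by rw [TT_smul c]; exact h2 _)
        (acs _ _ _ _ e')) ((acs _ _ _ _ e'.symm).trans ?_)
      simp [ev_apply, e', e'.symm, u2, (u2 _ _).symm, add_right_comm _ (c • ev _)]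
    · refine mv _ (h1 k _ 1 e) _ _ (mv _ (h1 _ k 1 (Ne.symm e)) _ _ (by rw [TT_smul c]; exact h3 _)
        (acs _ _ _ _ e'.symm)) ((acs _ _ _ _ e').trans ?_)
      simp [ev_apply, e', e'.symm, u2, (u2 _ _).symm, add_right_comm _ (c • ev _)]
  have t2 : ∀ v i (a : F), TT v ∈ A → v i.rev ≠ 0 → TT (v + a • ev i) ∈ A := fun v i a hv h =>
    mv _ (t1 i (rt (a / v i.rev))) _ _ hv (by
      rw [TT_smul, rt_sq, ac_Tc', hf_ev_right, div_mul_cancel₀ _ h])
  have rv : ∀ i : Fin (n + 1), i.rev ≠ i := fun i e => by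
    have := congrArg Fin.val e
    simp only [Fin.val_rev] at this
    omega
  have fl : ∀ i j : Fin (n + 1), j ≠ i → j ≠ i.rev → (∀ a b : F, TT (a • ev i + b • ev j) ∈ A) →
      ∀ a b : F, TT (b • ev j + a • ev i.rev) ∈ A := fun i j e e' h a b => by
    by_cases ha : a = 0
    · simpa [ha] using t1 j b
    have := t2 _ i a (t2 _ i.rev a (h a b) (by simp [ev_apply, ha, e.symm]))
      (by simp [ev_apply, ha, e'.symm, rv])
    convert this using 2
    ext k
    simp only [Pi.add_apply, Pi.smul_apply, smul_eq_mul]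
    grind
  have t3 : ∀ i j, i ≠ j → ∀ a b : F, TT (a • ev (up hm i) + b • ev (up hm j)) ∈ A :=
    fun i j e a b => by
      by_cases hb : b = 0
      · simpa [hb] using t1 _ a
      refine mv _ (h1 i j (a / b) e) _ _ (t1 (up hm j) b) ((acs _ _ _ _ (u1 _ _ e)).trans ?_)
      simp [ev_apply, (u2 _ _).symm, hb, add_comm]
  have t4 : ∀ i j : Fin (n + 1), j ≠ i → j ≠ i.rev → ∀ a b : F, TT (a • ev i + b • ev j) ∈ A :=
    fun i j e e' a b => by
      obtain ⟨k, hk⟩ := u3 i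
      obtain ⟨l, hl⟩ := u3 j
      have kl : k ≠ l := by
        rintro rfl
        rcases hk with rfl | rfl <;> rcases hl with rfl | rfl <;> simp at e e'
      have f1 := fl _ _ (u1 _ _ kl.symm) (u2 _ _) (t3 k l kl)
      rcases hk with rfl | rfl <;> rcases hl with rfl | rfl
      · exact t3 k l kl a b
      · exact fl _ _ (u1 _ _ kl) (u2 _ _) (t3 l k kl.symm) b a
      · rw [add_comm (a • ev _)]; exact f1 a b
      · exact fl _ _ (u2 _ _).symm (by simpa using u1 _ _ kl) (fun a b => f1 b a) b a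
  have key : ∀ s : Finset (Fin (n + 1)), ∀ v : Vn n F, (∀ i ∉ s, v i = 0) → TT v ∈ A := by
    intro s
    induction s using Finset.induction with
    | empty => exact fun v hv => by rw [show v = 0 from funext fun i => hv i (by simp)]; simp
    | insert i s _ ih =>
      intro v hv
      obtain ⟨w, a, w1, w2, rfl⟩ : ∃ (w : Vn n F) (a : F), TT w ∈ A ∧ w i = 0 ∧ v = w + a • ev i :=
        ⟨v + v i • ev i, v i, ih _ fun j hj => by
          by_cases e : j = i
          · simp [e, ev_apply, CharTwo.add_self_eq_zero]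
          · simp [e, ev_apply, hv j (by simp [e, hj])],
          by simp [ev_apply, CharTwo.add_self_eq_zero], by simp [add_assoc]⟩
      by_cases w3 : w i.rev = 0
      · by_cases w4 : w = 0
        · simpa [w4] using t1 i a
        obtain ⟨j, hj⟩ := Function.ne_iff.1 w4
        have e : i ≠ j := by rintro rfl; exact hj w2
        have e' : i ≠ j.rev := by rintro rfl; exact hj (by simpa using w3)
        have : ss i j (a / w j) ∈ A := by
          rw [ss, qq_eq_TT (pp (by simp [hf_smul_right', hf_ev, e]))]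
          exact mul_mem (mul_mem (by simpa using t4 j.rev i e' (by simpa using e) 1 (a / w j))
            (by simpa using t1 j.rev 1)) (t1 i _)
        refine mv _ this _ _ w1 ((acs _ _ _ _ e).trans ?_)
        rw [w3, mul_zero, zero_smul, add_zero, div_mul_cancel₀ _ hj]
      · exact t2 w i a w1 w3
  exact H54.SPF.genT A fun v => key Finset.univ v (by simp)

theorem jobFY : JobFY := fun _ _ _ _ _ _ _ _ _ _ x =>
  ⟨perf x, fun _ => gen x, fun m hm _ => genL m hm⟩

end H62.SP2FY
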