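import Cfsg.Agent.H62.SP2FY

/-! STD-SP chapter II, slot P2b (`q = 2`): the images of the transvections modulo `⟨t⟩ Q₂`. -/

set_option autoImplicit false
set_option linter.unusedSectionVars false
set_option linter.unusedSimpArgs false

namespace H62.SP2P2b

open H64.SG (Cz Cs Ns)
open H67.UA hiding Par
open H67.SP H78.S2 H62.SP2FY
open H86.SPI (ok pp hf_self hf_comm hf_smul_right' ac_TT TT_conj TT_sq)
open H54.SPI (hf_move exists_hf TT_fix add_eq_iff)
open H54.SPF (hf_evv v1 m1)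
open H98 (conj_mem_of_mem_normalizer)
open Matrix Subgroup

universe u

variable {n : ℕ} {F : Type} [Field F] [StarRing F] [TrivialStar F] [CharP F 2] [Finite F]
  [p : Par n F] [FV n F]

theorem wk_add {a b : Vn n F} (h : Wk 2 a) (h' : Wk 2 b) : Wk 2 (a + b) := fun i hi => by
  rw [Pi.add_apply, h i hi, h' i hi, add_zero]

theorem pl_iff (x : FX n F) {y : Vn n F} : Wk (n + 1 - 2) y ↔ Pl y := by
  rw [FV.wk_perp 2 (by have := p.five; omega)]
  exact ⟨fun h => ⟨h _ ((x.wk _).2 ⟨1, 0, by simp⟩), h _ ((x.wk _).2 ⟨0, 1, by simp⟩)⟩,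
    fun h _ hw => hf_Pl x h hw⟩

theorem fixP (x : FX n F) {b : XU n F} (hb : b ∈ P2 n F) {m : Vn n F} (hm : Wk 2 m) : ac b m = m := by
  obtain ⟨a, c, rfl⟩ := (x.wk m).1 hm
  rw [ac_add, ac_smul, ac_smul, mem_Stab.1 hb.1, mem_Stab.1 hb.2]

theorem memQ (x : FX n F) {g : XU n F} :
    g ∈ Qk n F 2 ↔ g ∈ P2 n F ∧ ∀ v, Pl v → Wk 2 (ac g v + v) := by
  rw [FV.mem_Qk 2 (by have := p.five; omega)]
  simp only [pl_iff x]
  exact and_congr_left' ⟨fun h => ⟨h _ ((x.wk _).2 ⟨1, 0, by simp⟩), h _ ((x.wk _).2 ⟨0, 1, by simp⟩)⟩,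
    fun h _ hm => fixP x h hm⟩

theorem pl_move {b : XU n F} (hb : b ∈ P2 n F) (v : Vn n F) : Pl (ac b v + v) :=
  ⟨hf_move hb.1 v, hf_move hb.2 v⟩

theorem nsQ (x : FX n F) {b : XU n F} (hb : b ∈ P2 n F) : b ∈ Ns (Qk n F 2) :=
  (x.nrm b (by rw [mem_Stab.1 hb.1]; exact (x.wk _).2 ⟨1, 0, by simp⟩)
    (by rw [mem_Stab.1 hb.2]; exact (x.wk _).2 ⟨0, 1, by simp⟩)).1

theorem TT_P {y : Vn n F} (h : Pl y) : TT y ∈ P2 n F := ⟨TT_fix (hf_symm h.1), TT_fix (hf_symm h.2)⟩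

/-- A vector orthogonal to `ℓ^⊥` lies in `ℓ`. -/
theorem wk_of {m : Vn n F} (h : ∀ i : Fin (n + 1), i.val + 2 ≤ n → hf m (ev i) = 0) : Wk 2 m :=
  fun i hi => by simpa [hf_ev_right] using h i.rev (by have := i.2; simp only [Fin.val_rev]; omega)

theorem pl_ev {i : Fin (n + 1)} (h : i.val + 2 ≤ n) : Pl (ev i : Vn n F) := by
  have := p.five
  constructor <;> simp [hf_evv, m1 this] <;> omega

theorem exists_pl {y : Vn n F} (h : ¬ Wk 2 y) : ∃ v, Pl v ∧ hf y v ≠ 0 := by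
  obtain ⟨i, hi⟩ := not_forall.1 fun k => h (wk_of k)
  exact ⟨_, pl_ev (Classical.not_imp.1 hi).1, (Classical.not_imp.1 hi).2⟩

theorem zo (h : Nat.card F = 2) (c : F) : c = 0 ∨ c = 1 := by
  have := Fintype.ofFinite F
  have h1 := FiniteField.pow_card c
  rw [← Nat.card_eq_fintype_card, h] at h1
  grind

/-- The class of a transvection under `Q₂` has at most four elements. -/
theorem four (x : FX n F) (h : Nat.card F = 2) {y : Vn n F} (hy : Pl y) (s : Fin 3 × Fin 3 → XU n F)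
    (hs : ∀ i, s i ∈ Qk n F 2) : ∃ i j, i ≠ j ∧ s i * TT y * (s i)⁻¹ = s j * TT y * (s j)⁻¹ := by
  have := Fintype.ofFinite F
  obtain ⟨i, j, e, h1⟩ := Fintype.exists_ne_map_eq_of_card_lt (fun i => (ac (s i) y 0, ac (s i) y 1))
    (by rw [Fintype.card_prod, ← Nat.card_eq_fintype_card, h]; simp)
  refine ⟨i, j, e, ?_⟩
  rw [TT_conj, TT_conj]
  congr 1
  ext k
  by_cases k0 : k = 0
  · rw [k0]; exact congrArg Prod.fst h1
  by_cases k1 : k = 1
  · rw [k1]; exact congrArg Prod.snd h1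
  have k2 : 2 ≤ k.val := by
    rw [Fin.ext_iff, v1 p.five] at k1
    rw [Fin.ext_iff, Fin.val_zero] at k0
    omega
  have a := ((memQ x).1 (hs i)).2 y hy k k2
  have b := ((memQ x).1 (hs j)).2 y hy k k2
  exact add_right_cancel (a.trans b.symm)

theorem mod_l (x : FX n F) {a a' b : XU n F} (ha : a ∈ Qk n F 2) (ha' : a' ∈ Qk n F 2)
    (hb : b ∈ P2 n F) (h : a * b * a⁻¹ = a' * b * a'⁻¹) {f w : Vn n F}
    (hw : Wk 2 (ac a f + ac a' f + w)) : Wk 2 (ac b w + w) := by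
  have two := two0 F
  have hc := (memQ x).1 (mul_mem (inv_mem ha') ha)
  have e : a'⁻¹ * a * b = b * (a'⁻¹ * a) := by
    calc _ = a'⁻¹ * (a * b * a⁻¹) * a := by group
      _ = _ := by rw [h]; group
  have e1 : ac a' (ac (a'⁻¹ * a) f) = ac a f := by rw [← ac_mul, mul_inv_cancel_left]
  generalize a'⁻¹ * a = c at hc e e1
  have h1 := hc.2 _ (pl_move hb f)
  have h2 := ((memQ x).1 ha').2 _ (pl_move hc.1 f)
  rw [ac_add, e1] at h2
  rw [ac_add, ← ac_mul, e, ac_mul] at h1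
  have h3 : Wk 2 (ac c f + f + w) := fun i hi => by
    have := h2 i hi
    have := hw i hi
    simp only [Pi.add_apply] at *
    grind
  have h4 := fixP x hb h3
  intro i hi
  have := h1 i hi
  have := congrFun h4 i
  simp only [ac_add, Pi.add_apply] at *
  grind

theorem s_mem (x : FX n F) {v v' : Vn n F} (h : Pl v) (h' : Pl v') :
    qq v (ev 0) * qq v' (ev 1) ∈ Qk n F 2 := (x.nf _).2 ⟨v, v', h, h', 1, one_mem _, by simp⟩

theorem s_ac {v v' : Vn n F} (h : Pl v) (h' : Pl v') :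
    Wk 2 (ac (qq v (ev 0) * qq v' (ev 1)) (ev (0 : Fin (n + 1)).rev) + ev (0 : Fin (n + 1)).rev + v) ∧
    Wk 2 (ac (qq v (ev 0) * qq v' (ev 1)) (ev (1 : Fin (n + 1)).rev) + ev (1 : Fin (n + 1)).rev + v') := by
  have two := two0 F
  have h5 := p.five
  have e : (0 : Fin (n + 1)) ≠ 1 := by simp [Fin.ext_iff, m1 h5]
  have e1 : hf (ev 1 : Vn n F) (ev 0) = 0 := by simp [hf_evv, m1 h5]; omega
  constructor <;> intro i hi <;>
    have i0 : i ≠ 0 := (by rintro rfl; simp at hi) <;>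
    have i1 : i ≠ 1 := (by rintro rfl; rw [v1 h5] at hi; omega) <;>
    simp only [ac_mul, ac_qq' h.1, ac_qq' h'.2, hf_add_left, hf_smul_left, e1, h'.1, hf_ev, Fin.rev_rev,
      Pi.add_apply, Pi.smul_apply, smul_eq_mul, ev_apply 0, ev_apply 1, i0, i1, e, e.symm, if_true,
      if_false] <;> grind

/-- An element of `P` whose class under `Q₂` is small is a transvection modulo `Q₂`. -/
theorem tv (x : FX n F) (h : Nat.card F = 2) {b : XU n F} (hb : b ∈ P2 n F) (h1 : b ∉ Qk n F 2)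
    (h2 : ∀ s : Fin 3 × Fin 3 → XU n F, (∀ i, s i ∈ Qk n F 2) →
      ∃ i j, i ≠ j ∧ s i * b * (s i)⁻¹ = s j * b * (s j)⁻¹) :
    ∃ y, Og y ∧ ∃ a ∈ Qk n F 2, b = TT y * a := by
  have two := two0 F
  obtain ⟨v₁, p1, p2⟩ : ∃ v, Pl v ∧ ¬ Wk 2 (ac b v + v) := by
    by_contra! k
    exact h1 ((memQ x).2 ⟨hb, k⟩)
  have hy : Og (ac b v₁ + v₁) := ⟨pl_move hb _, p2⟩
  have k1 : ∀ v, Pl v → ∃ φ : F, Wk 2 (ac b v + v + φ • (ac b v₁ + v₁)) := fun v hv => by
    by_contra! k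
    let w : Fin 3 → Vn n F := ![0, v₁, v]
    have hw : ∀ i, Pl (w i) := fun i => by
      fin_cases i
      exacts [⟨hf_zero_left _, hf_zero_left _⟩, p1, hv]
    have k0 : ¬ Wk 2 (ac b v + v) := by simpa using k 0
    have k2 : ¬ Wk 2 (ac b (v + v₁) + (v + v₁)) := by
      have := k 1
      rwa [one_smul, add_add_add_comm, ← ac_add] at this
    have hi : ∀ i j, Wk 2 (ac b (w i + w j) + (w i + w j)) → i = j := fun i j => by
      fin_cases i <;> fin_cases j <;> simp [w, k0, k2, p2, add_comm v₁ v]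
    obtain ⟨i, j, e, h3⟩ := h2 (fun i => qq (w i.1) (ev 0) * qq (w i.2) (ev 1))
      fun i => s_mem x (hw _) (hw _)
    have k3 := fun f w => mod_l x (s_mem x (hw _) (hw _)) (s_mem x (hw _) (hw _)) hb h3 (f := f) (w := w)
    refine e (Prod.ext (hi _ _ (k3 (ev (0 : Fin (n + 1)).rev) _ fun l hl => ?_))
      (hi _ _ (k3 (ev (1 : Fin (n + 1)).rev) _ fun l hl => ?_)))
    · have a1 := (s_ac (hw i.1) (hw i.2)).1 l hl
      have a2 := (s_ac (hw j.1) (hw j.2)).1 l hl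
      simp only [Pi.add_apply] at a1 a2 ⊢
      linear_combination a1 + a2 - ev (0 : Fin (n + 1)).rev l * two
    · have a1 := (s_ac (hw i.1) (hw i.2)).2 l hl
      have a2 := (s_ac (hw j.1) (hw j.2)).2 l hl
      simp only [Pi.add_apply] at a1 a2 ⊢
      linear_combination a1 + a2 - ev (1 : Fin (n + 1)).rev l * two
  obtain ⟨y, e⟩ : ∃ y, ac b v₁ = v₁ + y := ⟨ac b v₁ + v₁, by rw [add_left_comm, v_add_self, add_zero]⟩
  rw [e, add_right_comm, v_add_self, zero_add] at hy k1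
  have k2 : ∀ v, Pl v → ∀ φ : F, Wk 2 (ac b v + v + φ • y) →
      hf y v = φ * hf v₁ y ∧ hf (ac b v) y = hf y v := fun v hv φ hφ => by
    have a1 := hf_ac b v₁ v
    have a2 := hf_Pl x p1 hφ
    have a3 := hf_Pl x hy.1 hφ
    rw [e] at a1
    simp only [hf_add_left, hf_add_right, hf_smul_right', hf_self, hf_comm (ac b v) y] at *
    grind
  have k3 : hf v₁ y = 1 := by
    obtain ⟨v, hv, a⟩ := exists_pl hy.2
    obtain ⟨φ, hφ⟩ := k1 v hv
    exact (zo h _).resolve_left fun k => a (by rw [(k2 v hv φ hφ).1, k, mul_zero])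
  refine ⟨y, hy, TT y * b, (memQ x).2 ⟨mul_mem (TT_P hy.1) hb, fun v hv => ?_⟩,
    by rw [← mul_assoc, TT_sq, one_mul]⟩
  obtain ⟨φ, hφ⟩ := k1 v hv
  obtain ⟨a1, a2⟩ := k2 v hv φ hφ
  rwa [ac_mul, ac_TT, a2, a1, k3, mul_one, add_right_comm]

theorem sq_iff (x : FX n F) (h : Nat.card F = 2) {y y' : Vn n F} (hy : Pl y') :
    TT y * TT y' * (TT y * TT y') ∈ Qk n F 2 ↔ hf y y' = 0 := by
  refine ⟨fun k => (zo h _).resolve_right fun e => ?_, fun e => ?_⟩
  · have := hf_Pl x hy (((memQ x).1 k).2 _ hy)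
    simp [ac_mul, ac_TT, hf_add_left, hf_add_right, hf_smul_left, hf_smul_right', hf_self,
      hf_comm y' y, e, add_assoc, CharTwo.add_self_eq_zero] at this
  · have := TT_conj (TT y) y'
    rw [TT_fix (hf_symm e), inv_eq_of_mul_eq_one_right (TT_sq y)] at this
    rw [← mul_assoc, this, TT_sq]
    exact one_mem _

theorem sq_mod {X : Type*} [Group X] {Q : Subgroup X} {a b c d : X} (ha : a ∈ Ns Q) (hb : b ∈ Ns Q)
    (hc : c ∈ Q) (hd : d ∈ Q) : a * c * (b * d) * (a * c * (b * d)) ∈ Q ↔ a * b * (a * b) ∈ Q := by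
  have h1 := mul_mem (conj_mem_of_mem_normalizer (inv_mem hb) hc) hd
  rw [show a * c * (b * d) * (a * c * (b * d)) = a * b * (a * b) *
    ((a * b)⁻¹ * (b⁻¹ * c * b⁻¹⁻¹ * d) * (a * b)⁻¹⁻¹ * (b⁻¹ * c * b⁻¹⁻¹ * d)) by group]
  exact mul_mem_cancel_right (mul_mem (conj_mem_of_mem_normalizer (inv_mem (mul_mem ha hb)) h1) h1)

variable {G : Type u} [Group G] {e : XU n F →* G} {t : G}

theorem Te.mul (v : BV e t) {g g' : G} {a a' : XU n F} (h : Te e t g a) (h' : Te e t g' a') :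
    Te e t (g * g') (a * a') := by
  rcases h with rfl | rfl <;> rcases h' with rfl | rfl <;> rw [Te, map_mul]
  · exact .inl rfl
  · exact .inr (by rw [← mul_assoc, ← v.cen, mul_assoc])
  · exact .inr (mul_assoc ..)
  · exact .inl (by rw [mul_assoc, ← mul_assoc (e a), ← v.cen, ← mul_assoc, ← mul_assoc, v.tt, one_mul])

theorem Te.sq (v : BV e t) {g : G} {a : XU n F} (h : Te e t g a) : g * g = e (a * a) := by
  rcases h with rfl | rfl <;> rw [map_mul]
  rw [mul_assoc, ← mul_assoc (e a), ← v.cen, ← mul_assoc, ← mul_assoc, v.tt, one_mul]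

theorem Te.cj (v : BV e t) {g : G} {a : XU n F} (h : Te e t g a) (s : XU n F) :
    Te e t (e s * g * (e s)⁻¹) (s * a * s⁻¹) := by
  simpa using Te.mul v (Te.mul v (.inl rfl) h) (.inl rfl : Te e t _ s⁻¹)

theorem Te.uq (v : BV e t) {g : G} {a a' : XU n F} (h : Te e t g a) (h' : Te e t g a') : a = a' := by
  rcases h with rfl | rfl <;> rcases h' with h | h
  · exact v.inj h
  · exact absurd (by rw [map_mul, map_inv, h, mul_inv_cancel_right]) (v.ne (a * a'⁻¹))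
  · exact absurd (by rw [map_mul, map_inv, ← h, mul_inv_cancel_right]) (v.ne (a' * a⁻¹))
  · exact v.inj (mul_left_cancel h)

theorem jobP2b : JobP2b.{u} := fun n F _ _ _ _ _ p G _ _ e t b _ x _ v k h g g1 g2 => by
  have h5 := p.five
  have gi := k.inv g g1
  have qi : ∀ a a', g * e a * g⁻¹ = e a' → (a ∈ Qk n F 2 ↔ a' ∈ Qk n F 2) := fun a a' e1 =>
    ⟨fun ha => let ⟨_, h1, h2⟩ := k.qq g g1 a ha; v.inj (e1.symm.trans h2) ▸ h1, fun ha => by
      obtain ⟨c, h1, h2⟩ := k.qq _ gi a' ha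
      rwa [v.inj (show e a = e c by rw [← h2, ← e1]; group)]⟩
  have k1 : ∀ y, Og y → ∃ y', Og y' ∧ ∃ a ∈ Qk n F 2, Te e t (g * e (TT y) * g⁻¹) (TT y' * a) :=
    fun y hy => by
      obtain ⟨b', b1, b2⟩ := k.pp g g1 _ (TT_P hy.1)
      obtain ⟨y', y1, a, ha, rfl⟩ := tv x h b1 (fun hb => by
        rcases b2 with b2 | b2
        · obtain ⟨w, w1, w2⟩ := exists_pl hy.2
          have := ((memQ x).1 ((qi _ _ b2).2 hb)).2 w w1
          rw [ac_TT, hf_comm, (zo h _).resolve_left w2, one_smul, add_right_comm, v_add_self,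
            zero_add] at this
          exact hy.2 this
        · obtain ⟨c, hc⟩ := gi.tz
          obtain ⟨a, -, ha⟩ := k.qq _ gi _ hb
          refine v.ne (TT y * a⁻¹ * (zs c)⁻¹) ?_
          rw [map_mul, map_mul, map_inv, map_inv, ← ha, eq_mul_inv_iff_mul_eq, ← hc,
            eq_mul_inv_iff_mul_eq, show e (TT y) = g⁻¹ * (g * e (TT y) * g⁻¹) * g by group, b2]
          group) fun s hs => by
        choose s' s1 s2 using fun i => k.qq _ gi _ (hs i)
        obtain ⟨i, j, e1, e2⟩ := four x h hy.1 s' s1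
        refine ⟨i, j, e1, Te.uq v (Te.cj v b2 (s i)) ?_⟩
        have e3 := congrArg (fun a => g * e a * g⁻¹) e2
        simp only [map_mul, map_inv, ← s2] at e3
        convert Te.cj v b2 (s j) using 1
        calc _ = _ := by group
          _ = _ := e3
          _ = _ := by group
      exact ⟨y', y1, a, ha, b2⟩
  choose! f f1 a a1 a2 using k1
  have k2 : ∀ y y', Og y → Og y' → hf (f y) (f y') = hf y y' := fun y y' hy hy' => by
    have e1 := Te.sq v (Te.mul v (a2 y hy) (a2 y' hy'))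
    have e2 := qi (TT y * TT y' * (TT y * TT y')) _ (Eq.trans (by simp only [map_mul]; group) e1)
    rw [sq_mod (nsQ x (TT_P (f1 y hy).1)) (nsQ x (TT_P (f1 y' hy').1)) (a1 y hy) (a1 y' hy'),
      sq_iff x h hy'.1, sq_iff x h (f1 y' hy').1] at e2
    rcases zo h (hf y y') with e3 | e3
    · rw [e3, e2.1 e3]
    · rw [e3]; exact (zo h _).resolve_left fun e4 => by simp [e2.2 e4] at e3
  have k3 : ∀ i, W0 (ev i : Vn n F) → Og (ev i : Vn n F) := fun i hi => ⟨hi.1, fun hw => by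
    obtain ⟨c, d, e1⟩ := (x.wk _).1 hw
    have e2 := hi.2.1
    have e3 := hi.2.2
    rw [e1] at e2 e3
    simp [ev_apply, Fin.ext_iff, m1 h5] at e2 e3
    exact ev_ne i (by rw [e1, e2, e3]; simp)⟩
  obtain ⟨r, r1, r2⟩ := x.bas (fun i => f (ev i)) (fun i hi => (f1 _ (k3 i hi)).1)
    fun i j hi hj => k2 _ _ (k3 i hi) (k3 j hj)
  have ri := inv_mem r1
  refine ⟨e r⁻¹ * g, k.mul _ _ (k.ofX _ (by rw [mem_Stab.1 ri.1]; exact (x.wk _).2 ⟨1, 0, by simp⟩)
    (by rw [mem_Stab.1 ri.2]; exact (x.wk _).2 ⟨0, 1, by simp⟩)) g1, fun e1 => g2 ?_, fun y hy => ?_⟩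
  · calc _ = (e r⁻¹)⁻¹ * (e r⁻¹ * g * t * (e r⁻¹ * g)⁻¹) * e r⁻¹ := by group
      _ = _ := by rw [e1, mul_assoc, v.cen, inv_mul_cancel_left]
  · have m0 : Pl (ac r⁻¹ (f y) + y) := by
      have := Pl.add (Pl.add (pl_move ri (f y)) (f1 y hy).1) hy.1
      rwa [add_assoc (ac r⁻¹ (f y)), v_add_self, add_zero] at this
    have m1 : Wk 2 (ac r⁻¹ (f y) + y) := wk_of fun i hi => by
      by_cases i0 : i = 0
      · exact i0 ▸ m0.1
      by_cases i1 : i = 1
      · exact i1 ▸ m0.2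
      have w : W0 (ev i : Vn n F) :=
        ⟨pl_ev hi, by simp [ev_apply, Ne.symm i0], by simp [ev_apply, Ne.symm i1]⟩
      rw [hf_add_left, hf_ac_left, inv_inv, r2 i w, k2 _ _ hy (k3 i w), CharTwo.add_self_eq_zero]
    have m2 := TT_TT (hf_Pl x hy.1 m1)
    have m3 := FV.EE_Q 2 (by have := p.five; omega) _ _ 1 m1 ((pl_iff x).2 hy.1)
    rw [← m2, add_left_comm, v_add_self, add_zero] at m3
    refine ⟨_, mul_mem m3 (conj_mem_of_mem_normalizer (nsQ x ri) (a1 y hy)), ?_⟩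
    convert Te.cj v (a2 y hy) r⁻¹ using 1
    · group
    · rw [← mul_assoc, ← mul_assoc (TT y), TT_sq, one_mul, ← TT_conj]; group

end H62.SP2P2b
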