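import Cfsg.Agent.H62.SP3W
import Cfsg.Agent.H59.S3ML1

/-! STD-SP chapter III, slot ML1. -/

set_option autoImplicit false

namespace H62.SP3W

theorem jobML1 : H67.SP.JobML1 := fun _ _ _ _ _ _ _ _ _ ε => ⟨_, H59.S3ML1.ml1_of ε w1 w2⟩

end H62.SP3W
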