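import Cfsg.Agent.H67.SPIII
import Cfsg.Agent.H59.UMFW

/-! STD-SP chapter III, slot PN: the graph on the vectors of norm one. -/

set_option autoImplicit false
set_option linter.unusedSectionVars false

namespace H62.SP3PN

open H67 H67.UA H67.SP Module H59 H59.UM

variable {n : ℕ} {K : Type} [Field K] [StarRing K] [CharP K 2] [Finite K] [hp : UA.Par n K]

/-- a hyperbolic pair perpendicular to three given vectors -/
theorem hypPair (h6 : 6 ≤ n) (a b c : Vn n K) (ha : hf a a = 1) :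
    ∃ p q : Vn n K, hf p p = 0 ∧ hf q q = 0 ∧ hf p q = 1 ∧ hf p a = 0 ∧ hf p b = 0 ∧ hf p c = 0 ∧
      hf q a = 0 ∧ hf q b = 0 ∧ hf q c = 0 := by
  set W := Submodule.span K (Set.range ![a, b, c]) with hW
  have h1 : finrank K W ≤ 3 := by
    have h2 := finrank_range_le_card (R := K) ![a, b, c]
    rwa [Set.finrank, Fintype.card_fin, ← hW] at h2
  have hm : ∀ i, ![a, b, c] i ∈ W := fun i => Submodule.subset_span ⟨i, rfl⟩
  have h0 : perp (BB n K) W ⊓ W < W := lt_of_le_of_ne inf_le_right fun e => by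
    have h : a ∈ perp (BB n K) W ⊓ W := by rw [e]; exact hm 0
    exact one_ne_zero (ha.symm.trans (h.1 _ (hm 0)))
  have h7 := Submodule.finrank_lt_finrank_of_lt h0
  obtain ⟨C, hC⟩ := (perp (BB n K) W ⊓ W).exists_isCompl
  have h2 := Submodule.finrank_add_eq_of_isCompl hC
  have h3 := (herm n K).finrank_add_finrank_perp W
  have h4 := Submodule.finrank_sup_add_finrank_inf_eq (perp (BB n K) W) C
  have h5 := Submodule.finrank_le (perp (BB n K) W ⊔ C)
  rw [finrank_Vn] at h2 h3 h5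
  obtain ⟨p, hp1, p0, pi⟩ := (herm n K).exists_isotropic_mem (W := perp (BB n K) W ⊓ C) (by omega)
  have hpW : p ∉ W := fun h => p0 (Submodule.disjoint_def.1 hC.disjoint _ ⟨hp1.1, h⟩ hp1.2)
  obtain ⟨d, hd, hd0⟩ := (herm n K).exists_perp_ne_zero hpW
  obtain ⟨q, q1, q2, s, t, rfl⟩ := (herm n K).exists_isotropic_partner pi hd0
  have hq : s • p + t • d ∈ perp (BB n K) W :=
    add_mem (Submodule.smul_mem _ _ hp1.1) (Submodule.smul_mem _ _ hd)
  refine ⟨p, _, pi, q2, ?_, hp1.1 _ (hm 0), hp1.1 _ (hm 1), hp1.1 _ (hm 2), hq _ (hm 0),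
    hq _ (hm 1), hq _ (hm 2)⟩
  rw [← star_hf, show hf (s • p + t • d) p = 1 from q1, star_one]

omit [Finite K] hp in
theorem avoid [Hf K] (a b c : K) : ∃ s : K, s ≠ a ∧ s ≠ b ∧ s ≠ c := by
  obtain ⟨w, hw⟩ := (inferInstance : Hf K).ne
  by_contra! h
  have k : ∀ s : K, s = a ∨ s = b ∨ s = c := fun s => by
    by_contra! h'
    exact h'.2.2 (h s h'.1 h'.2.1)
  have h0 : w ≠ 0 := fun e => hw (by rw [e, star_zero])
  have h1 : w ≠ 1 := fun e => hw (by rw [e, star_one])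
  have h2 : star w ≠ 0 := star_ne_zero.2 h0
  have h3 : star w ≠ 1 := fun e => h1 (by rw [← star_star w, e, star_one])
  have h4 : (0 : K) ≠ 1 := zero_ne_one
  have := k 0
  have := k 1
  have := k w
  have := k (star w)
  grind

omit [CharP K 2] [Finite K] hp in
theorem hf_one {x y : Vn n K} (h : hf x y = 1) : hf y x = 1 := by rw [← star_hf, h, star_one]

omit [CharP K 2] [Finite K] hp in
theorem RN_symm {x y : Vn n K} (h : RN x y) : RN y x := ⟨h.2.1, h.1, hf_one h.2.2⟩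

omit [Finite K] hp in
/-- `x + W` is adjacent to `x` for isotropic `W ⊥ x` -/
theorem nm_add {x W : Vn n K} (hx : hf x x = 1) (h1 : hf W x = 0) (h2 : hf W W = 0) :
    hf (x + W) (x + W) = 1 := by
  simp only [hf_add_left, hf_add_right, hx, h1, h2, hf_symm h1, add_zero]

theorem pth (h6 : 6 ≤ n) : Pth (RN (n := n) (K := K)) := by
  intro x₀ x₁ x₂ x₃ x₄ ⟨n0, n1, h01⟩ ⟨_, n2, h12⟩ ⟨_, n3, h23⟩ ⟨_, n4, h34⟩
  by_cases c0 : hf x₀ x₂ = 1
  · exact Or.inl ⟨n0, n2, c0⟩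
  by_cases d0 : hf x₂ x₄ = 1
  · exact Or.inr (Or.inl ⟨n2, n4, d0⟩)
  refine Or.inr (Or.inr ?_)
  have t2 := two0 K
  have hc : 1 + hf x₂ x₀ ≠ 0 := fun e => c0 (hf_one (by linear_combination e - t2))
  have hd : 1 + hf x₂ x₄ ≠ 0 := fun e => d0 (by linear_combination e - t2)
  obtain ⟨p, q, pp, qq, pq, p2, p1, p3, q2, q1, q3⟩ := hypPair h6 x₂ x₁ x₃ n2
  obtain ⟨s, s0, s1, s2⟩ := avoid 0 ((1 + hf x₂ x₀) / hf p x₀)
    ((1 + hf x₁ x₃) * star (hf q x₄) / star (1 + hf x₂ x₄))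
  have h10 := hf_one h01
  have h21 := hf_one h12
  have h32 := hf_one h23
  have e1 : 1 + hf x₂ x₀ + s * hf p x₀ ≠ 0 := fun e => by
    by_cases h : hf p x₀ = 0
    · exact hc (by simpa [h] using e)
    · exact s1 (by rw [eq_div_iff h]; linear_combination e - (1 + hf x₂ x₀) * t2)
  obtain ⟨r, hr⟩ : ∃ r : K, s * star r = 1 + hf x₁ x₃ :=
    ⟨star ((1 + hf x₁ x₃) / s), by rw [star_star]; field_simp⟩
  have e2 : 1 + hf x₂ x₄ + r * hf q x₄ ≠ 0 := fun e => s2 (by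
    have e' := congrArg star e
    rw [star_add, star_mul', star_zero] at e'
    rw [eq_div_iff (star_ne_zero.2 hd), ← hr]
    linear_combination s * e' - s * star r * star (hf q x₄) * t2)
  obtain ⟨μ, hμ⟩ : ∃ μ : K, μ * (1 + hf x₂ x₀ + s * hf p x₀) = 1 + hf x₂ x₀ :=
    ⟨_, div_mul_cancel₀ _ e1⟩
  obtain ⟨ν, hν⟩ : ∃ ν : K, ν * (1 + hf x₂ x₄ + r * hf q x₄) = 1 + hf x₂ x₄ :=
    ⟨_, div_mul_cancel₀ _ e2⟩
  have a2 : hf (μ • (x₁ + x₂ + s • p)) x₂ = 0 := by
    simp only [hf_add_left, hf_smul_left, h12, n2, p2]; linear_combination μ * t2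
  have a1 : hf (μ • (x₁ + x₂ + s • p)) x₁ = 0 := by
    simp only [hf_add_left, hf_smul_left, h21, n1, p1]; linear_combination μ * t2
  have ap : hf (μ • (x₁ + x₂ + s • p)) p = 0 := by
    simp only [hf_add_left, hf_smul_left, hf_symm p2, hf_symm p1, pp]; ring
  have a0 : hf (μ • (x₁ + x₂ + s • p)) x₀ = 1 + hf x₂ x₀ := by
    simp only [hf_add_left, hf_smul_left, h10]; exact hμ
  have b2 : hf (ν • (x₃ + x₂ + r • q)) x₂ = 0 := by
    simp only [hf_add_left, hf_smul_left, h32, n2, q2]; linear_combination ν * t2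
  have b3 : hf (ν • (x₃ + x₂ + r • q)) x₃ = 0 := by
    simp only [hf_add_left, hf_smul_left, h23, n3, q3]; linear_combination ν * t2
  have bq : hf (ν • (x₃ + x₂ + r • q)) q = 0 := by
    simp only [hf_add_left, hf_smul_left, hf_symm q2, hf_symm q3, qq]; ring
  have b4 : hf (ν • (x₃ + x₂ + r • q)) x₄ = 1 + hf x₂ x₄ := by
    simp only [hf_add_left, hf_smul_left, h34]; exact hν
  have ab : hf (μ • (x₁ + x₂ + s • p)) (ν • (x₃ + x₂ + r • q)) = 0 := by
    simp only [hf_add_left, hf_smul_left, hf_add_right, hf_smul_right, h12, h23, n2, p2, p3, pq,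
      hf_symm q1, hf_symm q2]
    linear_combination μ * star ν * hr + μ * star ν * (2 + hf x₁ x₃) * t2
  have aa : hf (μ • (x₁ + x₂ + s • p)) (μ • (x₁ + x₂ + s • p)) = 0 := by
    rw [hf_smul_right, hf_add_right, hf_add_right, hf_smul_right, a1, a2, ap]; ring
  have bb : hf (ν • (x₃ + x₂ + r • q)) (ν • (x₃ + x₂ + r • q)) = 0 := by
    rw [hf_smul_right, hf_add_right, hf_add_right, hf_smul_right, b3, b2, bq]; ring
  generalize μ • (x₁ + x₂ + s • p) = W at a0 a1 a2 aa ab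
  generalize ν • (x₃ + x₂ + r • q) = Y at b2 b3 b4 bb ab
  have nw := nm_add n2 a2 aa
  have ny := nm_add n2 b2 bb
  refine ⟨x₂ + Y, x₂ + W, ⟨ny, n2, ?_⟩, ⟨ny, n3, ?_⟩, ⟨ny, n4, ?_⟩, ⟨nw, n0, ?_⟩, ⟨nw, n1, ?_⟩,
    ⟨nw, n2, ?_⟩, ⟨nw, ny, ?_⟩⟩
  · rw [hf_add_left, n2, b2, add_zero]
  · rw [hf_add_left, h23, b3, add_zero]
  · rw [hf_add_left, b4]; linear_combination hf x₂ x₄ * t2
  · rw [hf_add_left, a0]; linear_combination hf x₂ x₀ * t2
  · rw [hf_add_left, h21, a1, add_zero]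
  · rw [hf_add_left, n2, a2, add_zero]
  · simp only [hf_add_left, hf_add_right, n2, a2, ab, hf_symm b2, add_zero]

theorem conn (h6 : 6 ≤ n) (a z : Vn n K) (ha : hf a a = 1) (hz : hf z z = 1) :
    Relation.ReflTransGen RN a z := by
  obtain ⟨p, q, pp, qq, pq, pa, pz, -, qa, qz, -⟩ := hypPair h6 a z z ha
  have b1 : hf ((1 + hf a z) • q) a = 0 := by rw [hf_smul_left, qa, mul_zero]
  have b2 : hf ((1 + hf a z) • q) ((1 + hf a z) • q) = 0 := by
    rw [hf_smul_left, hf_smul_right, qq, mul_zero, mul_zero]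
  have n1 := nm_add ha b1 b2
  have n2 := nm_add hz pz pp
  have r1 : RN a (a + (1 + hf a z) • q) := ⟨ha, n1, by rw [hf_add_right, ha, hf_symm b1, add_zero]⟩
  have r2 : RN (a + (1 + hf a z) • q) (z + p) := ⟨n1, n2, by
    simp only [hf_add_left, hf_add_right, hf_smul_left, qz, hf_symm pa, hf_one pq]
    linear_combination hf a z * two0 K⟩
  have r3 : RN (z + p) z := ⟨n2, hz, by rw [hf_add_left, hz, pz, add_zero]⟩
  exact ((Relation.ReflTransGen.single r1).tail r2).tail r3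

theorem jobPN : H67.SP.JobPN := fun _ _ _ _ _ _ _ h6 => ⟨pth h6, conn h6⟩

end H62.SP3PN
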