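import Cfsg.Agent.H86.SPIDef
import Cfsg.Agent.H59.SOFrame

/-! STD-SP chapter I, slot MW: Witt's theorem in `X₀` and in `X`. -/

set_option autoImplicit false
set_option linter.unusedSectionVars false

namespace H62.SPIMW

open H67.UA hiding Par
open H67.SP
open H67.SA (la cm)
open H59.SO (Om E gam Ind E_fix polar_self2 exists_sq)
open H56 H58 QuadraticMap H86.SPI Module

section Gen

variable {F V : Type} [Field F] [AddCommGroup V] [Module F V] {Q : QuadraticForm F V}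
  [FiniteDimensional F V]

theorem perp_le (nd : Q.polarBilin.Nondegenerate) {S : Submodule F V}
    (h : ∀ x ∈ perp Q S, Q x = 0) : perp Q S ≤ S := fun x hx => by
  rw [← perp_perp nd S]
  exact mem_perp.2 fun y hy => by
    rw [polar, h _ (add_mem hy hx), h _ hy, h _ hx]; simp

theorem exists_perp4 (nd : Q.polarBilin.Nondegenerate) (h8 : 8 ≤ finrank F V) {w : V}
    (hw : Q w ≠ 0) (a b c : V) : ∃ x, Q x ≠ 0 ∧ polar Q x w = 0 ∧ polar Q x a = 0 ∧
      polar Q x b = 0 ∧ polar Q x c = 0 := by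
  let S := Submodule.span F (Set.range ![w, a, b, c])
  have h1 : finrank F S ≤ 4 := (finrank_range_le_card (R := F) ![w, a, b, c]).trans (by simp)
  have h2 := finrank_perp nd S
  have h3 : ∃ x ∈ perp Q S, Q x ≠ 0 := by
    by_contra h
    push Not at h
    have h4 : perp Q S = S := Submodule.eq_of_le_of_finrank_le (perp_le nd h) (by omega)
    exact hw (h w (h4.ge (Submodule.subset_span ⟨0, rfl⟩)))
  obtain ⟨x, hx, h4⟩ := h3
  have h5 := fun i => mem_perp'.1 hx _ (Submodule.subset_span ⟨i, rfl⟩)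
  exact ⟨x, h4, h5 0, h5 1, h5 2, h5 3⟩

end Gen

variable {n : ℕ} {F : Type} [Field F] [StarRing F] [TrivialStar F] [CharP F 2] [Finite F]
  [p : Par n F] (m : MI n F)

theorem li_ac {x x' : Vn n F} (h : Li x x') (g : XU n F) : Li (ac g x) (ac g x') := fun a b hab =>
  h a b (ac_inj g (by rw [ac_add, ac_smul, ac_smul, hab, ac_zero]))

theorem tri0 : Tri (ev 0 : Vn n F) (ev 1) (ev (Fin.rev 1)) := by
  have h5 := p.five
  have h1 : (1 : Fin (n + 1)).val = 1 := by rw [Fin.val_one', Nat.mod_eq_of_lt (by omega)]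
  have h0 : (1 : Fin (n + 1)) ≠ 0 := fun h => by simp [h] at h1
  refine ⟨⟨q0_ev _, q0_ev _, ?_, fun a b h => ⟨?_, ?_⟩⟩, q0_ev _, ?_, by simp [hf_ev]⟩
  · rw [hf_ev, if_neg fun h => by
      have := congrArg Fin.val h; simp only [Fin.val_rev, Fin.val_zero] at this; omega]
  · simpa [ev_apply, h0.symm] using congrFun h 0
  · simpa [ev_apply, h0] using congrFun h 1
  · rw [hf_ev, if_neg fun h => h0 (Fin.rev_injective h)]

include m

theorem perp' (δ : F) (a b c : WW n F) : ∃ w, QD n F δ w = 1 ∧ polar (QD n F δ) w (w0 n F) = 0 ∧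
    polar (QD n F δ) w a = 0 ∧ polar (QD n F δ) w b = 0 ∧ polar (QD n F δ) w c = 0 := by
  obtain ⟨x, h0, h1, h2, h3, h4⟩ := exists_perp4 (m.par δ).nd (m.par δ).dim
    (w := w0 n F) (by rw [QD_w0]; exact one_ne_zero) a b c
  obtain ⟨s, hs⟩ := exists_sq (QD n F δ x)⁻¹
  exact ⟨s • x, by rw [H56.Q_smul, hs, inv_mul_cancel₀ h0], by simp [h1], by simp [h2],
    by simp [h3], by simp [h4]⟩

/-- A vector of `U` of norm one orthogonal to two given vectors. -/
theorem perpU (z z' : Vn n F) : ∃ a : Vn n F, q0 a = 1 ∧ hf a z = 0 ∧ hf a z' = 0 := by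
  obtain ⟨⟨a, s, r⟩, h0, h1, h2, h3, h4⟩ := perp' m 0 (w1 n F) (z, 0, 0) (z', 0, 0)
  simp only [polar_QD, w0, w1, hf_zero_right, mul_zero, mul_one, add_zero, zero_add] at h1 h2 h3 h4
  exact ⟨a, by simpa [QD_apply, h1, h2] using h0, h3, h4⟩

/-- Witt's theorem in `X`. -/
theorem wtW {T : Type} [AddCommGroup T] [Module F T] (A B : T →ₗ[F] WW n F)
    (hA : Function.Injective A) (hB : Function.Injective B)
    (hQ : ∀ t, QD n F 0 (B t) = QD n F 0 (A t)) {a : WW n F} (ha : QD n F 0 a ≠ 0)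
    (hp : ∀ t, polar (QD n F 0) a (B t) = 0) (t0 : T) (h0 : A t0 = w0 n F) (h1 : B t0 = w0 n F) :
    ∃ g : XU n F, ∀ t, (iO n F 0 g).1 (A t) = B t := by
  obtain ⟨k, hk⟩ := witt_maps (m.par 0).nd A B hA hB hQ
  obtain ⟨y, hy⟩ := (m.par 0).toPar0.exists_X k ha
  have h2 : ∀ t, y.1 (A t) = B t := fun t => by rw [hy _ (by rw [hk, hp]), hk]
  obtain ⟨g, rfl⟩ := m.rng 0 y (by rw [← h0, h2, h1, h0])
  exact ⟨g, h2⟩

/-- Witt's theorem in `X₀`. -/
theorem wtU {T : Type} [AddCommGroup T] [Module F T] (A B : T →ₗ[F] Vn n F)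
    (hA : ∀ t, A t = 0 → t = 0) (hB : ∀ t, B t = 0 → t = 0) (hQ : ∀ t, q0 (B t) = q0 (A t))
    {a : Vn n F} (ha : q0 a = 1) (hp : ∀ t, hf a (B t) = 0) :
    ∃ g ∈ X0 n F, ∀ t, ac g (A t) = B t := by
  obtain ⟨g, hg⟩ := wtW m (A.prodMap LinearMap.id) (B.prodMap LinearMap.id)
    (((injective_iff_map_eq_zero A).2 hA).prodMap Function.injective_id)
    (((injective_iff_map_eq_zero B).2 hB).prodMap Function.injective_id)
    (fun ⟨t, r, s⟩ => by simp [QD_apply, hQ]) (a := (a, 0, 0)) (by simp [QD_apply, ha])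
    (fun ⟨t, r, s⟩ => by simp [polar_QD, hp]) (0, 1, 0) (by simp [w0]) (by simp [w0])
  refine ⟨g, mem_X0.2 (by simpa [w1] using hg (0, 0, 1)), fun t => ?_⟩
  rw [← (m.isIo 0 g).2]
  exact congrArg Prod.fst (hg (t, 0, 0))

theorem q' (g : XU n F) (hg : g ∈ X0 n F) (v : Vn n F) : q0 (ac g v) = q0 v := by
  have h := (iO n F 0 g).1.map_polar (w1 n F) (lf v)
  rw [mem_X0.1 hg, m.lf] at h
  simp only [polar_QD, w1, lf, hf_zero_left, mul_zero, one_mul, add_zero, zero_add] at h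
  rw [← rt_sq (q0 v), ← h, rt_sq]

omit m in
/-- `c ↦ c x` -/
abbrev sp1 (x : Vn n F) : F →ₗ[F] Vn n F := LinearMap.toSpanSingleton F _ x

theorem wt1' (x z : Vn n F) (hx : q0 x = 0) (hx0 : x ≠ 0) (hz : q0 z = 0) (hz0 : z ≠ 0) :
    ∃ g ∈ X0 n F, ac g x = z := by
  obtain ⟨a, ha, h1, -⟩ := perpU m z z
  obtain ⟨g, hg, h⟩ := wtU m (sp1 x) (sp1 z) (by simp [hx0]) (by simp [hz0])
    (by simp [q0_smul, hx, hz]) ha (by simp [hf_smul_right, h1])
  exact ⟨g, hg, by simpa using h 1⟩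

theorem wt2' (x x' z z' : Vn n F) (hx : Ts x x') (hz : Ts z z') :
    ∃ g ∈ X0 n F, ac g x = z ∧ ac g x' = z' := by
  obtain ⟨a, ha, h1, h2⟩ := perpU m z z'
  have k : ∀ {x x' : Vn n F}, Ts x x' → ∀ t, (sp1 x).coprod (sp1 x') t = 0 → t = 0 :=
    fun h ⟨r, s⟩ e => by simpa using h.li r s e
  obtain ⟨g, hg, h⟩ := wtU m _ _ (k hx) (k hz) (by
    simp [q0_add, q0_smul, hf_smul_left, hf_smul_right, hx.l, hx.r, hx.p, hz.l, hz.r, hz.p]) ha
    (by simp [hf_add_right, hf_smul_right, h1, h2])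
  exact ⟨g, hg, by simpa using h (1, 0), by simpa using h (0, 1)⟩

theorem wt3' (x x' f z z' f' : Vn n F) (hx : Tri x x' f) (hz : Tri z z' f') :
    ∃ g ∈ X0 n F, ac g x = z ∧ ac g x' = z' ∧ ac g f = f' := by
  obtain ⟨a, ha, h1, h2⟩ := perpU m z z'
  have k : ∀ {x x' f : Vn n F}, Tri x x' f → ∀ t,
      ((sp1 x).coprod (sp1 x')).coprod (sp1 f) t = 0 → t = 0 := fun {x x' f} h ⟨⟨r, s⟩, c⟩ e => by
    have e1 : r • x + s • x' + c • f = 0 := e
    obtain rfl : c = 0 := by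
      simpa [hf_add_right, hf_smul_right, hf_self, hf_symm h.p, h.one] using congrArg (hf x') e1
    simpa using h.li r s (by simpa using e1)
  obtain ⟨g, hg, h⟩ := wtU m _ _ (k hx) (k hz) (by
    simp [q0_add, q0_smul, hf_add_left, hf_smul_left, hf_smul_right, hx.l, hx.r, hx.p, hz.l, hz.r,
      hz.p, hx.s, hz.s, hx.xf, hz.xf, hx.one, hz.one]) (a := a + hf a f' • z')
    (by simp [q0_add, q0_smul, hf_smul_right, ha, hz.r, h2])
    (by simp [hf_add_left, hf_add_right, hf_smul_left, hf_smul_right, h1, h2, hf_self,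
      hf_symm hz.p, hz.one, CharTwo.add_self_eq_zero])
  exact ⟨g, hg, by simpa using h ((1, 0), 0), by simpa using h ((0, 1), 0),
    by simpa using h ((0, 0), 1)⟩

omit m in
theorem sp_one (z : Vn n F) : ∃ g : XU n F, q0 (ac g z) = 0 := by
  by_cases h : z = 0
  · exact ⟨1, by simp [h]⟩
  obtain ⟨i, hi⟩ := Function.ne_iff.1 h
  have h1 : hf z ((rt (q0 z) / z i) • ev i.rev) = rt (q0 z) := by
    rw [hf_smul_right, hf_ev_right, Fin.rev_rev, star_trivial, div_mul_cancel₀ _ hi]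
  refine ⟨TT ((rt (q0 z) / z i) • ev i.rev), ?_⟩
  rw [ac_Tc (hf_self _) (star_trivial _), q0_add, q0_smul, q0_smul, q0_ev, h1, hf_smul_right, h1,
    star_trivial, one_mul, ← pow_two, rt_sq]
  simp [CharTwo.add_self_eq_zero]

omit m in
/-- `(a, b, c) ↦ a lf u + b lf v + c w₀` -/
noncomputable abbrev pl (u v : Vn n F) : (F × F) × F →ₗ[F] WW n F :=
  ((LinearMap.toSpanSingleton F _ (lf u)).coprod (LinearMap.toSpanSingleton F _ (lf v))).coprod
    (LinearMap.toSpanSingleton F _ (w0 n F))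

theorem sp' (u v : Vn n F) (h : hf u v = 0) :
    ∃ g : XU n F, q0 (ac g u) = 0 ∧ q0 (ac g v) = 0 := by
  by_cases hl : Li u v
  · have k1 : ∀ {u v : Vn n F}, Li u v → Function.Injective (pl u v) := fun {u v} hl =>
      (injective_iff_map_eq_zero _).2 fun ⟨⟨r, s⟩, c⟩ e => by
        obtain ⟨rfl, rfl⟩ := hl r s (by simpa [lf, w0] using congrArg Prod.fst e)
        simpa [w0] using e
    have k2 : ∀ {u v : Vn n F}, hf u v = 0 → ∀ t, QD n F 0 (pl u v t) = t.2 ^ 2 :=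
      fun {u v} h ⟨⟨r, s⟩, c⟩ => by
        have e1 : polar (QD n F 0) (lf u) (lf v) = 0 := by simp [polar_QD, lf, h]
        have e2 : ∀ u, polar (QD n F 0) (lf u) (w0 n F) = 0 := fun u => by simp [polar_QD, lf, w0]
        simp [H56.Q_add, H56.Q_smul, QD_lf, QD_w0, e1, e2, pow_two]
    obtain ⟨g, hg⟩ := wtW m _ _ (k1 hl) (k1 (tri0 (n := n) (F := F)).li)
      (fun t => by rw [k2 h, k2 (tri0 (n := n) (F := F)).p]) (a := w0 n F)
      (by rw [QD_w0]; exact one_ne_zero) (fun ⟨⟨r, s⟩, c⟩ => by simp [polar_QD, lf, w0])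
      ((0, 0), 1) (by simp) (by simp)
    have h1 := hg ((1, 0), 0)
    have h2 := hg ((0, 1), 0)
    simp only [LinearMap.coprod_apply, LinearMap.toSpanSingleton_apply, one_smul, zero_smul,
      add_zero, zero_add, m.lf] at h1 h2
    exact ⟨g, by rw [show ac g u = ev 0 from congrArg Prod.fst h1, q0_ev],
      by rw [show ac g v = ev 1 from congrArg Prod.fst h2, q0_ev]⟩
  · have k : ∃ (z : Vn n F) (r s : F), u = r • z ∧ v = s • z := by
      simp only [Li, not_forall] at hl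
      obtain ⟨a, b, e, hab⟩ := hl
      by_cases ha : a = 0
      · have hb : b ≠ 0 := fun hb => hab ⟨ha, hb⟩
        exact ⟨u, 1, 0, by simp, by simpa [ha, hb] using e⟩
      · exact ⟨v, -(a⁻¹ * b), 1, by
          rw [← inv_smul_smul₀ ha u, eq_neg_of_add_eq_zero_left e]; module, by simp⟩
    obtain ⟨z, r, s, rfl, rfl⟩ := k
    obtain ⟨g, hg⟩ := sp_one z
    exact ⟨g, by simp [ac_smul, q0_smul, hg], by simp [ac_smul, q0_smul, hg]⟩

omit m p in
theorem jobMW : JobMW := fun n F _ _ _ _ _ _ m =>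
  { q := q' m
    ee := fun x v hx hv => mem_X0.2 (by
      have := m.ee 0 x v 0 hv
      rw [zero_pow two_ne_zero, add_zero] at this
      rw [this]
      exact E_fix (by simp [polar_QD, lf_of hx, w1]) (by simp [polar_QD, w1]))
    ex1 := fun x hx h0 => by
      obtain ⟨g, hg, rfl⟩ := wt1' m _ x (q0_ev 0) (ev_ne 0) hx h0
      have t := tri0 (n := n) (F := F)
      exact ⟨ac g (ev 1), hx, by rw [q' m g hg, t.r], by rw [hf_ac, t.p], li_ac t.li g⟩
    ex2 := fun x x' h => by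
      have t := tri0 (n := n) (F := F)
      obtain ⟨g, hg, rfl, rfl⟩ := wt2' m _ _ x x' t.toTs h
      exact ⟨ac g (ev (Fin.rev 1)), h, by rw [q' m g hg, t.s], by rw [hf_ac, t.xf],
        by rw [hf_ac, t.one]⟩
    wt1 := wt1' m
    wt2 := wt2' m
    wt3 := wt3' m
    sp := sp' m
    perp := perp' m }

end H62.SPIMW
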