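import Cfsg.Agent.H32.HXSig
import Cfsg.Agent.H91.HXId

/-! STD-3D4 (row S3136), piece 0: the cubic extension `L / F` in characteristic two, its hexagonal
system and the coordinates `Co F L` on the Sylow `2`-subgroup of `³D₄(q)`.
Scalar identities: `cub F L` (inject into `L`, expand, `grind`). -/

set_option autoImplicit false
set_option linter.unusedSectionVars false
set_option linter.unusedSimpArgs false

namespace H62.TD

open H32.HX

/-- `L / F` is a cubic extension of finite fields of characteristic two. -/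
class C3 (F L : Type) [Field F] [Field L] [Algebra F L] : Prop where
  finF : Finite F
  finL : Finite L
  two : (2 : F) = 0
  card : Nat.card L = Nat.card F ^ 3

section Alg

variable {F L : Type} [Field F] [Field L] [Algebra F L]

/-- The embedding. -/
abbrev ι (L : Type) {F : Type} [Field F] [Field L] [Algebra F L] (a : F) : L := algebraMap F L a

variable (F) in
/-- The Frobenius map `y ↦ y ^ q`. -/
noncomputable def fr (y : L) : L := y ^ Nat.card F
variable (F) in
/-- The trace. -/
noncomputable def tr (y : L) : F := Algebra.trace F L y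
variable (F) in
/-- The norm. -/
noncomputable def nm (y : L) : F := Algebra.norm F y
variable (F) in
/-- The adjoint `y^# = y^q y^{q²}`. -/
noncomputable def sh (y : L) : L := fr F y * fr F (fr F y)
variable (F) in
/-- The cross product. -/
noncomputable def cr (z y : L) : L := fr F z * fr F (fr F y) + fr F y * fr F (fr F z)

theorem ι_inj : Function.Injective (ι L : F → L) := (algebraMap F L).injective

variable [h : C3 F L]

include h in
theorem finF' (L : Type) [Field L] [Algebra F L] [h : C3 F L] : Finite F := h.finF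
include h in
theorem finL' (F : Type) [Field F] [Algebra F L] [h : C3 F L] : Finite L := h.finL
theorem charF (L : Type) [Field L] [Algebra F L] [h : C3 F L] : CharP F 2 :=
  (CharP.charP_iff_prime_eq_zero Nat.prime_two).2 h.two
theorem twoL (F : Type) [Field F] [Algebra F L] [h : C3 F L] : (2 : L) = 0 := by
  rw [← map_ofNat (algebraMap F L) 2, h.two, map_zero]
theorem charL (F : Type) [Field F] [Algebra F L] [h : C3 F L] : CharP L 2 :=
  (CharP.charP_iff_prime_eq_zero Nat.prime_two).2 (twoL F)

theorem finrank_eq : Module.finrank F L = 3 := by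
  have := h.finF
  have := h.finL
  have hq : 2 ≤ Nat.card F := Finite.one_lt_card
  exact Nat.pow_right_injective hq (by
    simp only [← Module.natCard_eq_pow_finrank (K := F) (V := L), h.card])

variable (F L) in
/-- The Frobenius map as an algebra homomorphism. -/
noncomputable def frH : L →ₐ[F] L :=
  haveI := h.finF
  letI := Fintype.ofFinite F
  FiniteField.frobeniusAlgHom F L

theorem frH_apply (y : L) : frH F L y = fr F y := by
  have := h.finF
  simp [frH, fr, FiniteField.coe_frobeniusAlgHom, ← Nat.card_eq_fintype_card]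

@[simp] theorem fr_add (y z : L) : fr F (y + z) = fr F y + fr F z := by simp [← frH_apply]
@[simp] theorem fr_mul (y z : L) : fr F (y * z) = fr F y * fr F z := by simp [← frH_apply]
@[simp] theorem fr_zero : fr F (0 : L) = 0 := by simp [← frH_apply]
@[simp] theorem fr_one : fr F (1 : L) = 1 := by simp [← frH_apply]
@[simp] theorem fr_inv (y : L) : fr F y⁻¹ = (fr F y)⁻¹ := by simp [← frH_apply]
@[simp] theorem fr_div (y z : L) : fr F (y / z) = fr F y / fr F z := by simp [← frH_apply]
@[simp] theorem fr_pow (y : L) (n : ℕ) : fr F (y ^ n) = fr F y ^ n := by simp [← frH_apply]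
@[simp] theorem fr_ι (a : F) : fr F (algebraMap F L a) = algebraMap F L a := by simp [← frH_apply]
theorem fr_inj : Function.Injective (fr F : L → L) := fun a b e =>
  (frH F L).injective (show frH F L a = frH F L b by simpa only [frH_apply] using e)
@[simp] theorem fr_eq_zero {y : L} : fr F y = 0 ↔ y = 0 := by simp [← frH_apply]
@[simp] theorem fr3 (y : L) : fr F (fr F (fr F y)) = y := by
  have := h.finL
  let _ := Fintype.ofFinite L
  rw [fr, fr, fr, ← pow_mul, ← pow_mul, ← pow_three, ← h.card, Nat.card_eq_fintype_card,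
    FiniteField.pow_card]

theorem ι_tr (y : L) : algebraMap F L (tr F y) = y + fr F y + fr F (fr F y) := by
  have := h.finF
  have := h.finL
  rw [tr, FiniteField.algebraMap_trace_eq_sum_pow, finrank_eq]
  simp [Finset.sum_range_succ, sq, pow_mul, fr]

theorem ι_nm (y : L) : algebraMap F L (nm F y) = y * fr F y * fr F (fr F y) := by
  have := h.finF
  have := h.finL
  rw [nm, FiniteField.algebraMap_norm_eq_prod_pow, finrank_eq]
  simp [Finset.prod_range_succ, sq, pow_mul, fr]

theorem fr_eq_iff {y : L} : fr F y = y ↔ ∃ a : F, y = algebraMap F L a := by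
  refine ⟨fun e => ⟨tr F y, ?_⟩, by rintro ⟨a, rfl⟩; simp⟩
  have := charL (L := L) F
  rw [ι_tr, e, e]; grind

/-- Identities of scalars: inject into `L`, expand, `grind`. -/
scoped macro "cub " F:term:max L:term:max : tactic => `(tactic| (
  have := charL (L := $L) $F
  have := charF (F := $F) $L
  first
  | (apply (algebraMap $F $L).injective
     simp only [map_add, map_mul, map_pow, map_zero, map_one, map_inv₀, ι_tr, ι_nm, sh, cr, fr_add,
      fr_mul, fr_pow, fr_zero, fr_one, fr_inv, fr_ι, fr3]
     grind)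
  | (simp only [map_add, map_mul, map_pow, map_zero, map_one, map_inv₀, ι_tr, ι_nm, sh, cr, fr_add,
      fr_mul, fr_pow, fr_zero, fr_one, fr_inv, fr_ι, fr3]
     grind)
  | grind))

@[simp] theorem tr_add (y z : L) : tr F (y + z) = tr F y + tr F z := map_add _ _ _
@[simp] theorem tr_zero : tr F (0 : L) = 0 := map_zero _
@[simp] theorem tr_ι_mul (a : F) (y : L) : tr F (algebraMap F L a * y) = a * tr F y := by
  rw [← Algebra.smul_def, tr, map_smul, smul_eq_mul, tr]
@[simp] theorem nm_mul (y z : L) : nm F (y * z) = nm F y * nm F z := map_mul _ _ _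
@[simp] theorem nm_one : nm F (1 : L) = 1 := map_one _
@[simp] theorem nm_zero : nm F (0 : L) = 0 := (algebraMap F L).injective (by simp [ι_nm])
@[simp] theorem nm_eq_zero {y : L} : nm F y = 0 ↔ y = 0 := by
  rw [← (algebraMap F L).injective.eq_iff, ι_nm]; simp
@[simp] theorem nm_ι (a : F) : nm F (algebraMap F L a) = a ^ 3 :=
  (algebraMap F L).injective (by simp [ι_nm, pow_three, mul_assoc])
@[simp] theorem nm_inv (y : L) : nm F y⁻¹ = (nm F y)⁻¹ :=
  (algebraMap F L).injective (by simp [ι_nm]; ring)
@[simp] theorem nm_pow (y : L) (n : ℕ) : nm F (y ^ n) = nm F y ^ n := map_pow _ _ _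
@[simp] theorem tr_ι (a : F) : tr F (algebraMap F L a) = a := by cub F L
@[simp] theorem tr_one : tr F (1 : L) = 1 := by simpa using tr_ι (L := L) (1 : F)
@[simp] theorem tr_fr (y : L) : tr F (fr F y) = tr F y := by cub F L
@[simp] theorem nm_fr (y : L) : nm F (fr F y) = nm F y := by cub F L
theorem tr_sq (y : L) : tr F (y ^ 2) = tr F y ^ 2 := by cub F L
@[simp] theorem sh_zero : sh F (0 : L) = 0 := by simp [sh]
@[simp] theorem sh_one : sh F (1 : L) = 1 := by simp [sh]
@[simp] theorem sh_mul (y z : L) : sh F (y * z) = sh F y * sh F z := by simp [sh]; ring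
@[simp] theorem sh_ι (a : F) : sh F (algebraMap F L a) = algebraMap F L a ^ 2 := by simp [sh, sq]
@[simp] theorem sh_inv (y : L) : sh F y⁻¹ = (sh F y)⁻¹ := by simp [sh]; ring
@[simp] theorem sh_pow (y : L) (n : ℕ) : sh F (y ^ n) = sh F y ^ n := by simp [sh, mul_pow]
@[simp] theorem sh_eq_zero {y : L} : sh F y = 0 ↔ y = 0 := by simp [sh]
theorem sh_add (y z : L) : sh F (y + z) = sh F y + sh F z + cr F y z := by simp [sh, cr]; ring
theorem sh_sh (y : L) : sh F (sh F y) = algebraMap F L (nm F y) * y := by cub F L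
theorem mul_sh (y : L) : y * sh F y = algebraMap F L (nm F y) := by cub F L
theorem nm_sh (y : L) : nm F (sh F y) = nm F y ^ 2 := by cub F L
theorem tr_sh_mul (y : L) : tr F (sh F y * y) = nm F y := by cub F L
theorem nm_add (y z : L) :
    nm F (y + z) = nm F y + nm F z + tr F (sh F y * z) + tr F (sh F z * y) := by cub F L
theorem cr_comm (y z : L) : cr F y z = cr F z y := add_comm _ _
@[simp] theorem cr_self (y : L) : cr F y y = 0 := by cub F L
@[simp] theorem cr_zero_left (y : L) : cr F 0 y = 0 := by simp [cr]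
@[simp] theorem cr_zero_right (y : L) : cr F y 0 = 0 := by simp [cr]
theorem cr_add_left (y y' z : L) : cr F (y + y') z = cr F y z + cr F y' z := by simp [cr]; ring
theorem cr_add_right (y z z' : L) : cr F y (z + z') = cr F y z + cr F y z' := by simp [cr]; ring
theorem cr_ι_left (a : F) (y z : L) :
    cr F (algebraMap F L a * y) z = algebraMap F L a * cr F y z := by simp [cr]; ring
theorem cr_ι_right (a : F) (y z : L) :
    cr F y (algebraMap F L a * z) = algebraMap F L a * cr F y z := by simp [cr]; ring
theorem cr_mul (u y z : L) : cr F (u * y) (u * z) = sh F u * cr F y z := by simp [cr, sh]; ring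
theorem tr_cr (z y u : L) : tr F (cr F z y * u) = tr F (z * cr F y u) := by cub F L

/-- The trace form is nondegenerate. -/
theorem nondeg {z : L} (hz : ∀ y, tr F (z * y) = 0) : z = 0 := by
  by_contra h0
  simpa [h0] using hz z⁻¹

theorem cr_eq {z y : L} (hz : z ≠ 0) (e : cr F z y = 0) : ∃ c : F, y = algebraMap F L c * z := by
  have := charL (L := L) F
  have h1 : fr F z ≠ 0 := by simpa using hz
  have h4 : fr F (fr F z) ≠ 0 := by simpa using hz
  obtain ⟨c, hc⟩ := (fr_eq_iff (F := F) (y := y / z)).1 (fr_inj (F := F) (by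
    rw [fr_div, fr_div, div_eq_div_iff h4 h1]
    rw [cr] at e
    grind))
  exact ⟨c, by rw [← hc]; field_simp⟩

theorem cr_onto {z w : L} (hz : z ≠ 0) (e : tr F (z * w) = 0) : ∃ y, cr F z y = w := by
  have := charL (L := L) F
  have h1 : fr F z ≠ 0 := by simpa using hz
  have h4 : fr F (fr F z) ≠ 0 := by simpa using hz
  have h5 := ι_tr (F := F) (z * w)
  rw [e] at h5
  refine ⟨z * w / (fr F z * fr F (fr F z)), ?_⟩
  simp only [cr, fr_div, fr_mul, fr3, map_zero] at h5 ⊢
  field_simp
  grind

theorem nm_onto (a : F) : ∃ y : L, nm F y = a :=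
  have := h.finL
  FiniteField.norm_surjective F L a

theorem two_le_card (L : Type) [Field L] [Algebra F L] [h : C3 F L] : 2 ≤ Nat.card F :=
  have := h.finF; Finite.one_lt_card

/-- An element outside `F`. -/
theorem exists_not_ι : ∃ y : L, fr F y ≠ y := by
  by_contra hn
  push Not at hn
  have := h.finF
  have h1 : Nat.card L ≤ Nat.card F := Nat.card_le_card_of_surjective (algebraMap F L) fun y =>
    (fr_eq_iff.1 (hn y)).imp fun _ e => e.symm
  have h2 := two_le_card (F := F) L
  rw [h.card] at h1
  nlinarith [pow_three (Nat.card F), Nat.mul_le_mul h2 h2]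

/-- An element of norm one outside `F`. -/
theorem exists_nm_one : ∃ y : L, nm F y = 1 ∧ fr F y ≠ y := by
  have := charL (L := L) F
  -- `y = fr z / z`; if always in `F`, contradiction with `z` and `z + 1`
  obtain ⟨z, hz⟩ := exists_not_ι (F := F) (L := L)
  have z0 : z ≠ 0 := by rintro rfl; simp at hz
  have z1 : z + 1 ≠ 0 := fun e => hz (by rw [show z = 1 by grind]; simp)
  have n : ∀ w : L, w ≠ 0 → nm F (fr F w * w⁻¹) = 1 := fun w hw => by
    rw [nm_mul, nm_fr, nm_inv, mul_inv_cancel₀ (by simpa using hw)]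
  by_cases h1 : fr F (fr F z * z⁻¹) = fr F z * z⁻¹
  · refine ⟨_, n _ z1, fun h2 => hz ?_⟩
    have f0 : fr F z ≠ 0 := by simpa using z0
    have f1 : fr F z + 1 ≠ 0 := by simpa using (fr_eq_zero (F := F)).not.2 z1
    simp only [fr_mul, fr_inv, fr_add, fr_one] at h1 h2
    field_simp at h1 h2
    grind
  · exact ⟨_, n _ z0, h1⟩

variable (F L) in
/-- The hexagonal system. -/
noncomputable def hs : HS F L where
  T := Algebra.traceForm F L
  cr := LinearMap.mk₂ F (cr F) cr_add_left (fun a y z => by simp [Algebra.smul_def, cr_ι_left])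
    cr_add_right (fun a y z => by simp [Algebra.smul_def, cr_ι_right])
  sh := sh F
  N := nm F
  two := h.two
  finK := h.finF
  finL := h.finL
  ex := ⟨1, one_ne_zero⟩
  T_comm z y := by simp [mul_comm]
  nondeg z hz := nondeg (F := F) hz
  cr_comm := cr_comm
  cr_self := cr_self
  T_cr := tr_cr
  sh_smul t z := by simp [Algebra.smul_def]
  N_smul t z := by simp [Algebra.smul_def]
  N_ne z hz := by simpa using hz
  T_sh := tr_sh_mul
  cr_eq z y hz e := by simpa [Algebra.smul_def] using cr_eq hz e
  cr_onto z w hz e := cr_onto hz e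
  dich := .inr h.card

@[simp] theorem hs_T (z y : L) : (hs F L).T z y = tr F (z * y) := rfl
@[simp] theorem hs_cr (z y : L) : (hs F L).cr z y = cr F z y := rfl
@[simp] theorem hs_sh (z : L) : (hs F L).sh z = sh F z := rfl
@[simp] theorem hs_N (z : L) : (hs F L).N z = nm F z := rfl

end Alg

/-- Coordinates of `x₀(a) x₁(b) x₂(c) x₃(d) x₄(e) x₅(f)`; `x₀` long simple, `x₅` short simple,
`x₂` the centre. -/
@[ext] structure Co (F L : Type) where
  a : F
  b : L
  c : F
  d : L
  e : F
  f : L

namespace Co

variable {F L : Type} [Field F] [Field L] [Algebra F L]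

noncomputable instance instMulCo : Mul (Co F L) := ⟨fun p q =>
  ⟨p.a + q.a, p.b + q.b + algebraMap F L q.a * p.f,
    p.c + q.c + q.a ^ 2 * nm F p.f + q.a * tr F (q.b * sh F p.f) + tr F (sh F q.b * p.f) +
      tr F (q.b * p.d) + q.a * tr F (p.f * p.d) + q.a * p.e,
    p.d + q.d + cr F p.f q.b + algebraMap F L q.a * sh F p.f,
    p.e + q.e + tr F (p.f * q.d) + tr F (sh F p.f * q.b) + q.a * nm F p.f, p.f + q.f⟩⟩

instance instOneCo : One (Co F L) := ⟨⟨0, 0, 0, 0, 0, 0⟩⟩

noncomputable instance instInvCo : Inv (Co F L) := ⟨fun p =>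
  ⟨p.a, p.b + algebraMap F L p.a * p.f,
    p.c + p.a ^ 2 * nm F p.f + p.a * tr F (p.b * sh F p.f) + tr F (sh F p.b * p.f) +
      tr F (p.b * p.d) + p.a * p.e,
    p.d + cr F p.f p.b + algebraMap F L p.a * sh F p.f,
    p.e + tr F (p.f * p.d) + tr F (sh F p.f * p.b) + p.a * nm F p.f, p.f⟩⟩

variable (p q : Co F L)

@[simp] theorem mul_a : (p * q).a = p.a + q.a := rfl
@[simp] theorem mul_b : (p * q).b = p.b + q.b + algebraMap F L q.a * p.f := rfl
@[simp] theorem mul_c : (p * q).c =
    p.c + q.c + q.a ^ 2 * nm F p.f + q.a * tr F (q.b * sh F p.f) + tr F (sh F q.b * p.f) +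
      tr F (q.b * p.d) + q.a * tr F (p.f * p.d) + q.a * p.e := rfl
@[simp] theorem mul_d : (p * q).d =
    p.d + q.d + cr F p.f q.b + algebraMap F L q.a * sh F p.f := rfl
@[simp] theorem mul_e : (p * q).e =
    p.e + q.e + tr F (p.f * q.d) + tr F (sh F p.f * q.b) + q.a * nm F p.f := rfl
@[simp] theorem mul_f : (p * q).f = p.f + q.f := rfl
@[simp] theorem one_a : (1 : Co F L).a = 0 := rfl
@[simp] theorem one_b : (1 : Co F L).b = 0 := rfl
@[simp] theorem one_c : (1 : Co F L).c = 0 := rfl
@[simp] theorem one_d : (1 : Co F L).d = 0 := rfl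
@[simp] theorem one_e : (1 : Co F L).e = 0 := rfl
@[simp] theorem one_f : (1 : Co F L).f = 0 := rfl
@[simp] theorem inv_a : p⁻¹.a = p.a := rfl
@[simp] theorem inv_b : p⁻¹.b = p.b + algebraMap F L p.a * p.f := rfl
@[simp] theorem inv_c : p⁻¹.c =
    p.c + p.a ^ 2 * nm F p.f + p.a * tr F (p.b * sh F p.f) + tr F (sh F p.b * p.f) +
      tr F (p.b * p.d) + p.a * p.e := rfl
@[simp] theorem inv_d : p⁻¹.d = p.d + cr F p.f p.b + algebraMap F L p.a * sh F p.f := rfl
@[simp] theorem inv_e : p⁻¹.e =
    p.e + tr F (p.f * p.d) + tr F (sh F p.f * p.b) + p.a * nm F p.f := rfl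
@[simp] theorem inv_f : p⁻¹.f = p.f := rfl

noncomputable instance instGroupCo [C3 F L] : Group (Co F L) where
  mul_assoc p q r := by
    ext <;> simp only [mul_a, mul_b, mul_c, mul_d, mul_e, mul_f] <;> cub F L
  one_mul p := by ext <;> simp
  mul_one p := by ext <;> simp
  inv_mul_cancel p := by
    ext <;> simp only [mul_a, mul_b, mul_c, mul_d, mul_e, mul_f, inv_a, inv_b, inv_c, inv_d, inv_e,
      inv_f, one_a, one_b, one_c, one_d, one_e, one_f] <;> cub F L

end Co

end H62.TD
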