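import Cfsg.Agent.H81.SUInd
import Cfsg.Agent.H81.W2U

/-! STD-3D4 (row S3136), piece W: the wreath endgame, generic in the simple group `X`.
`X` carries subgroups `Z ≤ E ≤ Q ≤ U`, `V`, `R` (`Sg X`) with the facts `WF`.
Notes: `blueprints/STD3D4.md`, section W.  The kit below is the generic copy of `H81/SUInd`. -/

set_option autoImplicit false
set_option linter.unusedSectionVars false

namespace H62.TW

open H64.SG (O2 Syl Cz Cs Ns cjs Is2 Inv2 UF IsO2 fx mem_Cs mem_Cz mem_fx)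
open H67.SA (St cI cm mem_St_iff_map conj_mem_St mem_cjs conj_mem_cjs card_cjs cjs_inv_le cjs_swap
  mem_St_of_finite)
open H81.SU (El Ind cje cje_inj cje_apply range_cje map_cje eq_one_of_Cs el_zpowers mem_zpowers_two
  Cs_range_le ind_conj ind_one_iff conj_inj)
open Subgroup
open scoped commutatorElement

universe u

/-- The subgroups of `X` used in the endgame, and the parameter `q`. -/
structure Sg (X : Type) [Group X] where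
  q : ℕ
  U : Subgroup X
  Q : Subgroup X
  R : Subgroup X
  V : Subgroup X
  E : Subgroup X
  Z : Subgroup X

/-- The multiplier of `X` is trivial. -/
def FM (X : Type) [Group X] : Prop := ∀ (H : Type u) [Group H] [Finite H] (π : H →* X),
  Function.Surjective π → π.ker ≤ center H → commutator H = ⊤ → Function.Injective π

section Facts

variable {X : Type} [Group X] (d : Sg X)

/-- Facts on the Sylow subgroup `U`. -/
structure WU : Prop where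
  two_le : 2 ≤ d.q
  isP : IsPGroup 2 d.U
  cardU : Nat.card d.U = d.q ^ 12
  cardE : Nat.card d.E = d.q ^ 5
  cardZ : Nat.card d.Z = d.q
  ZE : d.Z ≤ d.E
  EQ : d.E ≤ d.Q
  QU : d.Q ≤ d.U
  RU : d.R ≤ d.U
  VU : d.V ≤ d.U
  el : El d.E
  nQ : d.U ≤ Ns d.Q
  nE : d.U ≤ Ns d.E
  zu : d.U ⊓ Cs d.U = d.Z
  nz : ∀ u ∈ d.U, u ∉ d.Z → d.Z ≤ ⁅zpowers u, d.U⁆
  vz : ∃ v ∈ d.U, ⁅zpowers v, d.U⁆ = d.Z
  cQ : ∀ u ∈ d.U, u ∈ d.Q ↔ ⁅zpowers u, ⁅d.U, d.U⁆⁆ ≤ d.Z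
  cV : ∀ u ∈ d.U, u ∈ d.V ↔ ⁅zpowers u, d.U⁆ ≤ d.Z
  cR : ∀ u ∈ d.U, u ∈ d.R ↔ u ∈ Cs d.V
  cE : d.E = ⁅d.R, d.R⁆
  nu : St d.U ≤ St d.E
  invU : d.U ≤ closure {u | u ∈ d.U ∧ u * u = 1}

/-- Facts on the involutions of `X`. -/
structure WI : Prop where
  simple : IsSimpleGroup X
  cen : center X = ⊥
  syl : Syl d.U ⊤
  gen : closure ({g | g * g = 1 ∧ g ∈ Ns d.E} ∪ {g | g * g = 1 ∧ g ∈ Ns d.Q ∧ g ∈ Cs d.Z}) = ⊤
  sz : ∀ g : X, g * g = 1 → ∃ Y ≤ Cz g, IsPGroup 2 Y ∧ d.q ^ 7 ≤ Nat.card Y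
  oi : ∀ g : X, g * g = 1 → ∃ z ∈ O2 (Cz g), Inv2 z
  cs : ∀ g : X, Inv2 g → ∃ D ≤ Cz g, Cz g ≤ Ns D ∧ IsPGroup 2 D ∧
    ∀ P ≤ Cz g, IsPGroup 2 P → ⁅P, P⁆ ≤ D
  ic : ∀ y : X, Inv2 y → ∃ (h : X) (D : Subgroup X), h * y * h⁻¹ ∈ d.E ∧
    IsO2 D (Cz (h * y * h⁻¹)) ∧ d.E ≤ D

/-- Facts on the automorphisms of `X`. -/
structure WA : Prop where
  out : ∃ (A : Type) (_ : CommGroup A) (lam : MulAut X →* A),
    ∀ β, lam β = 1 ↔ ∃ g, β = MulAut.conj g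
  ctE : ∀ β : MulAut X, (∀ a ∈ d.E, β a = a) → β ∈ cI d.E
  ub : ∀ β ∈ St d.U, Is2 β → β ∉ cI d.Z → d.q * Nat.card ↥(d.U ⊓ fx β) ≤ Nat.card d.U
  iu : ∀ β ∈ St d.U, Is2 β → (∀ z ∈ d.Z, β z = z) → β ∈ cI d.U
  ab : ∀ B : Subgroup (MulAut X), IsPGroup 2 B → Nat.card B < d.q ^ 13
  fs : ∀ β : MulAut X, β * β = 1 → (∀ g, β ≠ MulAut.conj g) →
    IsSimpleGroup (fx β) ∧ ∃ P ≤ fx β, IsPGroup 2 P ∧ ⁅P, P⁆ ≠ ⊥

/-- All facts. -/
structure WF : Prop where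
  u : WU d
  i : WI d
  a : WA d
  m : FM.{u} X

end Facts

section Amb

variable {X : Type} [Group X] {G : Type u} [Group G]

/-- The basic configuration. -/
structure B1 (e : X →* G) (t : G) : Prop where
  inj : Function.Injective e
  inv : Inv2 t
  cen : t ∈ Cs e.range
  cz : Cz t ≤ Ns e.range

/-- `C(L)` has cyclic Sylow `2`-subgroups. -/
structure B0 (e : X →* G) (t : G) : Prop extends B1 e t where
  cyc : ∀ R ≤ Cs e.range, IsPGroup 2 R → IsCyclic R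

/-- `⟨t⟩` is a Sylow `2`-subgroup of `C(L)`. -/
structure CE (e : X →* G) (t : G) : Prop extends B1 e t where
  two : ∀ R ≤ Cs e.range, IsPGroup 2 R → Nat.card R ≤ 2

/-- The germ of the wreath case. -/
structure WX (e : X →* G) (t : G) (z : X) (y : G) : Prop where
  ne : z ≠ 1
  sq : y * y = 1
  dec : e z = y * (t * y * t⁻¹)
  comm : ∀ g, Commute (e g * y * (e g)⁻¹) (t * y * t⁻¹)

/-- The wreath case. -/
structure CW (e : X →* G) (t : G) (e₁ e₂ : X →* G) : Prop where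
  inj : Function.Injective e₁
  comm : ∀ a b, e₁ a * e₂ b = e₂ b * e₁ a
  diag : ∀ a, e a = e₁ a * e₂ a
  sw : ∀ a, t * e₁ a * t⁻¹ = e₂ a

/-- `A₁ B₂` -/
abbrev pr (e₁ e₂ : X →* G) (A B : Subgroup X) : Subgroup G := A.map e₁ ⊔ B.map e₂
/-- `G₁ = L₁ L₂` -/
abbrev G12 (e₁ e₂ : X →* G) : Subgroup G := e₁.range ⊔ e₂.range

/-- Unique fixed point; the elements of `T ∩ 𝓜` swap; `𝓜 = N(G₁)`. -/
structure GW (d : Sg X) (e : X →* G) (t : G) (e₁ e₂ : X →* G) : Prop where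
  uf : UF (Ns (G12 e₁ e₂)) t
  odd : Odd (Nat.card (Cs (G12 e₁ e₂)))
  tx : ∀ g, g * g = 1 → IsConj t (t * e g)
  cE : Cs (d.E.map e) ≤ Ns (G12 e₁ e₂)
  pm : ∀ m ∈ Ns (G12 e₁ e₂), m ∈ Ns e₁.range ∧ m ∈ Ns e₂.range ∨
    cjs m e₁.range = e₂.range ∧ cjs m e₂.range = e₁.range
  sw : ∀ s ∈ Ns (G12 e₁ e₂), IsConj t s → cjs s e₁.range = e₂.range

/-- Case I, first half. -/
def W1a (d : Sg X) (e₁ e₂ : X →* G) : Prop := ∀ W : Subgroup G, IsPGroup 2 W →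
  W ≤ Ns (G12 e₁ e₂) → pr e₁ e₂ d.U d.U ≤ W → Ns W ≤ Ns (pr e₁ e₂ d.U d.U)

/-- Case I, second half. -/
def W1b (d : Sg X) (e₁ e₂ : X →* G) : Prop := Ns (pr e₁ e₂ d.U d.U) ≤ Ns (G12 e₁ e₂)

/-- Case II: centralisers of elements of order `4`. -/
def W3 (t : G) (e₁ e₂ : X →* G) : Prop := ∀ s ∈ Ns (G12 e₁ e₂), IsConj t s →
  ∀ y, Inv2 y → Cz (e₁ y * s) ≤ Ns (G12 e₁ e₂)

end Amb

/-- A statement for all `X` with the facts and all `e`, `t` with `CE e t`. -/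
def AllG (P : ∀ (X : Type) [Group X] (G : Type u) [Group G], Sg X → (X →* G) → G → Prop) : Prop :=
  ∀ (X : Type) [Group X] [Finite X] (d : Sg X), WF.{u} d →
    ∀ (G : Type u) [Group G] [Finite G] (e : X →* G) (t : G), CE e t → P X G d e t

def JobW0 : Prop := AllG.{u} fun _ _ _ _ _ e t => ∀ z y, WX e t z y → ∃ e₁ e₂, CW e t e₁ e₂

/-- A statement in the wreath case. -/
def AllW (P : ∀ (X : Type) [Group X] (G : Type u) [Group G],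
    Sg X → (X →* G) → G → (X →* G) → (X →* G) → Prop) : Prop :=
  AllG.{u} fun X _ G _ d e t => ∀ e₁ e₂ : X →* G, CW e t e₁ e₂ → P X G d e t e₁ e₂

def JobWU : Prop := AllW.{u} fun _ _ _ _ d e t e₁ e₂ => GW d e t e₁ e₂
def JobW1a : Prop := AllW.{u} fun _ _ _ _ d e t e₁ e₂ => GW d e t e₁ e₂ → W1a d e₁ e₂
def JobW1b : Prop := AllW.{u} fun _ _ _ _ d e t e₁ e₂ => GW d e t e₁ e₂ → W1b d e₁ e₂
def JobW3 : Prop := AllW.{u} fun _ _ _ _ d e t e₁ e₂ => GW d e t e₁ e₂ → W3 t e₁ e₂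
def JobWE : Prop := AllW.{u} fun _ _ _ _ d e t e₁ e₂ => GW d e t e₁ e₂ → W1a d e₁ e₂ →
  W1b d e₁ e₂ → W3 t e₁ e₂ → Ns (G12 e₁ e₂) = ⊤

/-! ### Kit -/

variable {X : Type} [Group X] {G : Type u} [Group G] {e e₁ e₂ : X →* G} {g t : G}

section B

theorem B1.cje (h : B1 e t) (g : G) : B1 (cje g e) (g * t * g⁻¹) where
  inj := cje_inj h.inj g
  inv := H9.UF.inv2_conj h.inv (isConj_iff.2 ⟨g, rfl⟩)
  cen := by rw [range_cje, ← H64.SG.cj_Cs]; exact conj_mem_cjs.2 h.cen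
  cz := by rw [range_cje, ← H64.SG.cj_Ns, ← H64.SG.cj_Cz]; exact map_mono h.cz

theorem B0.cje (h : B0 e t) (g : G) : B0 (cje g e) (g * t * g⁻¹) where
  toB1 := h.toB1.cje g
  cyc R h1 h2 := by
    rw [range_cje, ← H64.SG.cj_Cs] at h1
    have := h.cyc _ (cjs_inv_le h1) (h2.map _)
    exact isCyclic_of_surjective _ (R.equivMapOfInjective (MulAut.conj g⁻¹).toMonoidHom
      (MulAut.conj g⁻¹).injective).symm.surjective

theorem CE.cje (h : CE e t) (g : G) : CE (cje g e) (g * t * g⁻¹) where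
  toB1 := h.toB1.cje g
  two R h1 h2 := by
    rw [range_cje, ← H64.SG.cj_Cs] at h1
    exact card_cjs g⁻¹ R ▸ h.two _ (cjs_inv_le h1) (h2.map _)

theorem CE.b0 [Finite G] (h : CE e t) : B0 e t := by
  refine ⟨h.toB1, fun R h1 h2 => ?_⟩
  have := h.two R h1 h2
  have h0 : 0 < Nat.card R := Nat.card_pos
  exact isCyclic_of_card_dvd_prime (p := 2) (by interval_cases Nat.card R <;> simp)

theorem B1.comm (h : B1 e t) (s : X) : t * e s = e s * t := (h.cen _ ⟨s, rfl⟩).symm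
theorem B1.conj_eq (h : B1 e t) (s : X) : t * e s * t⁻¹ = e s := by
  rw [h.comm, mul_inv_cancel_right]
theorem B1.conj_t (h : B1 e t) (s : X) : e s * t * (e s)⁻¹ = t := by
  rw [← h.comm, mul_inv_cancel_right]
theorem B1.mem_Cz (h : B1 e t) (s : X) : e s ∈ Cz t := H64.SG.mem_Cz.2 (h.comm s)
theorem B1.range_le (h : B1 e t) : e.range ≤ Cz t := by rintro _ ⟨s, rfl⟩; exact h.mem_Cz s
theorem B1.inv_eq (h : B1 e t) : t⁻¹ = t := inv_eq_of_mul_eq_one_right h.inv.1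
theorem B1.card_zp (h : B1 e t) : Nat.card (zpowers t) = 2 := by
  rw [Nat.card_zpowers]; exact orderOf_eq_prime (by rw [pow_two, h.inv.1]) h.inv.2
theorem B1.not_mem (h : B1 e t) (hc : center X = ⊥) : t ∉ e.range := fun h1 =>
  h.inv.2 (eq_one_of_Cs h.inj hc h1 h.cen)

/-- An element of `C(L)` of square `1` commuting with `t` is `1` or `t`. -/
theorem B0.eq_or [Finite G] (h : B0 e t) {k : G} (hk : k ∈ Cs e.range) (h2 : k * k = 1)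
    (hc : t * k = k * t) : k = 1 ∨ k = t := by
  have h3 : El (zpowers t ⊔ zpowers k) := (el_zpowers h.inv.1).sup (el_zpowers h2)
    (zpowers_le.2 (H64.SG.mem_Cs_zpowers.2 hc.symm))
  have := h.cyc _ (sup_le (zpowers_le.2 h.cen) (zpowers_le.2 hk)) h3.isP
  obtain ⟨⟨a, ha⟩, h4⟩ := IsCyclic.exists_generator (α := ↥(zpowers t ⊔ zpowers k))
  have h5 : ∀ b ∈ zpowers t ⊔ zpowers k, b = 1 ∨ b = a := fun b hb => by
    obtain ⟨i, hi⟩ := h4 ⟨b, hb⟩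
    exact (mem_zpowers_two (h3 a ha)).1 ⟨i, congrArg Subtype.val hi⟩
  rcases h5 k (mem_sup_right (mem_zpowers k)) with h6 | h6
  · exact Or.inl h6
  · exact Or.inr (h6.trans ((h5 t (mem_sup_left (mem_zpowers t))).resolve_left h.inv.2).symm)

/-- A `2`-element of `C(L)` commuting with `t` is `1` or `t`. -/
theorem CE.eq_or [Finite G] (h : CE e t) {k : G} (hk : k ∈ Cs e.range) (h2 : Is2 k)
    (hc : t * k = k * t) : k = 1 ∨ k = t := by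
  have hp : IsPGroup 2 ↥(zpowers t ⊔ zpowers k) := (H9.UF.pg_zp h.inv.1).to_sup_of_normal_left'
    h2.zpowers ((zpowers_le.2 (H64.SG.mem_Cs_zpowers.2 hc)).trans (H64.SG.Cs_le_Ns _))
  have h3 := h.two _ (sup_le (zpowers_le.2 h.cen) (zpowers_le.2 hk)) hp
  have h5 : zpowers t = zpowers t ⊔ zpowers k := eq_of_le_of_card_ge le_sup_left (h.card_zp ▸ h3)
  exact (mem_zpowers_two h.inv.1).1 (h5 ▸ mem_sup_right (mem_zpowers k))

/-- A `2`-element `≠ 1` of `C(L)` is conjugate to `t` in `C(L)`. -/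
theorem CE.conj [Finite G] (h : CE e t) {k : G} (hk : k ∈ Cs e.range) (h2 : Is2 k) (h1 : k ≠ 1) :
    ∃ c ∈ Cs e.range, k = c * t * c⁻¹ := by
  obtain ⟨S, hS, h3⟩ := H98.exists_isSyl_le (H9.UF.pg_zp h.inv.1) (zpowers_le.2 h.cen)
  have h4 : zpowers t = S := eq_of_le_of_card_ge h3 (h.card_zp ▸ h.two S hS.1 hS.2.1)
  obtain ⟨c, hc, h5⟩ := hS.exists_cj_le h2.zpowers (zpowers_le.2 hk)
  have h6 : c * k * c⁻¹ ∈ zpowers t := h4 ▸ h5 ⟨k, mem_zpowers k, rfl⟩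
  rcases (mem_zpowers_two h.inv.1).1 h6 with h7 | h7
  · exact absurd (by simpa using h7) h1
  · exact ⟨c⁻¹, inv_mem hc, by rw [← h7]; group⟩

end B

section Cases

variable {A B : Subgroup X}

theorem CW.eq (h : CW e t e₁ e₂) : e₂ = cje t e₁ := MonoidHom.ext fun a => (h.sw a).symm
theorem CW.inj₂ (h : CW e t e₁ e₂) : Function.Injective e₂ := h.eq ▸ cje_inj h.inj t
theorem CW.symm (h : CW e t e₁ e₂) (ht : t * t = 1) : CW e t e₂ e₁ :=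
  ⟨h.inj₂, fun a b => (h.comm b a).symm, fun a => by rw [h.diag, h.comm], fun a => by
    rw [← h.sw, show t * (t * e₁ a * t⁻¹) * t⁻¹ = t * t * e₁ a * (t * t)⁻¹ by group, ht]; simp⟩
theorem CW.cje (h : CW e t e₁ e₂) (g : G) : CW (cje g e) (g * t * g⁻¹) (cje g e₁) (cje g e₂) :=
  ⟨cje_inj h.inj g, fun a b => by simp only [cje_apply, conj_mul, h.comm],
    fun a => by simp only [cje_apply, conj_mul, h.diag],
    fun a => by rw [cje_apply, cje_apply, ← h.sw]; group⟩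
theorem CW.cjs_map (h : CW e t e₁ e₂) (A : Subgroup X) : cjs t (A.map e₁) = A.map e₂ := by
  rw [h.eq, map_cje]
theorem CW.cjs_range (h : CW e t e₁ e₂) : cjs t e₁.range = e₂.range := by rw [h.eq, range_cje]
theorem CW.le_Cs (h : CW e t e₁ e₂) : e₂.range ≤ Cs e₁.range := by
  rintro _ ⟨b, rfl⟩ _ ⟨a, rfl⟩; exact h.comm a b
theorem CW.le_Cs' (h : CW e t e₁ e₂) : e₁.range ≤ Cs e₂.range := by
  rintro _ ⟨a, rfl⟩ _ ⟨b, rfl⟩; exact (h.comm a b).symm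
theorem CW.mem_pr (h : CW e t e₁ e₂) : g ∈ pr e₁ e₂ A B ↔ ∃ a ∈ A, ∃ b ∈ B, g = e₁ a * e₂ b := by
  rw [H98.mem_sup_right_norm (((map_le_range _ _).trans h.le_Cs).trans
    ((Cs_range_le A).trans (H64.SG.Cs_le_Ns _)))]
  constructor
  · rintro ⟨_, ⟨a, ha, rfl⟩, _, ⟨b, hb, rfl⟩, rfl⟩; exact ⟨a, ha, b, hb, rfl⟩
  · rintro ⟨a, ha, b, hb, rfl⟩; exact ⟨_, ⟨a, ha, rfl⟩, _, ⟨b, hb, rfl⟩, rfl⟩
theorem pr_top : pr e₁ e₂ ⊤ ⊤ = G12 e₁ e₂ := by simp only [pr, G12, MonoidHom.range_eq_map]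
theorem pr_le (A B : Subgroup X) : pr e₁ e₂ A B ≤ G12 e₁ e₂ :=
  sup_le_sup (map_le_range _ _) (map_le_range _ _)
theorem pr_mono {A' B' : Subgroup X} (h : A ≤ A') (h' : B ≤ B') : pr e₁ e₂ A B ≤ pr e₁ e₂ A' B' :=
  sup_le_sup (map_mono h) (map_mono h')
theorem pr_comm (A B : Subgroup X) : pr e₂ e₁ A B = pr e₁ e₂ B A := sup_comm _ _
theorem G12_comm : G12 e₂ e₁ = G12 e₁ e₂ := sup_comm _ _
theorem CW.mem_G12 (h : CW e t e₁ e₂) : g ∈ G12 e₁ e₂ ↔ ∃ a b, g = e₁ a * e₂ b := by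
  rw [← pr_top, h.mem_pr]; simp
theorem CW.map_le (h : CW e t e₁ e₂) (A : Subgroup X) : A.map e ≤ pr e₁ e₂ A A := by
  rintro _ ⟨a, ha, rfl⟩; exact h.mem_pr.2 ⟨a, ha, a, ha, h.diag a⟩
theorem CW.le (h : CW e t e₁ e₂) : e.range ≤ G12 e₁ e₂ := by
  rintro _ ⟨a, rfl⟩; exact h.mem_G12.2 ⟨a, a, h.diag a⟩
theorem CW.mul_mul (h : CW e t e₁ e₂) (a b c d : X) :
    e₁ a * e₂ b * (e₁ c * e₂ d) = e₁ (a * c) * e₂ (b * d) := by
  rw [map_mul, map_mul, mul_assoc, ← mul_assoc (e₂ b), ← h.comm]; group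
theorem CW.G12_le_Ns (h : CW e t e₁ e₂) : G12 e₁ e₂ ≤ Ns e₁.range :=
  sup_le le_normalizer (h.le_Cs.trans (H64.SG.Cs_le_Ns _))
theorem CW.G12_le_Ns' (h : CW e t e₁ e₂) : G12 e₁ e₂ ≤ Ns e₂.range :=
  sup_le (h.le_Cs'.trans (H64.SG.Cs_le_Ns _)) le_normalizer
theorem CW.ind₁ (h : CW e t e₁ e₂) (a b : X) : Ind e₁ (e₁ a * e₂ b) (MulAut.conj a) := by
  simpa using (ind_conj a).mul (ind_one_iff.2 (h.le_Cs ⟨b, rfl⟩))
theorem CW.ind₂ (h : CW e t e₁ e₂) (a b : X) : Ind e₂ (e₁ a * e₂ b) (MulAut.conj b) := by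
  simpa using (ind_one_iff.2 (h.le_Cs' ⟨a, rfl⟩)).mul (ind_conj b)
theorem CW.cjs_pr (h : CW e t e₁ e₂) (ht : t * t = 1) (A B : Subgroup X) :
    cjs t (pr e₁ e₂ A B) = pr e₁ e₂ B A := by
  rw [cjs, Subgroup.map_sup]
  exact (congrArg₂ _ (h.cjs_map A) ((h.symm ht).cjs_map B)).trans (sup_comm _ _)
theorem CW.t_mem_Ns (h : CW e t e₁ e₂) (ht : t * t = 1) (A : Subgroup X) :
    t ∈ Ns (pr e₁ e₂ A A) := conj_mem_St.1 (mem_St_iff_map.2 (h.cjs_pr ht A A))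
theorem CW.isP_pr (h : CW e t e₁ e₂) (hA : IsPGroup 2 A) (hB : IsPGroup 2 B) :
    IsPGroup 2 (pr e₁ e₂ A B) :=
  (hA.map e₁).to_sup_of_normal_left' (hB.map e₂) (((map_le_range _ _).trans h.le_Cs).trans
    ((Cs_range_le A).trans (H64.SG.Cs_le_Ns _)))
theorem CW.el_pr (h : CW e t e₁ e₂) (hA : El A) (hB : El B) : El (pr e₁ e₂ A B) :=
  (hA.map e₁).sup (hB.map e₂) (((map_le_range _ _).trans h.le_Cs').trans (Cs_range_le B))
theorem mem_Cs_G12 : g ∈ Cs (G12 e₁ e₂) ↔ g ∈ Cs e₁.range ∧ g ∈ Cs e₂.range :=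
  ⟨fun h => ⟨centralizer_le (SetLike.coe_subset_coe.2 le_sup_left) h,
    centralizer_le (SetLike.coe_subset_coe.2 le_sup_right) h⟩, fun h a ha => mem_Cz.1
      ((sup_le (fun b hb => mem_Cz.2 (h.1 b hb).symm) (fun b hb => mem_Cz.2 (h.2 b hb).symm) :
        G12 e₁ e₂ ≤ Cz g) ha) |>.symm⟩
theorem mem_Ns_G12 (h1 : g ∈ Ns e₁.range) (h2 : g ∈ Ns e₂.range) : g ∈ Ns (G12 e₁ e₂) :=
  H98.le_normalizer_sup (zpowers_le.2 h1) (zpowers_le.2 h2) (mem_zpowers g)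

theorem GW.symm {d : Sg X} (h : GW d e t e₁ e₂) : GW d e t e₂ e₁ := by
  have hG : G12 e₂ e₁ = G12 e₁ e₂ := G12_comm
  refine ⟨hG ▸ h.uf, hG ▸ h.odd, h.tx, hG ▸ h.cE, fun m hm => ?_, fun s hs c' => ?_⟩
  · rw [hG] at hm
    rcases h.pm m hm with h1 | h1
    exacts [Or.inl h1.symm, Or.inr h1.symm]
  · rw [hG] at hs
    exact cjs_swap (H9.UF.inv2_conj h.uf.inv c').1 (h.sw s hs c')

variable (hc : center X = ⊥)
include hc

theorem CW.inj2 (h : CW e t e₁ e₂) {a b c d : X} (h1 : e₁ a * e₂ b = e₁ c * e₂ d) : a = c ∧ b = d :=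
  ⟨conj_inj hc ((h.ind₁ a b).unique h.inj (h1 ▸ h.ind₁ c d)),
    conj_inj hc ((h.ind₂ a b).unique h.inj₂ (h1 ▸ h.ind₂ c d))⟩
theorem CW.eq_one (h : CW e t e₁ e₂) (h1 : g ∈ e₁.range) (h2 : g ∈ e₂.range) : g = 1 :=
  eq_one_of_Cs h.inj hc h1 (h.le_Cs h2)
theorem CW.mem_pr' (h : CW e t e₁ e₂) {a b : X} : e₁ a * e₂ b ∈ pr e₁ e₂ A B ↔ a ∈ A ∧ b ∈ B :=
  h.mem_pr.trans ⟨fun ⟨_, h1, _, h2, h3⟩ => ⟨(h.inj2 hc h3).1 ▸ h1, (h.inj2 hc h3).2 ▸ h2⟩,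
    fun h1 => ⟨a, h1.1, b, h1.2, rfl⟩⟩
/-- `G₁ = X × X` -/
theorem CW.cop_inj (h : CW e t e₁ e₂) : Function.Injective (e₁.noncommCoprod e₂ h.comm) :=
  fun _ _ h1 => Prod.ext (h.inj2 hc h1).1 (h.inj2 hc h1).2
omit hc in
theorem CW.map_cop (h : CW e t e₁ e₂) (A B : Subgroup X) :
    (A.prod B).map (e₁.noncommCoprod e₂ h.comm) = pr e₁ e₂ A B := by
  ext a
  rw [h.mem_pr]
  exact ⟨fun ⟨p, h1, h2⟩ => ⟨p.1, h1.1, p.2, h1.2, h2.symm⟩,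
    fun ⟨a, h1, b, h2, h3⟩ => ⟨(a, b), ⟨h1, h2⟩, h3.symm⟩⟩
theorem CW.card_pr (h : CW e t e₁ e₂) (A B : Subgroup X) :
    Nat.card (pr e₁ e₂ A B) = Nat.card A * Nat.card B := by
  rw [← h.map_cop, card_map_of_injective (h.cop_inj hc), Nat.card_congr (A.prodEquiv B).toEquiv,
    Nat.card_prod]
omit hc in
theorem CW.syl [Finite X] [Finite G] (h : CW e t e₁ e₂) {U : Subgroup X} (hs : Syl U ⊤) :
    Syl (pr e₁ e₂ U U) (G12 e₁ e₂) := by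
  have h1 : Syl (U.prod U) ⊤ := ⟨le_top, H64.SG.isPGroup_iff_is2.2 fun p hp => by
    have := ((H64.SG.isPGroup_iff_is2.1 hs.2.1 _ hp.1).map (MonoidHom.inl _ X)).mul
      ((H64.SG.isPGroup_iff_is2.1 hs.2.1 _ hp.2).map (MonoidHom.inr _ _)) (by simp)
    simpa using this, by
    have := hs.2.2
    rw [relIndex_top_right] at this ⊢
    rw [index_prod]; exact this.mul this⟩
  rw [← pr_top, ← h.map_cop, ← h.map_cop, top_prod_top]
  exact H64.SG.syl_iff.2 ((H64.SG.syl_iff.1 h1).map _)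

end Cases

end H62.TW
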